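import Cfsg.Agent.H129.UntwTwo
import Cfsg.Agent.H568.RowTools_m3
import Cfsg.Agent.H129.WData
import Cfsg.Agent.H129.RootFast
import Cfsg.Agent.S1092
import Cfsg.Agent.S1093
import Cfsg.Agent.ChevFast.E7
import Cfsg.Agent.ChevFast.E8
import Cfsg.Agent.ChevFast.F4
import Cfsg.Agent.ChevFast.Lin
import Cfsg.Agent.FastGrp
import Cfsg.Agent.Prune
set_option linter.all false

section
prune_inst 0x7ffeffffeff8bfffffff7e7ffefddfffdff9ffffeffffffbffedf3ff3f9f6b63dbe5fbafffe4daff9ff6e2b630f87b53ffffffffef6ffc7ffffdfff45ffbffdffdf7bf8d51febcb41ff64fffebf07fce7f3fffffffffffffffffffffffffffffffffffffffff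

-- part: H719/RowHasT_mg
section
prune_inst 0x180000000000000000000000000000000000000000000020010001000002001000005000000000000000000000000000000000400000000000000000000000000000000000000000000000000000000000000000000000000000000
set_option linter.all false
open scoped Cfsg.Agent.FastGrp

-- part: H719/RowTorus
section
/-!
# Cyclic tori with small centralisers (helper719)

`D` a tabulated datum, `F` a finite field with `q = p ^ e` elements, `f : F →+* k`, `k` algebraically closed and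
locally finite, `Cyc` data of a torus of order `N = f_w(q)`, `N0 ∣ N` prime to the order of the Weyl group, to `d'` and
to the values of the functional `Gq` on the roots.

* `Tor` : an element `x` of order `N0` of `D.group F`, conjugate in `D.group k` to a power of the generator `t` of the
  twisted torus, such that the centraliser of every `1 ≠ s ∈ ⟨x⟩` in `D.group k` is the torus;
* `exists_tor` : existence;
* `Tor.pow_eq_one` : everything in `D.group F` commuting with `1 ≠ s ∈ ⟨x⟩` is killed by `N`.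
-/

set_option autoImplicit false
set_option linter.unusedSectionVars false

namespace Cfsg.Agent.H719.RowTorus

open CoxeterSystem Cfsg Cfsg.Lie Cfsg.Lie.ChevalleyDatum
open Cfsg.Agent.ChevalleyStructure Cfsg.Agent.ChevalleyStructure.Elts Cfsg.Agent.ChevalleyStructure.CoxeterGeom
  Cfsg.Agent.ChevalleyStructure.CoxeterGeomTypes Cfsg.Agent.ChevalleyStructure.NPerm
open Cfsg.Agent.Tits.Roots Cfsg.Agent.Tits.Core Cfsg.Agent.Nodes Cfsg.Agent.Nodes.Reps Cfsg.Agent.Nodes.BNOf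
  Cfsg.Agent.Nodes.RGDChev Cfsg.Agent.Nodes.Bruhat Cfsg.Agent.Nodes.SubComb Cfsg.Agent.Nodes.Coroot
open Cfsg.Agent.KFacts.RgdField Cfsg.Agent.KFacts.RgdChevCoord Cfsg.Agent.BpExc.TorCent Cfsg.Agent.BpExc.TorChev
open Cfsg.Agent.GpExc.Field Cfsg.Agent.BpExc.Tow Cfsg.Agent.BpExc.TowChev Cfsg.Agent.BpExc.Fr
  Cfsg.Agent.BpExc.LangFr Cfsg.Agent.LangThm Cfsg.Agent.BpExc Cfsg.Agent.H129.TorusChar Cfsg.Agent.H129.TorusCent
  Cfsg.Agent.H129.TorusTw Cfsg.Agent.H129.TorusMain Cfsg.Agent.H129.TorusUntw Cfsg.Agent.H129.UntwTwo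

universe u

/-- An element of order prime to `d` with `y ^ d` in `R` is in `R`. -/
theorem mem_of_pow_mem {Y : Type*} [Group Y] {R : Subgroup Y} {y : Y} {d n : ℕ} (hy : y ^ n = 1)
    (hd : y ^ d ∈ R) (hdn : Nat.Coprime d n) : y ∈ R := by
  have h1 : y ^ ((d : ℤ) * Nat.gcdA d n + (n : ℤ) * Nat.gcdB d n) = y := by
    rw [← Nat.gcd_eq_gcd_ab, hdn]
    simp
  rw [← h1, zpow_add, zpow_mul, zpow_mul, zpow_natCast, zpow_natCast, hy, one_zpow, mul_one]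
  exact zpow_mem hd _

section

variable {D : ChevalleyDatum} {l : ℕ} {M : CoxeterMatrix (Fin l)} (hp : IsType D l M) {k : Type u} [Field k]
  {W : Type*} [Group W] (cs : CoxeterSystem M W) {p e : ℕ} [Fact p.Prime] [CharP k p]
  {F : Type u} [Field F] [Fintype F] (f : F →+* k)

/-- The element `x` of order `N0`, conjugate to `t ^ (N / N0)`. -/
structure Tor [IsAlgClosed k] (p e : ℕ) [Fact p.Prime] [CharP k p] {hN : NSys M (TT D k) (nc hp k)} (w : W)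
    (B : Fin l → Fin l → ℤ) (N N0 : ℕ) (n z t : ↥(D.group k)) (u : k) (x : ↥(D.group F)) : Prop where
  hn : Rp cs hN w n
  hz : n = z⁻¹ * phi D k p e z
  ht : t ∈ TT D k
  fixed : n * phi D k p e t * n⁻¹ = t
  order : orderOf t = N
  prim : IsPrimitiveRoot u N
  char : ∀ y, cX hp t y = u ^ Gq B ((p ^ e : ℕ) : ℤ) y
  gen : ∀ s ∈ TT D k, n * phi D k p e s * n⁻¹ = s → s ∈ Subgroup.zpowers t
  hx : orderOf x = N0
  emb_x : emb hp.inList f x = z * t ^ (N / N0) * z⁻¹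
  cent : ∀ s ∈ Subgroup.zpowers x, s ≠ 1 → ∀ y : ↥(D.group k), y * emb hp.inList f s = emb hp.inList f s * y →
    z⁻¹ * y * z ∈ TT D k

/-- An element of prime order `r` of the torus is regular. -/
theorem regular (p : ℕ) [Fact p.Prime] [CharP k p] [IsAlgClosed k] [Finite W] (hk : LocFin k) {t : ↥(D.group k)} (ht : t ∈ TT D k)
    {r : ℕ} (hr : r.Prime) (hrW : ¬ r ∣ Nat.card W) (hpow : ∀ a, IsRoot cs hp.isCartan a → cX hp t a ^ r = 1)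
    (hne : ∀ a, IsRoot cs hp.isCartan a → cX hp t a ≠ 1) {y : ↥(D.group k)} (hy : y * t = t * y) : y ∈ TT D k := by
  refine mem_TT_of_comm hp cs ht hk p hne (fun w' hw' => ?_) hy
  refine stab_eq_one hp cs ht hk p hr hrW (m := 1) (fun a ha => by rw [one_mul]; exact hpow a ha)
    (fun a ha h1 => absurd (by rwa [pow_one] at h1) (hne a ha)) ?_ hw'
  rintro a ⟨ha, h1⟩
  rw [pow_one] at h1
  exact absurd h1 (hne a ha)

/-- **Existence.** -/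
theorem exists_tor [IsAlgClosed k] [Finite W] (hl : 0 < l) (hk : LocFin k) {hN : NSys M (TT D k) (nc hp k)}
    (he : 0 < e) (hq : Fintype.card F = p ^ e) {d' : ℕ}
    {B' : Fin l → Fin l → ℤ} (hB : InvC D l d' B') (hd' : d' ≠ 0) (w : W) {V B : Fin l → Fin l → ℤ} {c : Fin l → ℤ}
    (h : Cyc l (theta hp cs w (AddEquiv.refl (Fin l → ℤ))) V B c) {N N0 : ℕ} (hfN : fN c ((p ^ e : ℕ) : ℤ) = N)
    (hpN : ¬ p ∣ N) (hN0 : N0 ∣ N)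
    (hgood : ∀ r, r.Prime → r ∣ N0 → ¬ r ∣ Nat.card W ∧ ¬ r ∣ d' ∧
      ∀ a, IsRoot cs hp.isCartan a → ¬ (r : ℤ) ∣ Gq B ((p ^ e : ℕ) : ℤ) a) :
    ∃ (n z t : ↥(D.group k)) (u : k) (x : ↥(D.group F)), Tor hp cs f p e (hN := hN) w B N N0 n z t u x := by
  have hNne : N ≠ 0 := fun h0 => hpN (by rw [h0]; exact dvd_zero p)
  have hN0ne : N0 ≠ 0 := fun h0 => hNne (by rw [h0] at hN0; exact Nat.eq_zero_of_zero_dvd hN0)
  have hNk : (N : k) ≠ 0 := by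
    rw [Ne, CharP.cast_eq_zero_iff k p]
    exact hpN
  have hσ := isFrob_phi (D := D) (k := k) (p := p) (e := e)
  have F' := fr_phi (k := k) (p := p) (e := e) hp cs
  obtain ⟨n, hn⟩ := exists_rp cs hN w
  obtain ⟨z, hz⟩ := lang_all hp cs he hσ F' 1 n
  rw [map_one, one_mul] at hz
  obtain ⟨t, ht, hθ, htN, ⟨u, hu, hcX⟩, hgen⟩ := exists_gen hp h hl hB hd' (q := p ^ e) hfN hNk
  have hτ : n * phi D k p e t * n⁻¹ = t := (tau_iff hp cs hk hσ F' hn ht).2 hθ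
  obtain ⟨m, hm⟩ := hN0
  have hNm : N / N0 = m := by rw [hm, Nat.mul_div_cancel_left _ (Nat.pos_of_ne_zero hN0ne)]
  have hm0 : m ≠ 0 := by rintro rfl; rw [mul_zero] at hm; exact hNne hm
  -- the element `x`
  have hy0 : phi D k p e (z * t ^ m * z⁻¹) = z * t ^ m * z⁻¹ :=
    conj_fixed hz hτ (Subgroup.npow_mem_zpowers t m)
  have hdN0 : Nat.Coprime d' N0 := by
    apply Nat.Coprime.symm
    rw [Nat.coprime_iff_gcd_eq_one]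
    by_contra hcon
    obtain ⟨r, hr, hrd⟩ := Nat.exists_prime_and_dvd hcon
    exact (hgood r hr (hrd.trans (Nat.gcd_dvd_left _ _))).2.1 (hrd.trans (Nat.gcd_dvd_right _ _))
  have hordm : orderOf (t ^ m) = N0 := by
    rw [orderOf_pow_of_dvd hm0 (by rw [htN, hm]; exact Dvd.intro_left _ rfl), htN, hm,
      Nat.mul_div_cancel _ (Nat.pos_of_ne_zero hm0)]
  have hcon : ∀ s : ↥(D.group k), orderOf (z * s * z⁻¹) = orderOf s := fun s => by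
    have h3 : z * s * z⁻¹ = MulAut.conj z s := rfl
    rw [h3]
    exact orderOf_injective (MulAut.conj z).toMonoidHom (MulAut.conj z).injective s
  obtain ⟨x, hx⟩ : z * t ^ m * z⁻¹ ∈ (emb hp.inList f).range := by
    refine mem_of_pow_mem (n := N0) ?_ (fix_pow_range hp cs f hq hB hd' hy0) hdN0
    have := pow_orderOf_eq_one (z * t ^ m * z⁻¹)
    rwa [hcon, hordm] at this
  have hxo : orderOf x = N0 := by
    rw [← orderOf_injective _ (emb_injective hp.inList f) x, hx, hcon, hordm]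
  refine ⟨n, z, t, u, x, hn, hz, ht, hτ, htN, hu, hcX,
    fun s hs hs' => hgen s hs ((tau_iff hp cs hk hσ F' hn hs).1 hs'), hxo, by rw [hNm, hx], ?_⟩
  -- the centraliser
  intro s hs hs1 y hy
  obtain ⟨i, hi⟩ := hs
  have hi' : x ^ i = s := hi
  -- a prime divisor of the order of `s`
  have hso : orderOf s ∣ N0 := by rw [← hxo, ← hi']; exact orderOf_dvd_of_mem_zpowers (Subgroup.zpow_mem_zpowers x i)
  have hs0 : orderOf s ≠ 1 := by rwa [Ne, orderOf_eq_one_iff]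
  obtain ⟨r, hr, hrs⟩ := Nat.exists_prime_and_dvd hs0
  obtain ⟨hrW, -, hrG⟩ := hgood r hr (hrs.trans hso)
  have hsne : orderOf s ≠ 0 := fun h0 => hN0ne (by rw [h0] at hso; exact Nat.eq_zero_of_zero_dvd hso)
  set j := orderOf s / r with hj
  have hjr : orderOf s = j * r := by rw [hj, Nat.div_mul_cancel hrs]
  have hj0 : j ≠ 0 := by rintro h0; rw [h0, zero_mul] at hjr; exact hsne hjr
  have hsj : orderOf (s ^ j) = r := by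
    rw [orderOf_pow_of_dvd hj0 (Dvd.intro _ hjr.symm), hjr, Nat.mul_div_cancel_left _ (Nat.pos_of_ne_zero hj0)]
  -- `emb (s ^ j) = z t' z⁻¹`
  set t' := (t ^ m) ^ (i * j) with ht'
  have ht'T : t' ∈ TT D k := zpow_mem (pow_mem ht m) _
  have hes : emb hp.inList f (s ^ j) = z * t' * z⁻¹ := by
    rw [ht', ← conj_zpow, ← hx, ← map_zpow, zpow_mul, hi', zpow_natCast]
  have ht'o : orderOf t' = r := by
    rw [← hcon, ← hes, orderOf_injective _ (emb_injective hp.inList f), hsj]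
  have hyt : (z⁻¹ * y * z) * t' = t' * (z⁻¹ * y * z) := by
    have h1 : y * emb hp.inList f (s ^ j) = emb hp.inList f (s ^ j) * y := by
      rw [map_pow]
      exact (show Commute y (emb hp.inList f s) from hy).pow_right j
    rw [hes] at h1
    calc z⁻¹ * y * z * t' = z⁻¹ * (y * (z * t' * z⁻¹)) * z := by group
      _ = z⁻¹ * (z * t' * z⁻¹ * y) * z := by rw [h1]
      _ = _ := by group
  have ht'r : t' ^ r = 1 := by rw [← ht'o, pow_orderOf_eq_one]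
  -- the exponent of `t'` as a power of `t`
  have ht't : t' = t ^ ((m : ℤ) * (i * j)) := by rw [ht', ← zpow_natCast, ← zpow_mul]
  set E : ℤ := (m : ℤ) * (i * j) with hE
  have hval : ∀ a, cX hp t' a = u ^ (E * Gq B ((p ^ e : ℕ) : ℤ) a) := by
    intro a
    have h1 := (isMC_cX hp ht).ne_zero a
    -- powers
    have h2 : ∀ g : ℤ, cX hp (t ^ g) a = cX hp t a ^ g := by
      intro g
      obtain ⟨b, rfl | rfl⟩ := Int.eq_nat_or_neg g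
      · rw [zpow_natCast, zpow_natCast, cX_pow hp ht]
      · have h3 : cX hp (t ^ (-(b : ℤ))) a * cX hp (t ^ b) a = 1 := by
          rw [← cX_mul hp (zpow_mem ht _) (pow_mem ht _), zpow_neg, zpow_natCast, inv_mul_cancel, cX_one]
        rw [cX_pow hp ht] at h3
        rw [zpow_neg (cX hp t a), zpow_natCast]
        exact eq_inv_of_mul_eq_one_left h3
    rw [ht't, h2, hcX, ← zpow_mul, mul_comm]
  have hone : ∀ g : ℤ, u ^ g = 1 ↔ (N : ℤ) ∣ g := fun g => hu.zpow_eq_one_iff_dvd g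
  have htg : ∀ g : ℤ, t ^ g = 1 ↔ (N : ℤ) ∣ g := fun g => by rw [← htN, orderOf_dvd_iff_zpow_eq_one]
  have hEr : (N : ℤ) ∣ E * r := by
    rw [← htg, zpow_mul, ← ht't, zpow_natCast]; exact ht'r
  have hEn : ¬ (N : ℤ) ∣ E := by
    rw [← htg, ← ht't]
    intro h1
    rw [h1, orderOf_one] at ht'o
    exact hr.one_lt.ne ht'o
  refine regular hp cs p hk ht'T hr hrW ?_ ?_ hyt
  · intro a _
    rw [hval, ← zpow_natCast, ← zpow_mul, hone]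
    have e1 : E * Gq B ((p ^ e : ℕ) : ℤ) a * (r : ℤ) = (E * r) * Gq B ((p ^ e : ℕ) : ℤ) a := by ring
    rw [e1]
    exact hEr.mul_right _
  · intro a ha h1
    rw [hval, hone] at h1
    have hcop : IsCoprime (Gq B ((p ^ e : ℕ) : ℤ) a) (r : ℤ) :=
      ((Nat.prime_iff_prime_int.1 hr).coprime_iff_not_dvd.2 (hrG a ha)).symm
    obtain ⟨α, β, hαβ⟩ := hcop
    apply hEn
    have e1 : E = α * (E * Gq B ((p ^ e : ℕ) : ℤ) a) + β * (E * r) := by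
      calc E = E * 1 := (mul_one E).symm
        _ = E * (α * Gq B ((p ^ e : ℕ) : ℤ) a + β * (r : ℤ)) := by rw [hαβ]
        _ = _ := by ring
    rw [e1]
    exact dvd_add (h1.mul_left _) (hEr.mul_left _)

variable {hp cs f}

/-- The centraliser in the group of fixed points. -/
theorem Tor.mem_zpowers [IsAlgClosed k] {hN : NSys M (TT D k) (nc hp k)} {w : W} {B : Fin l → Fin l → ℤ} {N N0 : ℕ}
    {n z t : ↥(D.group k)} {u : k} {x : ↥(D.group F)} (h : Tor hp cs f p e (hN := hN) w B N N0 n z t u x)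
    {s : ↥(D.group F)} (hs : s ∈ Subgroup.zpowers x) (hs1 : s ≠ 1) {y : ↥(D.group k)}
    (hy : y * emb hp.inList f s = emb hp.inList f s * y) (hφ : phi D k p e y = y) :
    z⁻¹ * y * z ∈ Subgroup.zpowers t := by
  have h3 := h.cent s hs hs1 y hy
  refine h.gen _ h3 ?_
  have hz := h.hz
  rw [map_mul, map_mul, map_inv, hφ, hz]
  group

theorem Tor.pow_eq_one [IsAlgClosed k] {hN : NSys M (TT D k) (nc hp k)} {w : W} {B : Fin l → Fin l → ℤ} {N N0 : ℕ}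
    {n z t : ↥(D.group k)} {u : k} {x : ↥(D.group F)} (h : Tor hp cs f p e (hN := hN) w B N N0 n z t u x)
    (hq : Fintype.card F = p ^ e) {s : ↥(D.group F)} (hs : s ∈ Subgroup.zpowers x) (hs1 : s ≠ 1) {y : ↥(D.group F)}
    (hy : y * s = s * y) : y ^ N = 1 := by
  have h1 := h.mem_zpowers hs hs1 (y := emb hp.inList f y) (by rw [← map_mul, hy, map_mul]) (phi_emb hp f hq y)
  obtain ⟨i, hi⟩ := h1
  have hi' : t ^ i = z⁻¹ * emb hp.inList f y * z := hi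
  have h2 : (z⁻¹ * emb hp.inList f y * z) ^ N = 1 := by
    rw [← hi', ← zpow_natCast, ← zpow_mul, mul_comm, zpow_mul, zpow_natCast, ← h.order, pow_orderOf_eq_one, one_zpow]
  apply emb_injective hp.inList f
  rw [map_pow, map_one]
  have h3 : emb hp.inList f y = z * (z⁻¹ * emb hp.inList f y * z) * z⁻¹ := by group
  rw [h3, conj_pow, h2]
  group

end

end Cfsg.Agent.H719.RowTorus
end

-- part: H719/RowHasT
section
/-!
# Elements with small cyclic centralisers (helper719)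

* `HasT S N N0` : some `x : S` of order `N0` such that the centraliser of every `1 ≠ s ∈ ⟨x⟩` is cyclic and killed by `N`;
* `hasT` : from the data of a torus;
* `HasT.cyclic_sylow` : if the prime `p` divides `N0` the Sylow `p`-subgroups are cyclic;
* `HasT.order` : `NoNorm` from orders.
-/

set_option autoImplicit false
set_option linter.unusedSectionVars false

namespace Cfsg.Agent.H719

open Subgroup

/-- Some `x : S` of order `N0` such that the centraliser of every `1 ≠ s ∈ ⟨x⟩` is cyclic and killed by `N`. -/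
def HasT (S : Type*) [Group S] (N N0 : ℕ) : Prop :=
  ∃ x : S, orderOf x = N0 ∧ ∀ s ∈ zpowers x, s ≠ 1 →
    IsCyclic ↥(centralizer {s}) ∧ ∀ y : S, y * s = s * y → y ^ N = 1

theorem exists_orderOf_dvd {S : Type*} [Group S] [Finite S] {x : S} {l : ℕ} (hl : l ∣ orderOf x) :
    ∃ y ∈ zpowers x, orderOf y = l := by
  obtain ⟨m, hm⟩ := hl
  have h0 : 0 < orderOf x := orderOf_pos x
  have hm0 : m ≠ 0 := by rintro rfl; omega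
  refine ⟨x ^ m, npow_mem_zpowers x m, ?_⟩
  rw [orderOf_pow_of_dvd hm0 (by rw [hm]; exact Dvd.intro_left _ rfl), hm, Nat.mul_div_cancel _ (Nat.pos_of_ne_zero hm0)]

/-- A finite group with an element of order `p` whose centraliser is cyclic has cyclic Sylow `p`-subgroups. -/
theorem cyclic_sylow_of_cent {S : Type*} [Group S] [Finite S] {p : ℕ} [hp : Fact p.Prime] {y : S} (hy : orderOf y = p)
    (hc : IsCyclic ↥(centralizer ({y} : Set S))) : ∃ P : Sylow p S, IsCyclic ↥(P : Subgroup S) := by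
  have hyP : IsPGroup p ↥(zpowers y) := IsPGroup.of_card (n := 1) (by rw [Nat.card_zpowers, hy, pow_one])
  obtain ⟨P, hP⟩ := hyP.exists_le_sylow
  refine ⟨P, ?_⟩
  have hyP' : y ∈ (P : Subgroup S) := hP (mem_zpowers y)
  have hne : Nontrivial ↥(P : Subgroup S) := by
    refine ⟨⟨⟨y, hyP'⟩, 1, fun h => ?_⟩⟩
    have h1 : y = 1 := congrArg Subtype.val h
    rw [h1, orderOf_one] at hy
    exact hp.1.one_lt.ne hy
  have hZ : Nontrivial (center ↥(P : Subgroup S)) := P.isPGroup'.center_nontrivial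
  have hZc : p ∣ Nat.card (center ↥(P : Subgroup S)) := by
    obtain ⟨k, hk⟩ := IsPGroup.iff_card.1 (P.isPGroup'.to_subgroup (center ↥(P : Subgroup S)))
    have h1 : 1 < Nat.card (center ↥(P : Subgroup S)) := Finite.one_lt_card
    rw [hk] at h1 ⊢
    exact dvd_pow_self p (by rintro rfl; simp at h1)
  obtain ⟨z, hz⟩ := exists_prime_orderOf_dvd_card' p hZc
  set z' : S := ((z : ↥(P : Subgroup S)) : S) with hz'
  have hzo : orderOf z' = p := by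
    rw [hz', Subgroup.orderOf_coe, Subgroup.orderOf_coe, hz]
  have hcomm : ∀ g ∈ (P : Subgroup S), g * z' = z' * g := fun g hg =>
    congrArg Subtype.val (mem_center_iff.1 z.2 ⟨g, hg⟩)
  have hzC : z' ∈ centralizer ({y} : Set S) := by
    rw [mem_centralizer_singleton_iff]
    exact (hcomm y hyP').symm
  have hyC : y ∈ centralizer ({y} : Set S) := by rw [mem_centralizer_singleton_iff]
  have heq : zpowers y = zpowers z' := by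
    refine OddOrderLocal.CyclicSub.eq_of_card_eq_of_le_cyclic hc ?_ ?_ ?_
    · rwa [zpowers_le]
    · rwa [zpowers_le]
    · rw [Nat.card_zpowers, Nat.card_zpowers, hy, hzo]
  have hle : (P : Subgroup S) ≤ centralizer ({y} : Set S) := by
    intro g hg
    rw [mem_centralizer_singleton_iff]
    have h1 : y ∈ zpowers z' := heq ▸ mem_zpowers y
    obtain ⟨i, hi⟩ := h1
    have hi' : z' ^ i = y := hi
    rw [← hi']
    exact ((show Commute g z' from hcomm g hg).zpow_right i).eq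
  have : IsCyclic ↥(centralizer ({y} : Set S)) := hc
  exact isCyclic_of_injective (Subgroup.inclusion hle) (Subgroup.inclusion_injective hle)

theorem HasT.cyclic_sylow {S : Type*} [Group S] [Finite S] {N N0 : ℕ} (h : HasT S N N0) {p : ℕ} [hp : Fact p.Prime]
    (hpN : p ∣ N0) : ∃ P : Sylow p S, IsCyclic ↥(P : Subgroup S) := by
  obtain ⟨x, hx, hc⟩ := h
  obtain ⟨y, hy, hyo⟩ := exists_orderOf_dvd (x := x) (hx.symm ▸ hpN)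
  refine cyclic_sylow_of_cent hyo (hc y hy ?_).1
  rintro rfl
  rw [orderOf_one] at hyo
  exact hp.1.one_lt.ne hyo

/-- `p`-elements do not commute with `x` if `p` does not divide `N`. -/
theorem not_comm_of_not_dvd {S : Type*} [Group S] {N p : ℕ} (hpN : ¬ p ∣ N) {s y : S}
    (h : y * s = s * y → y ^ N = 1) (hy : orderOf y = p) : y * s ≠ s * y := by
  intro h1
  apply hpN
  rw [← hy]
  exact orderOf_dvd_of_pow_eq_one (h h1)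

open Cfsg.Agent.H568 in
theorem HasT.order {S : Type*} [Group S] [Finite S] {N N0 : ℕ} (h : HasT S N N0) {p : ℕ} [hp : Fact p.Prime]
    (hpN : ¬ p ∣ N) {l : ℕ} (hl : l.Prime) (hlN : l ∣ N0)
    (hord : ∀ k : ℕ, k ≠ 0 → p ^ k ∣ Nat.card S → ¬ l ∣ p ^ k - 1) : ∃ x : S, orderOf x = l ∧ NoNorm p x := by
  obtain ⟨x, hx, hc⟩ := h
  obtain ⟨y, hy, hyo⟩ := exists_orderOf_dvd (x := x) (hx.symm ▸ hlN)
  have hy1 : y ≠ 1 := by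
    rintro rfl
    rw [orderOf_one] at hyo
    exact hl.one_lt.ne hyo
  refine ⟨y, hyo, noNorm_of_order hl hyo (fun z hz => ?_) hord⟩
  exact (not_comm_of_not_dvd hpN ((hc y hy hy1).2 z) hz).symm

theorem HasT.congr {S S' : Type*} [Group S] [Group S'] (e : S ≃* S') {N N0 : ℕ} (h : HasT S N N0) : HasT S' N N0 := by
  obtain ⟨x, hx, hc⟩ := h
  refine ⟨e x, by rw [← hx]; exact MulEquiv.orderOf_eq e x, ?_⟩
  rintro _ ⟨i, rfl⟩ hs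
  have hs' : x ^ i ≠ 1 := by
    intro h1
    apply hs
    show (e x) ^ i = 1
    rw [← map_zpow, h1, map_one]
  obtain ⟨h1, h2⟩ := hc _ ⟨i, rfl⟩ hs'
  have he : (e x) ^ i = e (x ^ i) := (map_zpow e x i).symm
  refine ⟨?_, fun y hy => ?_⟩
  · have h3 : ∀ y ∈ centralizer ({(e x) ^ i} : Set S'), e.symm y ∈ centralizer ({x ^ i} : Set S) := by
      intro y hy
      rw [mem_centralizer_singleton_iff] at hy ⊢
      apply e.injective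
      rw [map_mul, map_mul, MulEquiv.apply_symm_apply, ← he]
      exact hy
    let g : ↥(centralizer ({(e x) ^ i} : Set S')) →* ↥(centralizer ({x ^ i} : Set S)) :=
      { toFun := fun y => ⟨e.symm y, h3 y y.2⟩
        map_one' := Subtype.ext (by simp only [_root_.OneMemClass.coe_one, _root_.map_one])
        map_mul' := fun a b => Subtype.ext (by simp) }
    refine isCyclic_of_injective g ?_
    intro a b hab
    have h4 : e.symm (a : S') = e.symm (b : S') := congrArg Subtype.val hab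
    exact Subtype.ext (e.symm.injective h4)
  · have h3 : e.symm y * x ^ i = x ^ i * e.symm y := by
      apply e.injective
      rw [map_mul, map_mul, MulEquiv.apply_symm_apply, ← he]
      exact hy
    have h4 := h2 _ h3
    apply e.symm.injective
    rw [map_pow, h4, map_one]

section Torus

open CoxeterSystem Cfsg Cfsg.Lie Cfsg.Lie.ChevalleyDatum
open Cfsg.Agent.ChevalleyStructure Cfsg.Agent.ChevalleyStructure.Elts Cfsg.Agent.ChevalleyStructure.CoxeterGeom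
  Cfsg.Agent.ChevalleyStructure.CoxeterGeomTypes Cfsg.Agent.ChevalleyStructure.NPerm
open Cfsg.Agent.Tits.Roots Cfsg.Agent.Tits.Core Cfsg.Agent.Nodes Cfsg.Agent.Nodes.Reps Cfsg.Agent.Nodes.BNOf
  Cfsg.Agent.Nodes.RGDChev
open Cfsg.Agent.KFacts.RgdChevCoord Cfsg.Agent.GpExc.Field Cfsg.Agent.BpExc.Fr Cfsg.Agent.BpExc.LangFr
  Cfsg.Agent.BpExc.TowChev Cfsg.Agent.BpExc
open Cfsg.Agent.H129.TorusChar Cfsg.Agent.H129.TorusCent Cfsg.Agent.H129.TorusTw Cfsg.Agent.H129.TorusMain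
  Cfsg.Agent.H129.TorusUntw Cfsg.Agent.H129.WData Cfsg.Agent.H719.RowTorus

universe u

variable {D : ChevalleyDatum} {l : ℕ} {M : CoxeterMatrix (Fin l)} {hp : IsType D l M} {k : Type u} [Field k]
  {W : Type*} [Group W] {cs : CoxeterSystem M W} {p e : ℕ} [Fact p.Prime] [CharP k p]
  {F : Type u} [Field F] [Fintype F] {f : F →+* k}

/-- the centralisers are cyclic -/
theorem _root_.Cfsg.Agent.H719.RowTorus.Tor.cyclic [IsAlgClosed k] {hN : NSys M (TT D k) (nc hp k)} {w : W}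
    {B : Fin l → Fin l → ℤ} {N N0 : ℕ} {n z t : ↥(D.group k)} {u : k} {x : ↥(D.group F)}
    (h : Tor hp cs f p e (hN := hN) w B N N0 n z t u x) (hq : Fintype.card F = p ^ e) {s : ↥(D.group F)}
    (hs : s ∈ zpowers x) (hs1 : s ≠ 1) : IsCyclic ↥(centralizer ({s} : Set ↥(D.group F))) := by
  have key : ∀ y ∈ centralizer ({s} : Set ↥(D.group F)), z⁻¹ * emb hp.inList f y * z ∈ zpowers t := by
    intro y hy
    rw [mem_centralizer_singleton_iff] at hy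
    exact h.mem_zpowers hs hs1 (by rw [← map_mul, hy, map_mul]) (phi_emb hp f hq y)
  let g : ↥(centralizer ({s} : Set ↥(D.group F))) →* ↥(zpowers t) :=
    { toFun := fun y => ⟨z⁻¹ * emb hp.inList f y * z, key y y.2⟩
      map_one' := Subtype.ext (by simp only [_root_.OneMemClass.coe_one, _root_.map_one, _root_.mul_one, _root_.inv_mul_cancel])
      map_mul' := fun a b => Subtype.ext (by simp only [mul_assoc, _root_.Subgroup.coe_mul, _root_.map_mul, _root_.MulMemClass.mk_mul_mk, _root_.mul_inv_cancel_left]) }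
  refine isCyclic_of_injective g ?_
  intro a b hab
  have h1 : z⁻¹ * emb hp.inList f a * z = z⁻¹ * emb hp.inList f b * z := congrArg Subtype.val hab
  have h2 : emb hp.inList f (a : ↥(D.group F)) = emb hp.inList f b := mul_left_cancel (mul_right_cancel h1)
  exact Subtype.ext (emb_injective hp.inList f h2)

variable (hp cs)

include hp cs in
/-- **`HasT` from the data of a torus.** -/
theorem hasT [Finite W] (hl : 0 < l) {F : Type u} [Field F] [Fintype F] {q : ℕ} (hq : Fintype.card F = q)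
    {d' : ℕ} {B' : Fin l → Fin l → ℤ} (hB : InvC D l d' B') (hd' : d' ≠ 0) {A : Mat l}
    (hA : ∀ i j, A i j = cartanOf D l i j) {L : List (Fin l × Mat l)} (hL : ChainOK A L) {V B : Mat l}
    {c : Fin l → ℤ} (hcyc : CycOK l (hd L) V B c) {m : ℕ} {R : Fin m → Fin l → ℤ} {prv dep : ℕ → ℕ}
    (hR : RootOK D l (hd L) R prv dep) {N N0 : ℕ} (hfN : fN c (q : ℤ) = N) (hqN : q.Coprime N) (hN0 : N0 ∣ N)
    (hgood : ∀ r : ℕ, r.Prime → r ∣ N0 → ¬ r ∣ Nat.card W ∧ ¬ r ∣ d' ∧ ∀ s, ¬ (r : ℤ) ∣ Gq B (q : ℤ) (R s)) :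
    HasT ↥(D.group F) N N0 := by
  obtain ⟨p, e, hpF, hpc, hpk, he, rfl, hk⟩ := _root_.Cfsg.Agent.H129.TorusUntw.exists_closure hq
  have hpN : ¬ p ∣ N := fun h1 => by
    have h2 : p ∣ Nat.gcd (p ^ e) N := Nat.dvd_gcd (dvd_pow_self p he.ne') h1
    rw [hqN] at h2
    exact hpF.out.one_lt.ne' (Nat.dvd_one.1 h2)
  have hlin := lin_refl hp cs hA hL
  have hc := cyc_of hlin hcyc
  obtain ⟨n, z, t, u, x, hT⟩ := exists_tor (k := AlgebraicClosure F) hp cs (algebraMap F (AlgebraicClosure F)) hl hk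
    (hN := nsys_of_locFin hp cs hk p) he hq hB hd' (cs.wordProd (L.map Prod.fst)) hc hfN hpN hN0
    (fun r hr hrN => ⟨(hgood r hr hrN).1, (hgood r hr hrN).2.1, fun a ha =>
      not_dvd_G hp cs hlin hc hR hfN hr (hrN.trans hN0) hqN (hgood r hr hrN).2.2 ha⟩)
  exact ⟨x, hT.hx, fun s hs hs1 => ⟨hT.cyclic hq hs hs1, fun y hy => hT.pow_eq_one hq hs hs1 hy⟩⟩

end Torus

end Cfsg.Agent.H719
end

-- part: H719/TE6_9
section
/-!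
# Data of a torus of type E6 (helper719): f(x) = 1 + x ^ 3 + x ^ 6, Phi(x) = 1 + x ^ 3 + x ^ 6

Generated by a script; the word of `w` is 5 4 3 2 1 0 3 1.
-/

set_option autoImplicit false
set_option maxRecDepth 4000

namespace Cfsg.Agent.H719.TE6_9

open Cfsg.Agent.H129.TorusTw Cfsg.Agent.H129.WData Cfsg.Agent.ChevalleyStructure.CoxeterGeomTypes
open Cfsg.Lie Cfsg.Lie.ChevalleyDatum

/-- the Cartan matrix -/
def Am : Mat 6 := ![![2, 0, -1, 0, 0, 0],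
    ![0, 2, 0, -1, 0, 0],
    ![-1, 0, 2, -1, 0, 0],
    ![0, -1, -1, 2, -1, 0],
    ![0, 0, 0, -1, 2, -1],
    ![0, 0, 0, 0, -1, 2]]

/-- the partial products -/
def chain : List (Fin 6 × Mat 6) := [
    (5, ![![-1, 0, -1, -1, -1, -1],
      ![0, 0, -1, 0, 0, 0],
      ![1, 1, 1, 1, 1, 1],
      ![0, -1, 0, -1, -1, -1],
      ![0, 1, 1, 2, 1, 1],
      ![0, 0, 0, 0, 1, 0]]),
    (4, ![![-1, 0, -1, -1, -1, 0],
      ![0, 0, -1, 0, 0, 0],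
      ![1, 1, 1, 1, 1, 0],
      ![0, -1, 0, -1, -1, 0],
      ![0, 1, 1, 2, 1, 0],
      ![0, 0, 0, 0, 1, 1]]),
    (3, ![![-1, 0, -1, -1, 0, 0],
      ![0, 0, -1, 0, 0, 0],
      ![1, 1, 1, 1, 0, 0],
      ![0, -1, 0, -1, 0, 0],
      ![0, 1, 1, 2, 1, 0],
      ![0, 0, 0, 0, 0, 1]]),
    (2, ![![-1, 0, -1, 0, 0, 0],
      ![0, 0, -1, -1, 0, 0],
      ![1, 1, 1, 1, 0, 0],
      ![0, -1, 0, 0, 0, 0],
      ![0, 1, 1, 1, 1, 0],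
      ![0, 0, 0, 0, 0, 1]]),
    (1, ![![-1, 0, 0, 0, 0, 0],
      ![0, 0, 0, -1, 0, 0],
      ![1, 1, 1, 1, 0, 0],
      ![0, -1, 0, 0, 0, 0],
      ![0, 1, 0, 1, 1, 0],
      ![0, 0, 0, 0, 0, 1]]),
    (0, ![![-1, 0, 0, 0, 0, 0],
      ![0, -1, 0, -1, 0, 0],
      ![1, 0, 1, 1, 0, 0],
      ![0, 1, 0, 0, 0, 0],
      ![0, 0, 0, 1, 1, 0],
      ![0, 0, 0, 0, 0, 1]]),
    (3, ![![1, 0, 0, 0, 0, 0],
      ![0, -1, 0, -1, 0, 0],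
      ![0, 0, 1, 1, 0, 0],
      ![0, 1, 0, 0, 0, 0],
      ![0, 0, 0, 1, 1, 0],
      ![0, 0, 0, 0, 0, 1]]),
    (1, ![![1, 0, 0, 0, 0, 0],
      ![0, -1, 0, 0, 0, 0],
      ![0, 0, 1, 0, 0, 0],
      ![0, 1, 0, 1, 0, 0],
      ![0, 0, 0, 0, 1, 0],
      ![0, 0, 0, 0, 0, 1]])]

/-- the matrix of `θ` -/
def Th : Mat 6 := ![![-1, 0, -1, -1, -1, -1],
    ![0, 0, -1, 0, 0, 0],
    ![1, 1, 1, 1, 1, 1],
    ![0, -1, 0, -1, -1, -1],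
    ![0, 1, 1, 2, 1, 1],
    ![0, 0, 0, 0, 1, 0]]

/-- the basis -/
def V : Mat 6 := ![![-1, -2, -2, -3, -2, -1],
    ![-1, -1, -1, -2, -1, 0],
    ![0, 0, 0, 0, 1, 1],
    ![0, 1, 1, 2, 2, 1],
    ![1, 1, 2, 3, 2, 1],
    ![1, 1, 2, 2, 1, 0]]

/-- the coordinates -/
def B : Mat 6 := ![![0, -1, 1, -1, 0, 0],
    ![-1, 0, 0, 0, -1, 0],
    ![0, 1, 0, 0, 0, 1],
    ![0, 0, -1, 0, 1, -1],
    ![1, -1, 1, 1, -1, 1],
    ![-1, 1, 0, -1, 1, -1]]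

/-- the polynomial -/
def c : Fin 6 → ℤ := ![1, 0, 0, 1, 0, 0]

/-- the representatives of the orbits of `θ` on the roots -/
def R : Fin 8 → Fin 6 → ℤ := ![![-1, -2, -2, -3, -2, -1],
    ![1, 2, 2, 3, 2, 1],
    ![0, 1, 1, 1, 1, 1],
    ![0, -1, -1, -1, -1, -1],
    ![0, 1, 1, 1, 0, 0],
    ![0, 1, 0, 0, 0, 0],
    ![0, -1, -1, -1, 0, 0],
    ![0, -1, 0, 0, 0, 0]]

/-- the values of the functional on the representatives -/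
def G : Fin 8 → Fin 6 → ℤ := ![![1, 0, 0, 0, 0, 0],
    ![-1, 0, 0, 0, 0, 0],
    ![-1, 1, 0, 0, 0, 0],
    ![1, -1, 0, 0, 0, 0],
    ![-1, 1, -1, 0, 0, 0],
    ![-1, 0, 0, 0, -1, 0],
    ![1, -1, 1, 0, 0, 0],
    ![1, 0, 0, 0, 1, 0]]

/-- predecessor -/
def prv (r : ℕ) : ℕ := Nat.mod (Nat.shiftRight 0x372d2c463433472a44430f36352b32262542003c00203f3e000a2928190d313007240641234017163a2e1f1e3d00090827000b00052221151c12113804031d001413011b1a1000 (8 * r)) 256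

/-- depth -/
def dep (r : ℕ) : ℕ := Nat.mod (Nat.shiftRight 0x408060501040102070602080308010307020003000503080007050701040604020605050602040604010705070008030500030002070301080308020607020104010506080400 (8 * r)) 256

theorem hA : ∀ i j, Am i j = cartanOf chevE6 6 i j :=
  H129.RootF.cE6

theorem chainOK : ChainOK Am chain :=
  H129.ChainF.ok H129.ChainF.i6 H129.ChainF.m6 (H129.ChainF.c6 <| H129.ChainF.c6 <| H129.ChainF.c6 <| H129.ChainF.c6 <| H129.ChainF.c6 <| H129.ChainF.c6 <| H129.ChainF.c6 <| H129.ChainF.c6 <| H129.ChainF.nil) (by decide +kernel)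

theorem cycOK : CycOK 6 Th V B c :=
  H129.RootF.cyc H129.ChainF.i6 H129.RootF.t6 H129.ChainF.m6 H129.RootF.t6 H129.ChainF.m6 H129.RootF.t6 H129.RootF.r6 (by decide +kernel)

theorem rootOK : RootOK chevE6 6 Th R prv dep :=
  H129.RootF.ok H129.RootF.t6 (H129.RootF.mc H129.RootF.r6 <| H129.RootF.mc H129.RootF.r6 <| H129.RootF.mc H129.RootF.r6 <| H129.RootF.mc H129.RootF.r6 <| H129.RootF.mc H129.RootF.r6 <| H129.RootF.mc H129.RootF.r6 <| H129.RootF.mc H129.RootF.r6 <| H129.RootF.mc H129.RootF.r6 <| H129.RootF.m0) (by decide +kernel)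

theorem coefOK : ∀ s i, ∑ j, R s j * B j i = G s i := by decide +kernel

theorem fN_eq (x : ℤ) : fN c x = 1 + x ^ 3 + x ^ 6 := by
  unfold fN c
  simp only [Fin.sum_univ_succ, _root_.Fin.isValue, _root_.Matrix.cons_val_zero, _root_.Fin.coe_ofNat_eq_mod, _root_.Nat.zero_mod, _root_.pow_zero, _root_.mul_one, _root_.Matrix.cons_val_succ, _root_.Fin.val_succ, _root_.zero_add, _root_.pow_one, _root_.MulZeroClass.zero_mul, _root_.Nat.reduceAdd, _root_.one_mul, _root_.Finset.univ_unique, _root_.Fin.default_eq_zero, _root_.Matrix.cons_val_fin_one, _root_.Fin.val_eq_zero, _root_.Finset.sum_const_zero, _root_.add_zero]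
  try ring

theorem G_0 (x : ℤ) : Gq B x (R 0) = 1 := by
  rw [Gq_coef B x (R 0) (G 0) (coefOK 0)]
  unfold G
  simp only [Fin.sum_univ_succ, _root_.Int.reduceNeg, _root_.Fin.isValue, _root_.Matrix.cons_val', _root_.Matrix.cons_val_fin_one, _root_.Matrix.cons_val_zero, _root_.Fin.coe_ofNat_eq_mod, _root_.Nat.zero_mod, _root_.pow_zero, _root_.mul_one, _root_.Matrix.cons_val_succ, _root_.Fin.val_succ, _root_.zero_add, _root_.pow_one, _root_.MulZeroClass.zero_mul, _root_.Nat.reduceAdd, _root_.Finset.univ_unique, _root_.Fin.default_eq_zero, _root_.Fin.val_eq_zero, _root_.Finset.sum_const_zero, _root_.add_zero]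
  try ring

theorem bez_0 (x : ℤ) : (0) * (1 + x ^ 3 + x ^ 6) + (1) * (1) = 1 := by
  ring

theorem G_1 (x : ℤ) : Gq B x (R 1) = -1 := by
  rw [Gq_coef B x (R 1) (G 1) (coefOK 1)]
  unfold G
  simp only [Fin.sum_univ_succ, _root_.Int.reduceNeg, _root_.Fin.isValue, _root_.Matrix.cons_val', _root_.Matrix.cons_val_fin_one, _root_.Matrix.cons_val_one, _root_.Matrix.cons_val_zero, _root_.Fin.coe_ofNat_eq_mod, _root_.Nat.zero_mod, _root_.pow_zero, _root_.mul_one, _root_.Matrix.cons_val_succ, _root_.Fin.val_succ, _root_.zero_add, _root_.pow_one, _root_.MulZeroClass.zero_mul, _root_.Nat.reduceAdd, _root_.Finset.univ_unique, _root_.Fin.default_eq_zero, _root_.Fin.val_eq_zero, _root_.Finset.sum_const_zero, _root_.add_zero]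
  try ring

theorem bez_1 (x : ℤ) : (0) * (1 + x ^ 3 + x ^ 6) + (-1) * (-1) = 1 := by
  ring

theorem G_2 (x : ℤ) : Gq B x (R 2) = -1 + x := by
  rw [Gq_coef B x (R 2) (G 2) (coefOK 2)]
  unfold G
  simp only [Fin.sum_univ_succ, _root_.Int.reduceNeg, _root_.Fin.isValue, _root_.Matrix.cons_val', _root_.Matrix.cons_val_fin_one, _root_.Matrix.cons_val, _root_.Matrix.cons_val_one, _root_.Matrix.cons_val_zero, _root_.Fin.coe_ofNat_eq_mod, _root_.Nat.zero_mod, _root_.pow_zero, _root_.mul_one, _root_.Matrix.cons_val_succ, _root_.Fin.val_succ, _root_.zero_add, _root_.pow_one, _root_.one_mul, _root_.Nat.reduceAdd, _root_.MulZeroClass.zero_mul, _root_.Finset.univ_unique, _root_.Fin.default_eq_zero, _root_.Fin.val_eq_zero, _root_.Finset.sum_const_zero, _root_.add_zero]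
  try ring

theorem bez_2 (x : ℤ) : (1) * (1 + x ^ 3 + x ^ 6) + (-2 - 2 * x - 2 * x ^ 2 - x ^ 3 - x ^ 4 - x ^ 5) * (-1 + x) = 3 := by
  ring

theorem G_3 (x : ℤ) : Gq B x (R 3) = 1 - x := by
  rw [Gq_coef B x (R 3) (G 3) (coefOK 3)]
  unfold G
  simp only [Fin.sum_univ_succ, _root_.Int.reduceNeg, _root_.Fin.isValue, _root_.Matrix.cons_val', _root_.Matrix.cons_val_fin_one, _root_.Matrix.cons_val, _root_.Matrix.cons_val_one, _root_.Matrix.cons_val_zero, _root_.Fin.coe_ofNat_eq_mod, _root_.Nat.zero_mod, _root_.pow_zero, _root_.mul_one, _root_.Matrix.cons_val_succ, _root_.Fin.val_succ, _root_.zero_add, _root_.pow_one, _root_.neg_mul, _root_.one_mul, _root_.Nat.reduceAdd, _root_.MulZeroClass.zero_mul, _root_.Finset.univ_unique, _root_.Fin.default_eq_zero, _root_.Fin.val_eq_zero, _root_.Finset.sum_const_zero, _root_.add_zero]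
  try ring

theorem bez_3 (x : ℤ) : (1) * (1 + x ^ 3 + x ^ 6) + (2 + 2 * x + 2 * x ^ 2 + x ^ 3 + x ^ 4 + x ^ 5) * (1 - x) = 3 := by
  ring

theorem G_4 (x : ℤ) : Gq B x (R 4) = -1 + x - x ^ 2 := by
  rw [Gq_coef B x (R 4) (G 4) (coefOK 4)]
  unfold G
  simp only [Fin.sum_univ_succ, _root_.Int.reduceNeg, _root_.Fin.isValue, _root_.Matrix.cons_val', _root_.Matrix.cons_val_fin_one, _root_.Matrix.cons_val, _root_.Matrix.cons_val_one, _root_.Matrix.cons_val_zero, _root_.Fin.coe_ofNat_eq_mod, _root_.Nat.zero_mod, _root_.pow_zero, _root_.mul_one, _root_.Matrix.cons_val_succ, _root_.Fin.val_succ, _root_.zero_add, _root_.pow_one, _root_.one_mul, _root_.Nat.reduceAdd, _root_.neg_mul, _root_.MulZeroClass.zero_mul, _root_.Finset.univ_unique, _root_.Fin.default_eq_zero, _root_.Fin.val_eq_zero, _root_.Finset.sum_const_zero, _root_.add_zero]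
  try ring

theorem bez_4 (x : ℤ) : (1) * (1 + x ^ 3 + x ^ 6) + (x ^ 3 + x ^ 4) * (-1 + x - x ^ 2) = 1 := by
  ring

theorem G_5 (x : ℤ) : Gq B x (R 5) = -1 - x ^ 4 := by
  rw [Gq_coef B x (R 5) (G 5) (coefOK 5)]
  unfold G
  simp only [Fin.sum_univ_succ, _root_.Int.reduceNeg, _root_.Fin.isValue, _root_.Matrix.cons_val', _root_.Matrix.cons_val_fin_one, _root_.Matrix.cons_val, _root_.Matrix.cons_val_one, _root_.Matrix.cons_val_zero, _root_.Fin.coe_ofNat_eq_mod, _root_.Nat.zero_mod, _root_.pow_zero, _root_.mul_one, _root_.Matrix.cons_val_succ, _root_.Fin.val_succ, _root_.zero_add, _root_.pow_one, _root_.MulZeroClass.zero_mul, _root_.Nat.reduceAdd, _root_.neg_mul, _root_.one_mul, _root_.Finset.univ_unique, _root_.Fin.default_eq_zero, _root_.Fin.val_eq_zero, _root_.Finset.sum_const_zero, _root_.add_zero]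
  try ring

theorem bez_5 (x : ℤ) : (1 + x + x ^ 2) * (1 + x ^ 3 + x ^ 6) + (x + x ^ 2 + x ^ 3 + x ^ 4) * (-1 - x ^ 4) = 1 := by
  ring

theorem G_6 (x : ℤ) : Gq B x (R 6) = 1 - x + x ^ 2 := by
  rw [Gq_coef B x (R 6) (G 6) (coefOK 6)]
  unfold G
  simp only [Fin.sum_univ_succ, _root_.Int.reduceNeg, _root_.Fin.isValue, _root_.Matrix.cons_val', _root_.Matrix.cons_val_fin_one, _root_.Matrix.cons_val, _root_.Matrix.cons_val_one, _root_.Matrix.cons_val_zero, _root_.Fin.coe_ofNat_eq_mod, _root_.Nat.zero_mod, _root_.pow_zero, _root_.mul_one, _root_.Matrix.cons_val_succ, _root_.Fin.val_succ, _root_.zero_add, _root_.pow_one, _root_.neg_mul, _root_.one_mul, _root_.Nat.reduceAdd, _root_.MulZeroClass.zero_mul, _root_.Finset.univ_unique, _root_.Fin.default_eq_zero, _root_.Fin.val_eq_zero, _root_.Finset.sum_const_zero, _root_.add_zero]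
  try ring

theorem bez_6 (x : ℤ) : (1) * (1 + x ^ 3 + x ^ 6) + (-x ^ 3 - x ^ 4) * (1 - x + x ^ 2) = 1 := by
  ring

theorem G_7 (x : ℤ) : Gq B x (R 7) = 1 + x ^ 4 := by
  rw [Gq_coef B x (R 7) (G 7) (coefOK 7)]
  unfold G
  simp only [Fin.sum_univ_succ, _root_.Int.reduceNeg, _root_.Fin.isValue, _root_.Matrix.cons_val', _root_.Matrix.cons_val_fin_one, _root_.Matrix.cons_val, _root_.Matrix.cons_val_one, _root_.Matrix.cons_val_zero, _root_.Fin.coe_ofNat_eq_mod, _root_.Nat.zero_mod, _root_.pow_zero, _root_.mul_one, _root_.Matrix.cons_val_succ, _root_.Fin.val_succ, _root_.zero_add, _root_.pow_one, _root_.MulZeroClass.zero_mul, _root_.Nat.reduceAdd, _root_.one_mul, _root_.Finset.univ_unique, _root_.Fin.default_eq_zero, _root_.Fin.val_eq_zero, _root_.Finset.sum_const_zero, _root_.add_zero]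
  try ring

theorem bez_7 (x : ℤ) : (1 + x + x ^ 2) * (1 + x ^ 3 + x ^ 6) + (-x - x ^ 2 - x ^ 3 - x ^ 4) * (1 + x ^ 4) = 1 := by
  ring

/-- Common divisors of `Φ(x)` and the value of `Gq` on a representative. -/
theorem dvd_of_G {x r : ℤ} (h : r ∣ 1 + x ^ 3 + x ^ 6) (s : Fin 8) (hs : r ∣ Gq B x (R s)) :
    r ∣ 3 := by
  have key : ∀ {a b g y : ℤ}, a * (1 + x ^ 3 + x ^ 6) + b * g = y → y ∣ 3 → r ∣ g → r ∣ 3 := fun e hy hg => by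
    refine dvd_trans ?_ hy
    rw [← e]
    exact dvd_add (h.mul_left _) (hg.mul_left _)
  fin_cases s
  · exact key (bez_0 x) (by norm_num) (by rw [← G_0]; exact hs)
  · exact key (bez_1 x) (by norm_num) (by rw [← G_1]; exact hs)
  · exact key (bez_2 x) (by norm_num) (by rw [← G_2]; exact hs)
  · exact key (bez_3 x) (by norm_num) (by rw [← G_3]; exact hs)
  · exact key (bez_4 x) (by norm_num) (by rw [← G_4]; exact hs)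
  · exact key (bez_5 x) (by norm_num) (by rw [← G_5]; exact hs)
  · exact key (bez_6 x) (by norm_num) (by rw [← G_6]; exact hs)
  · exact key (bez_7 x) (by norm_num) (by rw [← G_7]; exact hs)

end Cfsg.Agent.H719.TE6_9
end

-- part: H719/TE6_12
section
/-!
# Data of a torus of type E6 (helper719): f(x) = 1 + x - x ^ 3 + x ^ 5 + x ^ 6, Phi(x) = 1 - x ^ 2 + x ^ 4

Generated by a script; the word of `w` is 3 0 2 4 5 1.
-/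

set_option autoImplicit false
set_option maxRecDepth 4000

namespace Cfsg.Agent.H719.TE6_12

open Cfsg.Agent.H129.TorusTw Cfsg.Agent.H129.WData Cfsg.Agent.ChevalleyStructure.CoxeterGeomTypes
open Cfsg.Lie Cfsg.Lie.ChevalleyDatum

/-- the Cartan matrix -/
def Am : Mat 6 := ![![2, 0, -1, 0, 0, 0],
    ![0, 2, 0, -1, 0, 0],
    ![-1, 0, 2, -1, 0, 0],
    ![0, -1, -1, 2, -1, 0],
    ![0, 0, 0, -1, 2, -1],
    ![0, 0, 0, 0, -1, 2]]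

/-- the partial products -/
def chain : List (Fin 6 × Mat 6) := [
    (3, ![![0, 0, 1, 1, 0, 0],
      ![0, -1, 0, -1, 0, 0],
      ![-1, 0, -1, -1, 0, 0],
      ![1, 1, 1, 2, 1, 0],
      ![0, 0, 0, 0, 0, 1],
      ![0, 0, 0, -1, -1, -1]]),
    (0, ![![0, 0, 1, 0, 0, 0],
      ![0, -1, 0, 0, 0, 0],
      ![-1, 0, -1, 0, 0, 0],
      ![1, 1, 1, 1, 1, 0],
      ![0, 0, 0, 0, 0, 1],
      ![0, 0, 0, 0, -1, -1]]),
    (2, ![![1, 0, 1, 0, 0, 0],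
      ![0, -1, 0, 0, 0, 0],
      ![0, 0, -1, 0, 0, 0],
      ![0, 1, 1, 1, 1, 0],
      ![0, 0, 0, 0, 0, 1],
      ![0, 0, 0, 0, -1, -1]]),
    (4, ![![1, 0, 0, 0, 0, 0],
      ![0, -1, 0, 0, 0, 0],
      ![0, 0, 1, 0, 0, 0],
      ![0, 1, 0, 1, 1, 0],
      ![0, 0, 0, 0, 0, 1],
      ![0, 0, 0, 0, -1, -1]]),
    (5, ![![1, 0, 0, 0, 0, 0],
      ![0, -1, 0, 0, 0, 0],
      ![0, 0, 1, 0, 0, 0],
      ![0, 1, 0, 1, 0, 0],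
      ![0, 0, 0, 0, 1, 1],
      ![0, 0, 0, 0, 0, -1]]),
    (1, ![![1, 0, 0, 0, 0, 0],
      ![0, -1, 0, 0, 0, 0],
      ![0, 0, 1, 0, 0, 0],
      ![0, 1, 0, 1, 0, 0],
      ![0, 0, 0, 0, 1, 0],
      ![0, 0, 0, 0, 0, 1]])]

/-- the matrix of `θ` -/
def Th : Mat 6 := ![![0, 0, 1, 1, 0, 0],
    ![0, -1, 0, -1, 0, 0],
    ![-1, 0, -1, -1, 0, 0],
    ![1, 1, 1, 2, 1, 0],
    ![0, 0, 0, 0, 0, 1],
    ![0, 0, 0, -1, -1, -1]]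

/-- the basis -/
def V : Mat 6 := ![![-1, -1, -2, -2, -1, -1],
    ![0, -1, -1, -1, -1, 0],
    ![0, 0, 0, 0, -1, -1],
    ![0, 0, 0, 1, 1, 0],
    ![1, 1, 1, 2, 1, 1],
    ![1, 1, 2, 2, 1, 0]]

/-- the coordinates -/
def B : Mat 6 := ![![2, 1, -1, -1, 1, 2],
    ![1, -1, 0, -1, 1, 0],
    ![-1, 0, 0, 0, -1, 0],
    ![-1, 0, 1, 1, 0, -1],
    ![1, 0, -1, 0, 0, 1],
    ![-1, 0, 0, 0, 0, -1]]

/-- the polynomial -/
def c : Fin 6 → ℤ := ![1, 1, 0, -1, 0, 1]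

/-- the representatives of the orbits of `θ` on the roots -/
def R : Fin 6 → Fin 6 → ℤ := ![![1, 1, 2, 3, 2, 1],
    ![-1, -1, -2, -2, -1, -1],
    ![1, 1, 2, 2, 1, 1],
    ![0, -1, 0, 0, 0, 0],
    ![0, 0, 0, 0, 0, 1],
    ![0, 0, 0, 0, 0, -1]]

/-- the values of the functional on the representatives -/
def G : Fin 6 → Fin 6 → ℤ := ![![-1, 0, 0, 1, 0, 0],
    ![1, 0, 0, 0, 0, 0],
    ![-1, 0, 0, 0, 0, 0],
    ![-1, 1, 0, 1, -1, 0],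
    ![-1, 0, 0, 0, 0, -1],
    ![1, 0, 0, 0, 0, 1]]

/-- predecessor -/
def prv (r : ℕ) : ℕ := Nat.mod (Nat.shiftRight 0x4600470041352827373629302f1d310e433b3a45443c2c2b192d3e3d383f232113333200001514342624080f0a09002e1c1b0b03020d0c0439162a18171e1110201f120600000701 (8 * r)) 256

/-- depth -/
def dep (r : ℕ) : ℕ := Nat.mod (Nat.shiftRight 0x1000200050b040b070402090209050606030a03010a040801060503070801030a020b00000b020403010807030b000708040a01090a09060605090809020a0705040b0500080607 (8 * r)) 256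

theorem hA : ∀ i j, Am i j = cartanOf chevE6 6 i j :=
  H129.RootF.cE6

theorem chainOK : ChainOK Am chain :=
  H129.ChainF.ok H129.ChainF.i6 H129.ChainF.m6 (H129.ChainF.c6 <| H129.ChainF.c6 <| H129.ChainF.c6 <| H129.ChainF.c6 <| H129.ChainF.c6 <| H129.ChainF.c6 <| H129.ChainF.nil) (by decide +kernel)

theorem cycOK : CycOK 6 Th V B c :=
  H129.RootF.cyc H129.ChainF.i6 H129.RootF.t6 H129.ChainF.m6 H129.RootF.t6 H129.ChainF.m6 H129.RootF.t6 H129.RootF.r6 (by decide +kernel)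

theorem rootOK : RootOK chevE6 6 Th R prv dep :=
  H129.RootF.ok H129.RootF.t6 (H129.RootF.mc H129.RootF.r6 <| H129.RootF.mc H129.RootF.r6 <| H129.RootF.mc H129.RootF.r6 <| H129.RootF.mc H129.RootF.r6 <| H129.RootF.mc H129.RootF.r6 <| H129.RootF.mc H129.RootF.r6 <| H129.RootF.m0) (by decide +kernel)

theorem coefOK : ∀ s i, ∑ j, R s j * B j i = G s i := by decide +kernel

theorem fN_eq (x : ℤ) : fN c x = 1 + x - x ^ 3 + x ^ 5 + x ^ 6 := by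
  unfold fN c
  simp only [Fin.sum_univ_succ, _root_.Int.reduceNeg, _root_.Fin.isValue, _root_.Matrix.cons_val_zero, _root_.Fin.coe_ofNat_eq_mod, _root_.Nat.zero_mod, _root_.pow_zero, _root_.mul_one, _root_.Matrix.cons_val_succ, _root_.Fin.val_succ, _root_.zero_add, _root_.pow_one, _root_.one_mul, _root_.Nat.reduceAdd, _root_.MulZeroClass.zero_mul, _root_.neg_mul, _root_.Finset.univ_unique, _root_.Fin.default_eq_zero, _root_.Matrix.cons_val_fin_one, _root_.Fin.val_eq_zero, _root_.Finset.sum_const, _root_.Finset.card_singleton, _root_.Int.nsmul_eq_mul, _root_.Nat.cast_one]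
  try ring

theorem G_0 (x : ℤ) : Gq B x (R 0) = -1 + x ^ 3 := by
  rw [Gq_coef B x (R 0) (G 0) (coefOK 0)]
  unfold G
  simp only [Fin.sum_univ_succ, _root_.Int.reduceNeg, _root_.Fin.isValue, _root_.Matrix.cons_val', _root_.Matrix.cons_val_fin_one, _root_.Matrix.cons_val_zero, _root_.Fin.coe_ofNat_eq_mod, _root_.Nat.zero_mod, _root_.pow_zero, _root_.mul_one, _root_.Matrix.cons_val_succ, _root_.Fin.val_succ, _root_.zero_add, _root_.pow_one, _root_.MulZeroClass.zero_mul, _root_.Nat.reduceAdd, _root_.one_mul, _root_.Finset.univ_unique, _root_.Fin.default_eq_zero, _root_.Fin.val_eq_zero, _root_.Finset.sum_const_zero, _root_.add_zero]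
  try ring

theorem bez_0 (x : ℤ) : (1 + x ^ 2) * (1 - x ^ 2 + x ^ 4) + (-1 - x ^ 3) * (-1 + x ^ 3) = 2 := by
  ring

theorem G_1 (x : ℤ) : Gq B x (R 1) = 1 := by
  rw [Gq_coef B x (R 1) (G 1) (coefOK 1)]
  unfold G
  simp only [Fin.sum_univ_succ, _root_.Int.reduceNeg, _root_.Fin.isValue, _root_.Matrix.cons_val', _root_.Matrix.cons_val_fin_one, _root_.Matrix.cons_val_one, _root_.Matrix.cons_val_zero, _root_.Fin.coe_ofNat_eq_mod, _root_.Nat.zero_mod, _root_.pow_zero, _root_.mul_one, _root_.Matrix.cons_val_succ, _root_.Fin.val_succ, _root_.zero_add, _root_.pow_one, _root_.MulZeroClass.zero_mul, _root_.Nat.reduceAdd, _root_.Finset.univ_unique, _root_.Fin.default_eq_zero, _root_.Fin.val_eq_zero, _root_.Finset.sum_const_zero, _root_.add_zero]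
  try ring

theorem bez_1 (x : ℤ) : (0) * (1 - x ^ 2 + x ^ 4) + (1) * (1) = 1 := by
  ring

theorem G_2 (x : ℤ) : Gq B x (R 2) = -1 := by
  rw [Gq_coef B x (R 2) (G 2) (coefOK 2)]
  unfold G
  simp only [Fin.sum_univ_succ, _root_.Int.reduceNeg, _root_.Fin.isValue, _root_.Matrix.cons_val', _root_.Matrix.cons_val_fin_one, _root_.Matrix.cons_val, _root_.Matrix.cons_val_one, _root_.Matrix.cons_val_zero, _root_.Fin.coe_ofNat_eq_mod, _root_.Nat.zero_mod, _root_.pow_zero, _root_.mul_one, _root_.Matrix.cons_val_succ, _root_.Fin.val_succ, _root_.zero_add, _root_.pow_one, _root_.MulZeroClass.zero_mul, _root_.Nat.reduceAdd, _root_.Finset.univ_unique, _root_.Fin.default_eq_zero, _root_.Fin.val_eq_zero, _root_.Finset.sum_const_zero, _root_.add_zero]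
  try ring

theorem bez_2 (x : ℤ) : (0) * (1 - x ^ 2 + x ^ 4) + (-1) * (-1) = 1 := by
  ring

theorem G_3 (x : ℤ) : Gq B x (R 3) = -1 + x + x ^ 3 - x ^ 4 := by
  rw [Gq_coef B x (R 3) (G 3) (coefOK 3)]
  unfold G
  simp only [Fin.sum_univ_succ, _root_.Int.reduceNeg, _root_.Fin.isValue, _root_.Matrix.cons_val', _root_.Matrix.cons_val_fin_one, _root_.Matrix.cons_val, _root_.Matrix.cons_val_one, _root_.Matrix.cons_val_zero, _root_.Fin.coe_ofNat_eq_mod, _root_.Nat.zero_mod, _root_.pow_zero, _root_.mul_one, _root_.Matrix.cons_val_succ, _root_.Fin.val_succ, _root_.zero_add, _root_.pow_one, _root_.one_mul, _root_.Nat.reduceAdd, _root_.MulZeroClass.zero_mul, _root_.neg_mul, _root_.Finset.univ_unique, _root_.Fin.default_eq_zero, _root_.Fin.val_eq_zero, _root_.Finset.sum_const_zero, _root_.add_zero]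
  try ring

theorem bez_3 (x : ℤ) : (3 + x ^ 2 - 2 * x ^ 3) * (1 - x ^ 2 + x ^ 4) + (1 + x - x ^ 2 - 2 * x ^ 3) * (-1 + x + x ^ 3 - x ^ 4) = 2 := by
  ring

theorem G_4 (x : ℤ) : Gq B x (R 4) = -1 - x ^ 5 := by
  rw [Gq_coef B x (R 4) (G 4) (coefOK 4)]
  unfold G
  simp only [Fin.sum_univ_succ, _root_.Int.reduceNeg, _root_.Fin.isValue, _root_.Matrix.cons_val', _root_.Matrix.cons_val_fin_one, _root_.Matrix.cons_val, _root_.Matrix.cons_val_one, _root_.Matrix.cons_val_zero, _root_.Fin.coe_ofNat_eq_mod, _root_.Nat.zero_mod, _root_.pow_zero, _root_.mul_one, _root_.Matrix.cons_val_succ, _root_.Fin.val_succ, _root_.zero_add, _root_.pow_one, _root_.MulZeroClass.zero_mul, _root_.Nat.reduceAdd, _root_.Finset.univ_unique, _root_.Fin.default_eq_zero, _root_.Fin.val_eq_zero, _root_.neg_mul, _root_.one_mul, _root_.Finset.sum_neg_distrib, _root_.Finset.sum_const,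 _root_.Finset.card_singleton, _root_.Int.nsmul_eq_mul, _root_.Nat.cast_one]
  try ring

theorem bez_4 (x : ℤ) : (x ^ 2 + x ^ 3 + x ^ 4) * (1 - x ^ 2 + x ^ 4) + (-1 + x ^ 2 + x ^ 3) * (-1 - x ^ 5) = 1 := by
  ring

theorem G_5 (x : ℤ) : Gq B x (R 5) = 1 + x ^ 5 := by
  rw [Gq_coef B x (R 5) (G 5) (coefOK 5)]
  unfold G
  simp only [Fin.sum_univ_succ, _root_.Int.reduceNeg, _root_.Fin.isValue, _root_.Matrix.cons_val', _root_.Matrix.cons_val_fin_one, _root_.Matrix.cons_val, _root_.Matrix.cons_val_one, _root_.Matrix.cons_val_zero, _root_.Fin.coe_ofNat_eq_mod, _root_.Nat.zero_mod, _root_.pow_zero, _root_.mul_one, _root_.Matrix.cons_val_succ, _root_.Fin.val_succ, _root_.zero_add, _root_.pow_one, _root_.MulZeroClass.zero_mul, _root_.Nat.reduceAdd, _root_.Finset.univ_unique, _root_.Fin.default_eq_zero, _root_.Fin.val_eq_zero, _root_.one_mul, _root_.Finset.sum_const,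 _root_.Finset.card_singleton, _root_.Int.nsmul_eq_mul, _root_.Nat.cast_one]
  try ring

theorem bez_5 (x : ℤ) : (x ^ 2 + x ^ 3 + x ^ 4) * (1 - x ^ 2 + x ^ 4) + (1 - x ^ 2 - x ^ 3) * (1 + x ^ 5) = 1 := by
  ring

/-- Common divisors of `Φ(x)` and the value of `Gq` on a representative. -/
theorem dvd_of_G {x r : ℤ} (h : r ∣ 1 - x ^ 2 + x ^ 4) (s : Fin 6) (hs : r ∣ Gq B x (R s)) :
    r ∣ 2 := by
  have key : ∀ {a b g y : ℤ}, a * (1 - x ^ 2 + x ^ 4) + b * g = y → y ∣ 2 → r ∣ g → r ∣ 2 := fun e hy hg => by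
    refine dvd_trans ?_ hy
    rw [← e]
    exact dvd_add (h.mul_left _) (hg.mul_left _)
  fin_cases s
  · exact key (bez_0 x) (by norm_num) (by rw [← G_0]; exact hs)
  · exact key (bez_1 x) (by norm_num) (by rw [← G_1]; exact hs)
  · exact key (bez_2 x) (by norm_num) (by rw [← G_2]; exact hs)
  · exact key (bez_3 x) (by norm_num) (by rw [← G_3]; exact hs)
  · exact key (bez_4 x) (by norm_num) (by rw [← G_4]; exact hs)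
  · exact key (bez_5 x) (by norm_num) (by rw [← G_5]; exact hs)

end Cfsg.Agent.H719.TE6_12
end
end

-- part: H719/RowTData
section
prune_inst 0x10000100740000000000001002000000600001000000000020c0080201094200804000000200000080c498001000000000000100000000000000380000020020800602001000a2008a0001001002000000000000000000000000000000000000000000000
set_option linter.all false
open scoped Cfsg.Agent.FastGrp
private noncomputable def lq26bdd2f302 {T : Sort _} (f :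
    type_of% (@_root_.Matrix.vecCons.{0}) →
    type_of% (@_root_.Matrix.vecEmpty.{0}) →
    type_of% (@_root_.List.cons.{0}) →
    type_of% (@_root_.Prod.mk.{0, 0}) →
    type_of% (@_root_.List.nil.{0}) → T) : T :=
  f (@_root_.Matrix.vecCons.{0}) (@_root_.Matrix.vecEmpty.{0}) (@_root_.List.cons.{0}) (@_root_.Prod.mk.{0, 0}) (@_root_.List.nil.{0})

-- part: H719/TG2_3
section
/-!
# Data of a torus of type G2 (helper719): f(x) = 1 + x + x ^ 2, Phi(x) = 1 + x + x ^ 2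

Generated by a script; the word of `w` is 1 0 1 0.
-/

set_option autoImplicit false
set_option maxRecDepth 4000

namespace Cfsg.Agent.H719.TG2_3

open Cfsg.Agent.H129.TorusTw Cfsg.Agent.H129.WData Cfsg.Agent.ChevalleyStructure.CoxeterGeomTypes
open Cfsg.Lie Cfsg.Lie.ChevalleyDatum

/-- the Cartan matrix -/
def Am : Mat 2 := ![![2, -3],
    ![-1, 2]]

/-- the partial products -/
def chain : List (Fin 2 × Mat 2) := (beta% delta% lq26bdd2f302 fun a b c d e =>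
 (c (d 1 (a (a (-2)<|a (-1)<|b)<|
 a (a 3<|a 1<|b)<|b))<|
 c (d 0 (a (a (-2)<|a (-1)<|b)<|
 a (a 3<|a 2<|b)<|b))<|
 c (d 1 (a (a (-1)<|a (-1)<|b)<|
 a (a 3<|a 2<|b)<|b))<|
 c (d 0 (a (a (-1)<|a 0<|b)<|
 a (a 3<|a 1<|b)<|b))<|e))

/-- the matrix of `θ` -/
def Th : Mat 2 := ![![-2, -1],
    ![3, 1]]

/-- the basis -/
def V : Mat 2 := ![![-2, -1],
    ![1, 1]]

/-- the coordinates -/
def B : Mat 2 := ![![-1, -1],
    ![1, 2]]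

/-- the polynomial -/
def c : Fin 2 → ℤ := ![1, 1]

/-- the representatives of the orbits of `θ` on the roots -/
def R : Fin 4 → Fin 2 → ℤ := (beta% delta% lq26bdd2f302 fun a b _ _ _ =>
 (a (a (-3)<|a (-2)<|b)<|
 a (a 3<|a 2<|b)<|
 a (a (-2)<|a (-1)<|b)<|
 a (a 2<|a 1<|b)<|b))

/-- the values of the functional on the representatives -/
def G : Fin 4 → Fin 2 → ℤ := (beta% delta% lq26bdd2f302 fun a b _ _ _ =>
 (a (a 1<|a (-1)<|b)<|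
 a (a (-1)<|a 1<|b)<|
 a (a 1<|a 0<|b)<|
 a (a (-1)<|a 0<|b)<|b))

/-- predecessor -/
def prv (r : ℕ) : ℕ := Nat.mod (Nat.shiftRight 0x6000208000b0309000500 (8 * r)) 256

/-- depth -/
def dep (r : ℕ) : ℕ := Nat.mod (Nat.shiftRight 0x200010201010201000200 (8 * r)) 256

theorem hA : ∀ i j, Am i j = cartanOf chevG2 2 i j := by decide +kernel

theorem chainOK : ChainOK Am chain := by decide +kernel

theorem cycOK : CycOK 2 Th V B c := by decide +kernel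

theorem rootOK : RootOK chevG2 2 Th R prv dep := by decide +kernel

theorem coefOK : ∀ s i, ∑ j, R s j * B j i = G s i := by decide +kernel

theorem fN_eq (x : ℤ) : fN c x = 1 + x + x ^ 2 := by
  unfold fN c
  simp [Fin.sum_univ_succ]
  try ring

theorem G_0 (x : ℤ) : Gq B x (R 0) = 1 - x := by
  rw [Gq_coef B x (R 0) (G 0) (coefOK 0)]
  unfold G
  simp [Fin.sum_univ_succ]
  try ring

theorem bez_0 (x : ℤ) : (1) * (1 + x + x ^ 2) + (2 + x) * (1 - x) = 3 := by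
  ring

theorem G_1 (x : ℤ) : Gq B x (R 1) = -1 + x := by
  rw [Gq_coef B x (R 1) (G 1) (coefOK 1)]
  unfold G
  simp [Fin.sum_univ_succ]
  try ring

theorem bez_1 (x : ℤ) : (1) * (1 + x + x ^ 2) + (-2 - x) * (-1 + x) = 3 := by
  ring

theorem G_2 (x : ℤ) : Gq B x (R 2) = 1 := by
  rw [Gq_coef B x (R 2) (G 2) (coefOK 2)]
  unfold G
  simp [Fin.sum_univ_succ]
  try ring

theorem bez_2 (x : ℤ) : (0) * (1 + x + x ^ 2) + (1) * (1) = 1 := by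
  ring

theorem G_3 (x : ℤ) : Gq B x (R 3) = -1 := by
  rw [Gq_coef B x (R 3) (G 3) (coefOK 3)]
  unfold G
  simp [Fin.sum_univ_succ]
  try ring

theorem bez_3 (x : ℤ) : (0) * (1 + x + x ^ 2) + (-1) * (-1) = 1 := by
  ring

/-- Common divisors of `Φ(x)` and the value of `Gq` on a representative. -/
theorem dvd_of_G {x r : ℤ} (h : r ∣ 1 + x + x ^ 2) (s : Fin 4) (hs : r ∣ Gq B x (R s)) :
    r ∣ 3 := by
  have key : ∀ {a b g y : ℤ}, a * (1 + x + x ^ 2) + b * g = y → y ∣ 3 → r ∣ g → r ∣ 3 := fun e hy hg => by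
    refine dvd_trans ?_ hy
    rw [← e]
    exact dvd_add (h.mul_left _) (hg.mul_left _)
  fin_cases s
  · exact key (bez_0 x) (by norm_num) (by rw [← G_0]; exact hs)
  · exact key (bez_1 x) (by norm_num) (by rw [← G_1]; exact hs)
  · exact key (bez_2 x) (by norm_num) (by rw [← G_2]; exact hs)
  · exact key (bez_3 x) (by norm_num) (by rw [← G_3]; exact hs)

end Cfsg.Agent.H719.TG2_3
end

-- part: H719/TG2_6
section
/-!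
# Data of a torus of type G2 (helper719): f(x) = 1 - x + x ^ 2, Phi(x) = 1 - x + x ^ 2

Generated by a script; the word of `w` is 0 1.
-/

set_option autoImplicit false
set_option maxRecDepth 4000

namespace Cfsg.Agent.H719.TG2_6

open Cfsg.Agent.H129.TorusTw Cfsg.Agent.H129.WData Cfsg.Agent.ChevalleyStructure.CoxeterGeomTypes
open Cfsg.Lie Cfsg.Lie.ChevalleyDatum

/-- the Cartan matrix -/
def Am : Mat 2 := ![![2, -3],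
    ![-1, 2]]

/-- the partial products -/
def chain : List (Fin 2 × Mat 2) := (beta% delta% lq26bdd2f302 fun a b c d e =>
 (c (d 0 (a (a 2<|a 1<|b)<|
 a (a (-3)<|a (-1)<|b)<|b))<|
 c (d 1 (a (a 1<|a 1<|b)<|
 a (a 0<|a (-1)<|b)<|b))<|e))

/-- the matrix of `θ` -/
def Th : Mat 2 := ![![2, 1],
    ![-3, -1]]

/-- the basis -/
def V : Mat 2 := ![![-2, -1],
    ![-1, -1]]

/-- the coordinates -/
def B : Mat 2 := ![![-1, 1],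
    ![1, -2]]

/-- the polynomial -/
def c : Fin 2 → ℤ := ![1, -1]

/-- the representatives of the orbits of `θ` on the roots -/
def R : Fin 2 → Fin 2 → ℤ := ![![-3, -2],
    ![-2, -1]]

/-- the values of the functional on the representatives -/
def G : Fin 2 → Fin 2 → ℤ := ![![1, 1],
    ![1, 0]]

/-- predecessor -/
def prv (r : ℕ) : ℕ := Nat.mod (Nat.shiftRight 0xa050709030b000802000600 (8 * r)) 256

/-- depth -/
def dep (r : ℕ) : ℕ := Nat.mod (Nat.shiftRight 0x30203040204010501000500 (8 * r)) 256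

theorem hA : ∀ i j, Am i j = cartanOf chevG2 2 i j := by decide +kernel

theorem chainOK : ChainOK Am chain := by decide +kernel

theorem cycOK : CycOK 2 Th V B c := by decide +kernel

theorem rootOK : RootOK chevG2 2 Th R prv dep := by decide +kernel

theorem coefOK : ∀ s i, ∑ j, R s j * B j i = G s i := by decide +kernel

theorem fN_eq (x : ℤ) : fN c x = 1 - x + x ^ 2 := by
  unfold fN c
  simp [Fin.sum_univ_succ]
  try ring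

theorem G_0 (x : ℤ) : Gq B x (R 0) = 1 + x := by
  rw [Gq_coef B x (R 0) (G 0) (coefOK 0)]
  unfold G
  simp [Fin.sum_univ_succ]
  try ring

theorem bez_0 (x : ℤ) : (1) * (1 - x + x ^ 2) + (2 - x) * (1 + x) = 3 := by
  ring

theorem G_1 (x : ℤ) : Gq B x (R 1) = 1 := by
  rw [Gq_coef B x (R 1) (G 1) (coefOK 1)]
  unfold G
  simp [Fin.sum_univ_succ]
  try ring

theorem bez_1 (x : ℤ) : (0) * (1 - x + x ^ 2) + (1) * (1) = 1 := by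
  ring

/-- Common divisors of `Φ(x)` and the value of `Gq` on a representative. -/
theorem dvd_of_G {x r : ℤ} (h : r ∣ 1 - x + x ^ 2) (s : Fin 2) (hs : r ∣ Gq B x (R s)) :
    r ∣ 3 := by
  have key : ∀ {a b g y : ℤ}, a * (1 - x + x ^ 2) + b * g = y → y ∣ 3 → r ∣ g → r ∣ 3 := fun e hy hg => by
    refine dvd_trans ?_ hy
    rw [← e]
    exact dvd_add (h.mul_left _) (hg.mul_left _)
  fin_cases s
  · exact key (bez_0 x) (by norm_num) (by rw [← G_0]; exact hs)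
  · exact key (bez_1 x) (by norm_num) (by rw [← G_1]; exact hs)

end Cfsg.Agent.H719.TG2_6
end

-- part: H719/TF4_8
section
/-!
# Data of a torus of type F4 (helper719): f(x) = 1 + x ^ 4, Phi(x) = 1 + x ^ 4

Generated by a script; the word of `w` is 1 0 2 1 2 3.
-/

set_option autoImplicit false
set_option maxRecDepth 4000

namespace Cfsg.Agent.H719.TF4_8

open Cfsg.Agent.H129.TorusTw Cfsg.Agent.H129.WData Cfsg.Agent.ChevalleyStructure.CoxeterGeomTypes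
open Cfsg.Lie Cfsg.Lie.ChevalleyDatum

/-- the Cartan matrix -/
def Am : Mat 4 := (beta% delta% lq26bdd2f302 fun a b _ _ _ =>
 (a (a 2<|a (-1)<|a 0<|a 0<|b)<|
 a (a (-1)<|a 2<|a (-2)<|a 0<|b)<|
 a (a 0<|a (-1)<|a 2<|a (-1)<|b)<|
 a (a 0<|a 0<|a (-1)<|a 2<|b)<|b))

/-- the partial products -/
def chain : List (Fin 4 × Mat 4) := (beta% delta% lq26bdd2f302 fun a b c d e =>
 (c (d 1 (a (a 0<|a 1<|a 1<|a 0<|b)<|
 a (a 1<|a 0<|a 0<|a 0<|b)<|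
 a (a 0<|a 2<|a 1<|a 1<|b)<|
 a (a (-2)<|a (-4)<|a (-2)<|a (-1)<|b)<|b))<|
 c (d 0 (a (a 0<|a 1<|a 1<|a 0<|b)<|
 a (a 1<|a 1<|a 0<|a 0<|b)<|
 a (a 0<|a 0<|a 1<|a 1<|b)<|
 a (a (-2)<|a (-2)<|a (-2)<|a (-1)<|b)<|b))<|
 c (d 2 (a (a 1<|a 1<|a 1<|a 0<|b)<|
 a (a 0<|a 1<|a 0<|a 0<|b)<|
 a (a 0<|a 0<|a 1<|a 1<|b)<|
 a (a 0<|a (-2)<|a (-2)<|a (-1)<|b)<|b))<|
 c (d 1 (a (a 1<|a 1<|a 0<|a 0<|b)<|
 a (a 0<|a 1<|a 1<|a 0<|b)<|
 a (a 0<|a 0<|a 0<|a 1<|b)<|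
 a (a 0<|a (-2)<|a (-1)<|a (-1)<|b)<|b))<|
 c (d 2 (a (a 1<|a 0<|a 0<|a 0<|b)<|
 a (a 0<|a 1<|a 1<|a 0<|b)<|
 a (a 0<|a 0<|a 0<|a 1<|b)<|
 a (a 0<|a 0<|a (-1)<|a (-1)<|b)<|b))<|
 c (d 3 (a (a 1<|a 0<|a 0<|a 0<|b)<|
 a (a 0<|a 1<|a 0<|a 0<|b)<|
 a (a 0<|a 0<|a 1<|a 1<|b)<|
 a (a 0<|a 0<|a 0<|a (-1)<|b)<|b))<|e))

/-- the matrix of `θ` -/
def Th : Mat 4 := (beta% delta% lq26bdd2f302 fun a b _ _ _ =>
 (a (a 0<|a 1<|a 1<|a 0<|b)<|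
 a (a 1<|a 0<|a 0<|a 0<|b)<|
 a (a 0<|a 2<|a 1<|a 1<|b)<|
 a (a (-2)<|a (-4)<|a (-2)<|a (-1)<|b)<|b))

/-- the basis -/
def V : Mat 4 := (beta% delta% lq26bdd2f302 fun a b _ _ _ =>
 (a (a (-2)<|a (-3)<|a (-2)<|a (-1)<|b)<|
 a (a (-1)<|a (-2)<|a (-2)<|a (-1)<|b)<|
 a (a 0<|a (-1)<|a (-1)<|a (-1)<|b)<|
 a (a 1<|a 2<|a 1<|a 0<|b)<|b))

/-- the coordinates -/
def B : Mat 4 := (beta% delta% lq26bdd2f302 fun a b _ _ _ =>
 (a (a (-1)<|a 0<|a 1<|a (-1)<|b)<|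
 a (a 0<|a 1<|a (-1)<|a 1<|b)<|
 a (a 1<|a (-2)<|a 1<|a 0<|b)<|
 a (a (-1)<|a 1<|a (-1)<|a (-1)<|b)<|b))

/-- the polynomial -/
def c : Fin 4 → ℤ := ![1, 0, 0, 0]

/-- the representatives of the orbits of `θ` on the roots -/
def R : Fin 6 → Fin 4 → ℤ := (beta% delta% lq26bdd2f302 fun a b _ _ _ =>
 (a (a (-2)<|a (-4)<|a (-3)<|a (-2)<|b)<|
 a (a (-2)<|a (-4)<|a (-2)<|a (-1)<|b)<|
 a (a (-2)<|a (-3)<|a (-2)<|a (-1)<|b)<|
 a (a (-2)<|a (-2)<|a (-1)<|a (-1)<|b)<|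
 a (a 1<|a 1<|a 0<|a 0<|b)<|
 a (a (-1)<|a (-2)<|a (-1)<|a (-1)<|b)<|b))

/-- the values of the functional on the representatives -/
def G : Fin 6 → Fin 4 → ℤ := (beta% delta% lq26bdd2f302 fun a b _ _ _ =>
 (a (a 1<|a 0<|a 1<|a 0<|b)<|
 a (a 1<|a (-1)<|a 1<|a (-1)<|b)<|
 a (a 1<|a 0<|a 0<|a 0<|b)<|
 a (a 2<|a (-1)<|a 0<|a 1<|b)<|
 a (a (-1)<|a 1<|a 0<|a 0<|b)<|
 a (a 1<|a (-1)<|a 1<|a 0<|b)<|b))

/-- predecessor -/
def prv (r : ℕ) : ℕ := Nat.mod (Nat.shiftRight 0x2e2917252d1e15232c1c122822001b2b19102721092f2a200f0500260e081f160414240d071d00030c1a000200000600 (8 * r)) 256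

/-- depth -/
def dep (r : ℕ) : ℕ := Nat.mod (Nat.shiftRight 0x40304040504020205040303010002060603060301050507030101050702070202060405070700010606000100000700 (8 * r)) 256

theorem hA : ∀ i j, Am i j = cartanOf chevF4 4 i j := by (delta Cfsg.Agent.ChevalleyStructure.CoxeterGeomTypes.cartanOf; rewrite [Cfsg.Agent.ChevFast.F4.cartan]; decide +kernel)

theorem chainOK : ChainOK Am chain := by decide +kernel

theorem cycOK : CycOK 4 Th V B c :=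
  H129.RootF.cyc H129.ChainF.i4 H129.RootF.t4 H129.ChainF.m4 H129.RootF.t4 H129.ChainF.m4 H129.RootF.t4 H129.RootF.r4 (by decide +kernel)

theorem rootOK : RootOK chevF4 4 Th R prv dep :=
  H129.RootF.ok H129.RootF.t4 (H129.RootF.mc H129.RootF.r4 <| H129.RootF.mc H129.RootF.r4 <| H129.RootF.mc H129.RootF.r4 <| H129.RootF.mc H129.RootF.r4 <| H129.RootF.mc H129.RootF.r4 <| H129.RootF.mc H129.RootF.r4 <| H129.RootF.m0) (by decide +kernel)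

theorem coefOK : ∀ s i, ∑ j, R s j * B j i = G s i := by decide +kernel

theorem fN_eq (x : ℤ) : fN c x = 1 + x ^ 4 := by
  unfold fN c
  simp [Fin.sum_univ_succ]
  try ring

theorem G_0 (x : ℤ) : Gq B x (R 0) = 1 + x ^ 2 := by
  rw [Gq_coef B x (R 0) (G 0) (coefOK 0)]
  unfold G
  simp [Fin.sum_univ_succ]
  try ring

theorem bez_0 (x : ℤ) : (1) * (1 + x ^ 4) + (1 - x ^ 2) * (1 + x ^ 2) = 2 := by
  ring

theorem G_1 (x : ℤ) : Gq B x (R 1) = 1 - x + x ^ 2 - x ^ 3 := by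
  rw [Gq_coef B x (R 1) (G 1) (coefOK 1)]
  unfold G
  simp [Fin.sum_univ_succ]
  try ring

theorem bez_1 (x : ℤ) : (1) * (1 + x ^ 4) + (1 + x) * (1 - x + x ^ 2 - x ^ 3) = 2 := by
  ring

theorem G_2 (x : ℤ) : Gq B x (R 2) = 1 := by
  rw [Gq_coef B x (R 2) (G 2) (coefOK 2)]
  unfold G
  simp [Fin.sum_univ_succ]
  try ring

theorem bez_2 (x : ℤ) : (0) * (1 + x ^ 4) + (1) * (1) = 1 := by
  ring

theorem G_3 (x : ℤ) : Gq B x (R 3) = 2 - x + x ^ 3 := by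
  rw [Gq_coef B x (R 3) (G 3) (coefOK 3)]
  unfold G
  simp [Fin.sum_univ_succ]
  try ring

theorem bez_3 (x : ℤ) : (-2 + x ^ 2) * (1 + x ^ 4) + (2 + x - x ^ 3) * (2 - x + x ^ 3) = 2 := by
  ring

theorem G_4 (x : ℤ) : Gq B x (R 4) = -1 + x := by
  rw [Gq_coef B x (R 4) (G 4) (coefOK 4)]
  unfold G
  simp [Fin.sum_univ_succ]
  try ring

theorem bez_4 (x : ℤ) : (1) * (1 + x ^ 4) + (-1 - x - x ^ 2 - x ^ 3) * (-1 + x) = 2 := by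
  ring

theorem G_5 (x : ℤ) : Gq B x (R 5) = 1 - x + x ^ 2 := by
  rw [Gq_coef B x (R 5) (G 5) (coefOK 5)]
  unfold G
  simp [Fin.sum_univ_succ]
  try ring

theorem bez_5 (x : ℤ) : (x) * (1 + x ^ 4) + (1 - x ^ 2 - x ^ 3) * (1 - x + x ^ 2) = 1 := by
  ring

/-- Common divisors of `Φ(x)` and the value of `Gq` on a representative. -/
theorem dvd_of_G {x r : ℤ} (h : r ∣ 1 + x ^ 4) (s : Fin 6) (hs : r ∣ Gq B x (R s)) :
    r ∣ 2 := by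
  have key : ∀ {a b g y : ℤ}, a * (1 + x ^ 4) + b * g = y → y ∣ 2 → r ∣ g → r ∣ 2 := fun e hy hg => by
    refine dvd_trans ?_ hy
    rw [← e]
    exact dvd_add (h.mul_left _) (hg.mul_left _)
  fin_cases s
  · exact key (bez_0 x) (by norm_num) (by rw [← G_0]; exact hs)
  · exact key (bez_1 x) (by norm_num) (by rw [← G_1]; exact hs)
  · exact key (bez_2 x) (by norm_num) (by rw [← G_2]; exact hs)
  · exact key (bez_3 x) (by norm_num) (by rw [← G_3]; exact hs)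
  · exact key (bez_4 x) (by norm_num) (by rw [← G_4]; exact hs)
  · exact key (bez_5 x) (by norm_num) (by rw [← G_5]; exact hs)

end Cfsg.Agent.H719.TF4_8
end

-- part: H719/TF4_12
section
/-!
# Data of a torus of type F4 (helper719): f(x) = 1 - x ^ 2 + x ^ 4, Phi(x) = 1 - x ^ 2 + x ^ 4

Generated by a script; the word of `w` is 3 0 1 2.
-/

set_option autoImplicit false
set_option maxRecDepth 4000

namespace Cfsg.Agent.H719.TF4_12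

open Cfsg.Agent.H129.TorusTw Cfsg.Agent.H129.WData Cfsg.Agent.ChevalleyStructure.CoxeterGeomTypes
open Cfsg.Lie Cfsg.Lie.ChevalleyDatum

/-- the Cartan matrix -/
def Am : Mat 4 := (beta% delta% lq26bdd2f302 fun a b _ _ _ =>
 (a (a 2<|a (-1)<|a 0<|a 0<|b)<|
 a (a (-1)<|a 2<|a (-2)<|a 0<|b)<|
 a (a 0<|a (-1)<|a 2<|a (-1)<|b)<|
 a (a 0<|a 0<|a (-1)<|a 2<|b)<|b))

/-- the partial products -/
def chain : List (Fin 4 × Mat 4) := (beta% delta% lq26bdd2f302 fun a b c d e =>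
 (c (d 3 (a (a 0<|a 1<|a 0<|a 0<|b)<|
 a (a 1<|a 1<|a 1<|a 1<|b)<|
 a (a (-2)<|a (-2)<|a (-1)<|a (-1)<|b)<|
 a (a 2<|a 2<|a 1<|a 0<|b)<|b))<|
 c (d 0 (a (a 0<|a 1<|a 0<|a 0<|b)<|
 a (a 1<|a 1<|a 1<|a 0<|b)<|
 a (a (-2)<|a (-2)<|a (-1)<|a 0<|b)<|
 a (a 2<|a 2<|a 1<|a 1<|b)<|b))<|
 c (d 1 (a (a 1<|a 1<|a 0<|a 0<|b)<|
 a (a 0<|a 1<|a 1<|a 0<|b)<|
 a (a 0<|a (-2)<|a (-1)<|a 0<|b)<|
 a (a 0<|a 2<|a 1<|a 1<|b)<|b))<|
 c (d 2 (a (a 1<|a 0<|a 0<|a 0<|b)<|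
 a (a 0<|a 1<|a 1<|a 0<|b)<|
 a (a 0<|a 0<|a (-1)<|a 0<|b)<|
 a (a 0<|a 0<|a 1<|a 1<|b)<|b))<|e))

/-- the matrix of `θ` -/
def Th : Mat 4 := (beta% delta% lq26bdd2f302 fun a b _ _ _ =>
 (a (a 0<|a 1<|a 0<|a 0<|b)<|
 a (a 1<|a 1<|a 1<|a 1<|b)<|
 a (a (-2)<|a (-2)<|a (-1)<|a (-1)<|b)<|
 a (a 2<|a 2<|a 1<|a 0<|b)<|b))

/-- the basis -/
def V : Mat 4 := (beta% delta% lq26bdd2f302 fun a b _ _ _ =>
 (a (a (-2)<|a (-3)<|a (-2)<|a (-1)<|b)<|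
 a (a (-1)<|a (-3)<|a (-2)<|a (-1)<|b)<|
 a (a (-1)<|a (-2)<|a (-2)<|a (-1)<|b)<|
 a (a 0<|a (-1)<|a (-1)<|a 0<|b)<|b))

/-- the coordinates -/
def B : Mat 4 := (beta% delta% lq26bdd2f302 fun a b _ _ _ =>
 (a (a (-1)<|a 1<|a 0<|a 0<|b)<|
 a (a 0<|a (-1)<|a 1<|a 0<|b)<|
 a (a 0<|a 1<|a (-1)<|a (-1)<|b)<|
 a (a 1<|a (-1)<|a (-1)<|a 2<|b)<|b))

/-- the polynomial -/
def c : Fin 4 → ℤ := ![1, 0, -1, 0]

/-- the representatives of the orbits of `θ` on the roots -/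
def R : Fin 4 → Fin 4 → ℤ := (beta% delta% lq26bdd2f302 fun a b _ _ _ =>
 (a (a (-2)<|a (-4)<|a (-3)<|a (-1)<|b)<|
 a (a (-2)<|a (-3)<|a (-2)<|a (-1)<|b)<|
 a (a (-2)<|a (-2)<|a (-2)<|a (-1)<|b)<|
 a (a 1<|a 0<|a 0<|a 0<|b)<|b))

/-- the values of the functional on the representatives -/
def G : Fin 4 → Fin 4 → ℤ := (beta% delta% lq26bdd2f302 fun a b _ _ _ =>
 (a (a 1<|a 0<|a 0<|a 1<|b)<|
 a (a 1<|a 0<|a 0<|a 0<|b)<|
 a (a 1<|a (-1)<|a 1<|a 0<|b)<|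
 a (a (-1)<|a 1<|a 0<|a 0<|b)<|b))

/-- predecessor -/
def prv (r : ℕ) : ℕ := Nat.mod (Nat.shiftRight 0x2d2f2a261f16182c2822241b1d13002e292b2527211e20151a0f110e080a040601231c12140b0d070317190000050002 (8 * r)) 256

/-- depth -/
def dep (r : ℕ) : ℕ := Nat.mod (Nat.shiftRight 0x5060406060304070805030205040007050704090108080309020207030a010b01060a0b08090b02010a0900000a000b (8 * r)) 256

theorem hA : ∀ i j, Am i j = cartanOf chevF4 4 i j := by (delta Cfsg.Agent.ChevalleyStructure.CoxeterGeomTypes.cartanOf; rewrite [Cfsg.Agent.ChevFast.F4.cartan]; decide +kernel)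

theorem chainOK : ChainOK Am chain := by decide +kernel

theorem cycOK : CycOK 4 Th V B c :=
  H129.RootF.cyc H129.ChainF.i4 H129.RootF.t4 H129.ChainF.m4 H129.RootF.t4 H129.ChainF.m4 H129.RootF.t4 H129.RootF.r4 (by decide +kernel)

theorem rootOK : RootOK chevF4 4 Th R prv dep :=
  H129.RootF.ok H129.RootF.t4 (H129.RootF.mc H129.RootF.r4 <| H129.RootF.mc H129.RootF.r4 <| H129.RootF.mc H129.RootF.r4 <| H129.RootF.mc H129.RootF.r4 <| H129.RootF.m0) (by decide +kernel)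

theorem coefOK : ∀ s i, ∑ j, R s j * B j i = G s i := by decide +kernel

theorem fN_eq (x : ℤ) : fN c x = 1 - x ^ 2 + x ^ 4 := by
  unfold fN c
  simp [Fin.sum_univ_succ]
  try ring

theorem G_0 (x : ℤ) : Gq B x (R 0) = 1 + x ^ 3 := by
  rw [Gq_coef B x (R 0) (G 0) (coefOK 0)]
  unfold G
  simp [Fin.sum_univ_succ]
  try ring

theorem bez_0 (x : ℤ) : (1 + x ^ 2) * (1 - x ^ 2 + x ^ 4) + (1 - x ^ 3) * (1 + x ^ 3) = 2 := by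
  ring

theorem G_1 (x : ℤ) : Gq B x (R 1) = 1 := by
  rw [Gq_coef B x (R 1) (G 1) (coefOK 1)]
  unfold G
  simp [Fin.sum_univ_succ]
  try ring

theorem bez_1 (x : ℤ) : (0) * (1 - x ^ 2 + x ^ 4) + (1) * (1) = 1 := by
  ring

theorem G_2 (x : ℤ) : Gq B x (R 2) = 1 - x + x ^ 2 := by
  rw [Gq_coef B x (R 2) (G 2) (coefOK 2)]
  unfold G
  simp [Fin.sum_univ_succ]
  try ring

theorem bez_2 (x : ℤ) : (x) * (1 - x ^ 2 + x ^ 4) + (2 + x - x ^ 2 - x ^ 3) * (1 - x + x ^ 2) = 2 := by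
  ring

theorem G_3 (x : ℤ) : Gq B x (R 3) = -1 + x := by
  rw [Gq_coef B x (R 3) (G 3) (coefOK 3)]
  unfold G
  simp [Fin.sum_univ_succ]
  try ring

theorem bez_3 (x : ℤ) : (1) * (1 - x ^ 2 + x ^ 4) + (-x ^ 2 - x ^ 3) * (-1 + x) = 1 := by
  ring

/-- Common divisors of `Φ(x)` and the value of `Gq` on a representative. -/
theorem dvd_of_G {x r : ℤ} (h : r ∣ 1 - x ^ 2 + x ^ 4) (s : Fin 4) (hs : r ∣ Gq B x (R s)) :
    r ∣ 2 := by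
  have key : ∀ {a b g y : ℤ}, a * (1 - x ^ 2 + x ^ 4) + b * g = y → y ∣ 2 → r ∣ g → r ∣ 2 := fun e hy hg => by
    refine dvd_trans ?_ hy
    rw [← e]
    exact dvd_add (h.mul_left _) (hg.mul_left _)
  fin_cases s
  · exact key (bez_0 x) (by norm_num) (by rw [← G_0]; exact hs)
  · exact key (bez_1 x) (by norm_num) (by rw [← G_1]; exact hs)
  · exact key (bez_2 x) (by norm_num) (by rw [← G_2]; exact hs)
  · exact key (bez_3 x) (by norm_num) (by rw [← G_3]; exact hs)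

end Cfsg.Agent.H719.TF4_12
end

-- part: H719/TE7_7
section
/-!
# Data of a torus of type E7 (helper719): f(x) = -1 + x ^ 7, Phi(x) = 1 + x + x ^ 2 + x ^ 3 + x ^ 4 + x ^ 5 + x ^ 6

Generated by a script; the word of `w` is 0 2 3 4 5 6.
-/

set_option autoImplicit false
set_option maxRecDepth 4000

namespace Cfsg.Agent.H719.TE7_7

open Cfsg.Agent.H129.TorusTw Cfsg.Agent.H129.WData Cfsg.Agent.ChevalleyStructure.CoxeterGeomTypes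
open Cfsg.Lie Cfsg.Lie.ChevalleyDatum

/-- the Cartan matrix -/
def Am : Mat 7 := (beta% delta% lq26bdd2f302 fun a b _ _ _ =>
 (a (a 2<|a 0<|a (-1)<|a 0<|a 0<|a 0<|a 0<|b)<|
 a (a 0<|a 2<|a 0<|a (-1)<|a 0<|a 0<|a 0<|b)<|
 a (a (-1)<|a 0<|a 2<|a (-1)<|a 0<|a 0<|a 0<|b)<|
 a (a 0<|a (-1)<|a (-1)<|a 2<|a (-1)<|a 0<|a 0<|b)<|
 a (a 0<|a 0<|a 0<|a (-1)<|a 2<|a (-1)<|a 0<|b)<|
 a (a 0<|a 0<|a 0<|a 0<|a (-1)<|a 2<|a (-1)<|b)<|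
 a (a 0<|a 0<|a 0<|a 0<|a 0<|a (-1)<|a 2<|b)<|b))

/-- the partial products -/
def chain : List (Fin 7 × Mat 7) := (beta% delta% lq26bdd2f302 fun a b c d e =>
 (c (d 0 (a (a 0<|a 0<|a 1<|a 0<|a 0<|a 0<|a 0<|b)<|
 a (a 1<|a 1<|a 1<|a 1<|a 0<|a 0<|a 0<|b)<|
 a (a 0<|a 0<|a 0<|a 1<|a 0<|a 0<|a 0<|b)<|
 a (a 0<|a 0<|a 0<|a 0<|a 1<|a 0<|a 0<|b)<|
 a (a 0<|a 0<|a 0<|a 0<|a 0<|a 1<|a 0<|b)<|
 a (a 0<|a 0<|a 0<|a 0<|a 0<|a 0<|a 1<|b)<|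
 a (a (-1)<|a 0<|a (-1)<|a (-1)<|a (-1)<|a (-1)<|a (-1)<|b)<|b))<|
 c (d 2 (a (a 1<|a 0<|a 1<|a 0<|a 0<|a 0<|a 0<|b)<|
 a (a 0<|a 1<|a 1<|a 1<|a 0<|a 0<|a 0<|b)<|
 a (a 0<|a 0<|a 0<|a 1<|a 0<|a 0<|a 0<|b)<|
 a (a 0<|a 0<|a 0<|a 0<|a 1<|a 0<|a 0<|b)<|
 a (a 0<|a 0<|a 0<|a 0<|a 0<|a 1<|a 0<|b)<|
 a (a 0<|a 0<|a 0<|a 0<|a 0<|a 0<|a 1<|b)<|
 a (a 0<|a 0<|a (-1)<|a (-1)<|a (-1)<|a (-1)<|a (-1)<|b)<|b))<|
 c (d 3 (a (a 1<|a 0<|a 0<|a 0<|a 0<|a 0<|a 0<|b)<|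
 a (a 0<|a 1<|a 0<|a 1<|a 0<|a 0<|a 0<|b)<|
 a (a 0<|a 0<|a 1<|a 1<|a 0<|a 0<|a 0<|b)<|
 a (a 0<|a 0<|a 0<|a 0<|a 1<|a 0<|a 0<|b)<|
 a (a 0<|a 0<|a 0<|a 0<|a 0<|a 1<|a 0<|b)<|
 a (a 0<|a 0<|a 0<|a 0<|a 0<|a 0<|a 1<|b)<|
 a (a 0<|a 0<|a 0<|a (-1)<|a (-1)<|a (-1)<|a (-1)<|b)<|b))<|
 c (d 4 (a (a 1<|a 0<|a 0<|a 0<|a 0<|a 0<|a 0<|b)<|
 a (a 0<|a 1<|a 0<|a 0<|a 0<|a 0<|a 0<|b)<|
 a (a 0<|a 0<|a 1<|a 0<|a 0<|a 0<|a 0<|b)<|
 a (a 0<|a 0<|a 0<|a 1<|a 1<|a 0<|a 0<|b)<|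
 a (a 0<|a 0<|a 0<|a 0<|a 0<|a 1<|a 0<|b)<|
 a (a 0<|a 0<|a 0<|a 0<|a 0<|a 0<|a 1<|b)<|
 a (a 0<|a 0<|a 0<|a 0<|a (-1)<|a (-1)<|a (-1)<|b)<|b))<|
 c (d 5 (a (a 1<|a 0<|a 0<|a 0<|a 0<|a 0<|a 0<|b)<|
 a (a 0<|a 1<|a 0<|a 0<|a 0<|a 0<|a 0<|b)<|
 a (a 0<|a 0<|a 1<|a 0<|a 0<|a 0<|a 0<|b)<|
 a (a 0<|a 0<|a 0<|a 1<|a 0<|a 0<|a 0<|b)<|
 a (a 0<|a 0<|a 0<|a 0<|a 1<|a 1<|a 0<|b)<|
 a (a 0<|a 0<|a 0<|a 0<|a 0<|a 0<|a 1<|b)<|
 a (a 0<|a 0<|a 0<|a 0<|a 0<|a (-1)<|a (-1)<|b)<|b))<|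
 c (d 6 (a (a 1<|a 0<|a 0<|a 0<|a 0<|a 0<|a 0<|b)<|
 a (a 0<|a 1<|a 0<|a 0<|a 0<|a 0<|a 0<|b)<|
 a (a 0<|a 0<|a 1<|a 0<|a 0<|a 0<|a 0<|b)<|
 a (a 0<|a 0<|a 0<|a 1<|a 0<|a 0<|a 0<|b)<|
 a (a 0<|a 0<|a 0<|a 0<|a 1<|a 0<|a 0<|b)<|
 a (a 0<|a 0<|a 0<|a 0<|a 0<|a 1<|a 1<|b)<|
 a (a 0<|a 0<|a 0<|a 0<|a 0<|a 0<|a (-1)<|b)<|b))<|e))

/-- the matrix of `θ` -/
def Th : Mat 7 := (beta% delta% lq26bdd2f302 fun a b _ _ _ =>
 (a (a 0<|a 0<|a 1<|a 0<|a 0<|a 0<|a 0<|b)<|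
 a (a 1<|a 1<|a 1<|a 1<|a 0<|a 0<|a 0<|b)<|
 a (a 0<|a 0<|a 0<|a 1<|a 0<|a 0<|a 0<|b)<|
 a (a 0<|a 0<|a 0<|a 0<|a 1<|a 0<|a 0<|b)<|
 a (a 0<|a 0<|a 0<|a 0<|a 0<|a 1<|a 0<|b)<|
 a (a 0<|a 0<|a 0<|a 0<|a 0<|a 0<|a 1<|b)<|
 a (a (-1)<|a 0<|a (-1)<|a (-1)<|a (-1)<|a (-1)<|a (-1)<|b)<|b))

/-- the basis -/
def V : Mat 7 := (beta% delta% lq26bdd2f302 fun a b _ _ _ =>
 (a (a (-1)<|a (-1)<|a (-2)<|a (-3)<|a (-3)<|a (-2)<|a (-1)<|b)<|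
 a (a 0<|a (-1)<|a (-1)<|a (-2)<|a (-2)<|a (-2)<|a (-1)<|b)<|
 a (a 0<|a (-1)<|a 0<|a (-1)<|a (-1)<|a (-1)<|a (-1)<|b)<|
 a (a 0<|a (-1)<|a 0<|a 0<|a 0<|a 0<|a 0<|b)<|
 a (a (-1)<|a (-1)<|a (-1)<|a (-1)<|a 0<|a 0<|a 0<|b)<|
 a (a (-1)<|a (-1)<|a (-2)<|a (-2)<|a (-1)<|a 0<|a 0<|b)<|
 a (a (-1)<|a (-1)<|a (-2)<|a (-3)<|a (-2)<|a (-1)<|a 0<|b)<|b))

/-- the coordinates -/
def B : Mat 7 := (beta% delta% lq26bdd2f302 fun a b _ _ _ =>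
 (a (a (-1)<|a 1<|a 0<|a 0<|a (-1)<|a 1<|a 0<|b)<|
 a (a 0<|a 0<|a 0<|a (-1)<|a 0<|a 0<|a 0<|b)<|
 a (a 0<|a (-1)<|a 1<|a 0<|a 0<|a (-1)<|a 1<|b)<|
 a (a 1<|a 0<|a (-1)<|a 1<|a 0<|a 0<|a (-1)<|b)<|
 a (a (-1)<|a 1<|a 0<|a (-1)<|a 1<|a 0<|a 0<|b)<|
 a (a 0<|a (-1)<|a 1<|a 0<|a (-1)<|a 1<|a 0<|b)<|
 a (a 0<|a 0<|a (-1)<|a 1<|a 0<|a (-1)<|a 1<|b)<|b))

/-- the polynomial -/
def c : Fin 7 → ℤ := ![-1, 0, 0, 0, 0, 0, 0]

/-- the representatives of the orbits of `θ` on the roots -/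
def R : Fin 18 → Fin 7 → ℤ := (beta% delta% lq26bdd2f302 fun a b _ _ _ =>
 (a (a (-1)<|a (-2)<|a (-2)<|a (-3)<|a (-3)<|a (-2)<|a (-1)<|b)<|
 a (a (-1)<|a (-1)<|a (-2)<|a (-3)<|a (-3)<|a (-2)<|a (-1)<|b)<|
 a (a (-1)<|a (-1)<|a (-2)<|a (-2)<|a (-2)<|a (-1)<|a 0<|b)<|
 a (a (-1)<|a (-1)<|a (-1)<|a (-1)<|a (-1)<|a 0<|a 0<|b)<|
 a (a 0<|a (-1)<|a (-1)<|a (-2)<|a (-1)<|a (-1)<|a (-1)<|b)<|
 a (a (-1)<|a (-1)<|a (-1)<|a (-2)<|a (-2)<|a (-1)<|a (-1)<|b)<|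
 a (a 0<|a 0<|a 0<|a 0<|a 1<|a 0<|a 0<|b)<|
 a (a 0<|a 0<|a 1<|a 1<|a 0<|a 0<|a 0<|b)<|
 a (a (-1)<|a 0<|a (-1)<|a (-1)<|a (-1)<|a 0<|a 0<|b)<|
 a (a 1<|a 0<|a 1<|a 1<|a 1<|a 0<|a 0<|b)<|
 a (a 0<|a 0<|a (-1)<|a (-1)<|a 0<|a 0<|a 0<|b)<|
 a (a 0<|a 0<|a 0<|a 0<|a (-1)<|a 0<|a 0<|b)<|
 a (a 1<|a 1<|a 2<|a 3<|a 3<|a 2<|a 1<|b)<|
 a (a 1<|a 1<|a 1<|a 1<|a 1<|a 0<|a 0<|b)<|
 a (a 0<|a 1<|a 1<|a 2<|a 1<|a 1<|a 1<|b)<|
 a (a 1<|a 1<|a 2<|a 2<|a 2<|a 1<|a 0<|b)<|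
 a (a 1<|a 1<|a 1<|a 2<|a 2<|a 1<|a 1<|b)<|
 a (a 1<|a 2<|a 2<|a 3<|a 3<|a 2<|a 1<|b)<|b))

/-- the values of the functional on the representatives -/
def G : Fin 18 → Fin 7 → ℤ := (beta% delta% lq26bdd2f302 fun a b _ _ _ =>
 (a (a 1<|a 0<|a 0<|a 1<|a 0<|a 0<|a 0<|b)<|
 a (a 1<|a 0<|a 0<|a 0<|a 0<|a 0<|a 0<|b)<|
 a (a 1<|a 0<|a (-1)<|a 1<|a 0<|a 0<|a 0<|b)<|
 a (a 1<|a (-1)<|a 0<|a 1<|a 0<|a 0<|a 0<|b)<|
 a (a (-1)<|a 1<|a 1<|a (-1)<|a 0<|a 1<|a 0<|b)<|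
 a (a 1<|a (-1)<|a 1<|a 0<|a 0<|a 0<|a 0<|b)<|
 a (a (-1)<|a 1<|a 0<|a (-1)<|a 1<|a 0<|a 0<|b)<|
 a (a 1<|a (-1)<|a 0<|a 1<|a 0<|a (-1)<|a 0<|b)<|
 a (a 1<|a (-1)<|a 0<|a 0<|a 0<|a 0<|a 0<|b)<|
 a (a (-1)<|a 1<|a 0<|a 0<|a 0<|a 0<|a 0<|b)<|
 a (a (-1)<|a 1<|a 0<|a (-1)<|a 0<|a 1<|a 0<|b)<|
 a (a 1<|a (-1)<|a 0<|a 1<|a (-1)<|a 0<|a 0<|b)<|
 a (a (-1)<|a 0<|a 0<|a 0<|a 0<|a 0<|a 0<|b)<|
 a (a (-1)<|a 1<|a 0<|a (-1)<|a 0<|a 0<|a 0<|b)<|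
 a (a 1<|a (-1)<|a (-1)<|a 1<|a 0<|a (-1)<|a 0<|b)<|
 a (a (-1)<|a 0<|a 1<|a (-1)<|a 0<|a 0<|a 0<|b)<|
 a (a (-1)<|a 1<|a (-1)<|a 0<|a 0<|a 0<|a 0<|b)<|
 a (a (-1)<|a 0<|a 0<|a (-1)<|a 0<|a 0<|a 0<|b)<|b))

/-- predecessor -/
def prv (r : ℕ) : ℕ := Nat.mod (Nat.shiftRight 0x777d7c007a797800706e6d6a68006564635a00575554535150004e3e3c0035301b76757400716f6c6b69665c5b59565261605f005d4c4b4a494746004342403d3b3a0037363433323120001e1d1c2b27242221171412110e0c00090807624d4800413f2f002d2c2a29282600231a1918001513100f0d0005040300010006 (8 * r)) 256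

/-- depth -/
def dep (r : ℕ) : ℕ := Nat.mod (Nat.shiftRight 0x40506000102030001020606050003010504000502040604020004030400030604010203000604050103050203010603050104000502050106060200030102020103000206060105020500040105030601030205030105040600030201040603000403040002040604020500040501030005060602010003020100060504 (8 * r)) 256

theorem hA : ∀ i j, Am i j = cartanOf chevE7 7 i j :=
  H129.RootF.cE7

theorem chainOK : ChainOK Am chain :=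
  H129.ChainF.ok H129.ChainF.i7 H129.ChainF.m7 (H129.ChainF.c7 <| H129.ChainF.c7 <| H129.ChainF.c7 <| H129.ChainF.c7 <| H129.ChainF.c7 <| H129.ChainF.c7 <| H129.ChainF.nil) (by decide +kernel)

theorem cycOK : CycOK 7 Th V B c :=
  H129.RootF.cyc H129.ChainF.i7 H129.RootF.t7 H129.ChainF.m7 H129.RootF.t7 H129.ChainF.m7 H129.RootF.t7 H129.RootF.r7 (by decide +kernel)

theorem rootOK : RootOK chevE7 7 Th R prv dep :=
  H129.RootF.ok H129.RootF.t7 (H129.RootF.mc H129.RootF.r7 <| H129.RootF.mc H129.RootF.r7 <| H129.RootF.mc H129.RootF.r7 <| H129.RootF.mc H129.RootF.r7 <| H129.RootF.mc H129.RootF.r7 <| H129.RootF.mc H129.RootF.r7 <| H129.RootF.mc H129.RootF.r7 <| H129.RootF.mc H129.RootF.r7 <| H129.RootF.mc H129.RootF.r7 <| H129.RootF.mc H129.RootF.r7 <| H129.RootF.mc H129.RootF.r7 <| H129.RootF.mc H129.RootF.r7 <| H129.RootF.mc H129.RootF.r7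 <| H129.RootF.mc H129.RootF.r7 <| H129.RootF.mc H129.RootF.r7 <| H129.RootF.mc H129.RootF.r7 <| H129.RootF.mc H129.RootF.r7 <| H129.RootF.mc H129.RootF.r7 <| H129.RootF.m0) (by decide +kernel)

theorem coefOK : ∀ s i, ∑ j, R s j * B j i = G s i := by decide +kernel

theorem fN_eq (x : ℤ) : fN c x = -1 + x ^ 7 := by
  unfold fN c
  simp [Fin.sum_univ_succ]
  try ring

theorem G_0 (x : ℤ) : Gq B x (R 0) = 1 + x ^ 3 := by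
  rw [Gq_coef B x (R 0) (G 0) (coefOK 0)]
  unfold G
  simp [Fin.sum_univ_succ]
  try ring

theorem bez_0 (x : ℤ) : (1) * (1 + x + x ^ 2 + x ^ 3 + x ^ 4 + x ^ 5 + x ^ 6) + (-x - x ^ 2 - x ^ 3) * (1 + x ^ 3) = 1 := by
  ring

theorem G_1 (x : ℤ) : Gq B x (R 1) = 1 := by
  rw [Gq_coef B x (R 1) (G 1) (coefOK 1)]
  unfold G
  simp [Fin.sum_univ_succ]
  try ring

theorem bez_1 (x : ℤ) : (0) * (1 + x + x ^ 2 + x ^ 3 + x ^ 4 + x ^ 5 + x ^ 6) + (1) * (1) = 1 := by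
  ring

theorem G_2 (x : ℤ) : Gq B x (R 2) = 1 - x ^ 2 + x ^ 3 := by
  rw [Gq_coef B x (R 2) (G 2) (coefOK 2)]
  unfold G
  simp [Fin.sum_univ_succ]
  try ring

theorem bez_2 (x : ℤ) : (1 - 2 * x + x ^ 2) * (1 + x + x ^ 2 + x ^ 3 + x ^ 4 + x ^ 5 + x ^ 6) + (1 + x + x ^ 2 - x ^ 5) * (1 - x ^ 2 + x ^ 3) = 2 := by
  ring

theorem G_3 (x : ℤ) : Gq B x (R 3) = 1 - x + x ^ 3 := by
  rw [Gq_coef B x (R 3) (G 3) (coefOK 3)]
  unfold G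
  simp [Fin.sum_univ_succ]
  try ring

theorem bez_3 (x : ℤ) : (1 - x - x ^ 2) * (1 + x + x ^ 2 + x ^ 3 + x ^ 4 + x ^ 5 + x ^ 6) + (1 + x + 2 * x ^ 2 + 2 * x ^ 3 + 2 * x ^ 4 + x ^ 5) * (1 - x + x ^ 3) = 2 := by
  ring

theorem G_4 (x : ℤ) : Gq B x (R 4) = -1 + x + x ^ 2 - x ^ 3 + x ^ 5 := by
  rw [Gq_coef B x (R 4) (G 4) (coefOK 4)]
  unfold G
  simp [Fin.sum_univ_succ]
  try ring

theorem bez_4 (x : ℤ) : (x ^ 3) * (1 + x + x ^ 2 + x ^ 3 + x ^ 4 + x ^ 5 + x ^ 6) + (-1 - x - 2 * x ^ 2 - x ^ 3 - x ^ 4) * (-1 + x + x ^ 2 - x ^ 3 + x ^ 5) = 1 := by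
  ring

theorem G_5 (x : ℤ) : Gq B x (R 5) = 1 - x + x ^ 2 := by
  rw [Gq_coef B x (R 5) (G 5) (coefOK 5)]
  unfold G
  simp [Fin.sum_univ_succ]
  try ring

theorem bez_5 (x : ℤ) : (1) * (1 + x + x ^ 2 + x ^ 3 + x ^ 4 + x ^ 5 + x ^ 6) + (-x - 2 * x ^ 2 - 2 * x ^ 3 - x ^ 4) * (1 - x + x ^ 2) = 1 := by
  ring

theorem G_6 (x : ℤ) : Gq B x (R 6) = -1 + x - x ^ 3 + x ^ 4 := by
  rw [Gq_coef B x (R 6) (G 6) (coefOK 6)]
  unfold G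
  simp [Fin.sum_univ_succ]
  try ring

theorem bez_6 (x : ℤ) : (4 - 3 * x ^ 3) * (1 + x + x ^ 2 + x ^ 3 + x ^ 4 + x ^ 5 + x ^ 6) + (-3 + x + 5 * x ^ 2 + 9 * x ^ 3 + 6 * x ^ 4 + 3 * x ^ 5) * (-1 + x - x ^ 3 + x ^ 4) = 7 := by
  ring

theorem G_7 (x : ℤ) : Gq B x (R 7) = 1 - x + x ^ 3 - x ^ 5 := by
  rw [Gq_coef B x (R 7) (G 7) (coefOK 7)]
  unfold G
  simp [Fin.sum_univ_succ]
  try ring

theorem bez_7 (x : ℤ) : (5 - 7 * x ^ 2 - 2 * x ^ 3 + 5 * x ^ 4) * (1 + x + x ^ 2 + x ^ 3 + x ^ 4 + x ^ 5 + x ^ 6) + (2 - 3 * x - x ^ 2 + x ^ 3 + 3 * x ^ 4 + 5 * x ^ 5) * (1 - x + x ^ 3 - x ^ 5) = 7 := by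
  ring

theorem G_8 (x : ℤ) : Gq B x (R 8) = 1 - x := by
  rw [Gq_coef B x (R 8) (G 8) (coefOK 8)]
  unfold G
  simp [Fin.sum_univ_succ]
  try ring

theorem bez_8 (x : ℤ) : (1) * (1 + x + x ^ 2 + x ^ 3 + x ^ 4 + x ^ 5 + x ^ 6) + (6 + 5 * x + 4 * x ^ 2 + 3 * x ^ 3 + 2 * x ^ 4 + x ^ 5) * (1 - x) = 7 := by
  ring

theorem G_9 (x : ℤ) : Gq B x (R 9) = -1 + x := by
  rw [Gq_coef B x (R 9) (G 9) (coefOK 9)]
  unfold G
  simp [Fin.sum_univ_succ]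
  try ring

theorem bez_9 (x : ℤ) : (1) * (1 + x + x ^ 2 + x ^ 3 + x ^ 4 + x ^ 5 + x ^ 6) + (-6 - 5 * x - 4 * x ^ 2 - 3 * x ^ 3 - 2 * x ^ 4 - x ^ 5) * (-1 + x) = 7 := by
  ring

theorem G_10 (x : ℤ) : Gq B x (R 10) = -1 + x - x ^ 3 + x ^ 5 := by
  rw [Gq_coef B x (R 10) (G 10) (coefOK 10)]
  unfold G
  simp [Fin.sum_univ_succ]
  try ring

theorem bez_10 (x : ℤ) : (5 - 7 * x ^ 2 - 2 * x ^ 3 + 5 * x ^ 4) * (1 + x + x ^ 2 + x ^ 3 + x ^ 4 + x ^ 5 + x ^ 6) + (-2 + 3 * x + x ^ 2 - x ^ 3 - 3 * x ^ 4 - 5 * x ^ 5) * (-1 + x - x ^ 3 + x ^ 5) = 7 := by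
  ring

theorem G_11 (x : ℤ) : Gq B x (R 11) = 1 - x + x ^ 3 - x ^ 4 := by
  rw [Gq_coef B x (R 11) (G 11) (coefOK 11)]
  unfold G
  simp [Fin.sum_univ_succ]
  try ring

theorem bez_11 (x : ℤ) : (4 - 3 * x ^ 3) * (1 + x + x ^ 2 + x ^ 3 + x ^ 4 + x ^ 5 + x ^ 6) + (3 - x - 5 * x ^ 2 - 9 * x ^ 3 - 6 * x ^ 4 - 3 * x ^ 5) * (1 - x + x ^ 3 - x ^ 4) = 7 := by
  ring

theorem G_12 (x : ℤ) : Gq B x (R 12) = -1 := by
  rw [Gq_coef B x (R 12) (G 12) (coefOK 12)]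
  unfold G
  simp [Fin.sum_univ_succ]
  try ring

theorem bez_12 (x : ℤ) : (0) * (1 + x + x ^ 2 + x ^ 3 + x ^ 4 + x ^ 5 + x ^ 6) + (-1) * (-1) = 1 := by
  ring

theorem G_13 (x : ℤ) : Gq B x (R 13) = -1 + x - x ^ 3 := by
  rw [Gq_coef B x (R 13) (G 13) (coefOK 13)]
  unfold G
  simp [Fin.sum_univ_succ]
  try ring

theorem bez_13 (x : ℤ) : (1 - x - x ^ 2) * (1 + x + x ^ 2 + x ^ 3 + x ^ 4 + x ^ 5 + x ^ 6) + (-1 - x - 2 * x ^ 2 - 2 * x ^ 3 - 2 * x ^ 4 - x ^ 5) * (-1 + x - x ^ 3) = 2 := by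
  ring

theorem G_14 (x : ℤ) : Gq B x (R 14) = 1 - x - x ^ 2 + x ^ 3 - x ^ 5 := by
  rw [Gq_coef B x (R 14) (G 14) (coefOK 14)]
  unfold G
  simp [Fin.sum_univ_succ]
  try ring

theorem bez_14 (x : ℤ) : (x ^ 3) * (1 + x + x ^ 2 + x ^ 3 + x ^ 4 + x ^ 5 + x ^ 6) + (1 + x + 2 * x ^ 2 + x ^ 3 + x ^ 4) * (1 - x - x ^ 2 + x ^ 3 - x ^ 5) = 1 := by
  ring

theorem G_15 (x : ℤ) : Gq B x (R 15) = -1 + x ^ 2 - x ^ 3 := by
  rw [Gq_coef B x (R 15) (G 15) (coefOK 15)]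
  unfold G
  simp [Fin.sum_univ_succ]
  try ring

theorem bez_15 (x : ℤ) : (1 - 2 * x + x ^ 2) * (1 + x + x ^ 2 + x ^ 3 + x ^ 4 + x ^ 5 + x ^ 6) + (-1 - x - x ^ 2 + x ^ 5) * (-1 + x ^ 2 - x ^ 3) = 2 := by
  ring

theorem G_16 (x : ℤ) : Gq B x (R 16) = -1 + x - x ^ 2 := by
  rw [Gq_coef B x (R 16) (G 16) (coefOK 16)]
  unfold G
  simp [Fin.sum_univ_succ]
  try ring

theorem bez_16 (x : ℤ) : (1) * (1 + x + x ^ 2 + x ^ 3 + x ^ 4 + x ^ 5 + x ^ 6) + (x + 2 * x ^ 2 + 2 * x ^ 3 + x ^ 4) * (-1 + x - x ^ 2) = 1 := by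
  ring

theorem G_17 (x : ℤ) : Gq B x (R 17) = -1 - x ^ 3 := by
  rw [Gq_coef B x (R 17) (G 17) (coefOK 17)]
  unfold G
  simp [Fin.sum_univ_succ]
  try ring

theorem bez_17 (x : ℤ) : (1) * (1 + x + x ^ 2 + x ^ 3 + x ^ 4 + x ^ 5 + x ^ 6) + (x + x ^ 2 + x ^ 3) * (-1 - x ^ 3) = 1 := by
  ring

/-- Common divisors of `Φ(x)` and the value of `Gq` on a representative. -/
theorem dvd_of_G {x r : ℤ} (h : r ∣ 1 + x + x ^ 2 + x ^ 3 + x ^ 4 + x ^ 5 + x ^ 6) (s : Fin 18) (hs : r ∣ Gq B x (R s)) :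
    r ∣ 14 := by
  have key : ∀ {a b g y : ℤ}, a * (1 + x + x ^ 2 + x ^ 3 + x ^ 4 + x ^ 5 + x ^ 6) + b * g = y → y ∣ 14 → r ∣ g → r ∣ 14 := fun e hy hg => by
    refine dvd_trans ?_ hy
    rw [← e]
    exact dvd_add (h.mul_left _) (hg.mul_left _)
  fin_cases s
  · exact key (bez_0 x) (by norm_num) (by rw [← G_0]; exact hs)
  · exact key (bez_1 x) (by norm_num) (by rw [← G_1]; exact hs)
  · exact key (bez_2 x) (by norm_num) (by rw [← G_2]; exact hs)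
  · exact key (bez_3 x) (by norm_num) (by rw [← G_3]; exact hs)
  · exact key (bez_4 x) (by norm_num) (by rw [← G_4]; exact hs)
  · exact key (bez_5 x) (by norm_num) (by rw [← G_5]; exact hs)
  · exact key (bez_6 x) (by norm_num) (by rw [← G_6]; exact hs)
  · exact key (bez_7 x) (by norm_num) (by rw [← G_7]; exact hs)
  · exact key (bez_8 x) (by norm_num) (by rw [← G_8]; exact hs)
  · exact key (bez_9 x) (by norm_num) (by rw [← G_9]; exact hs)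
  · exact key (bez_10 x) (by norm_num) (by rw [← G_10]; exact hs)
  · exact key (bez_11 x) (by norm_num) (by rw [← G_11]; exact hs)
  · exact key (bez_12 x) (by norm_num) (by rw [← G_12]; exact hs)
  · exact key (bez_13 x) (by norm_num) (by rw [← G_13]; exact hs)
  · exact key (bez_14 x) (by norm_num) (by rw [← G_14]; exact hs)
  · exact key (bez_15 x) (by norm_num) (by rw [← G_15]; exact hs)
  · exact key (bez_16 x) (by norm_num) (by rw [← G_16]; exact hs)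
  · exact key (bez_17 x) (by norm_num) (by rw [← G_17]; exact hs)

end Cfsg.Agent.H719.TE7_7
end

-- part: H719/TE7_14
section
/-!
# Data of a torus of type E7 (helper719): f(x) = 1 + x ^ 7, Phi(x) = 1 - x + x ^ 2 - x ^ 3 + x ^ 4 - x ^ 5 + x ^ 6

Generated by a script; the word of `w` is 6 0 2 3 1 4 5 3 1.
-/

set_option autoImplicit false
set_option maxRecDepth 4000

namespace Cfsg.Agent.H719.TE7_14

open Cfsg.Agent.H129.TorusTw Cfsg.Agent.H129.WData Cfsg.Agent.ChevalleyStructure.CoxeterGeomTypes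
open Cfsg.Lie Cfsg.Lie.ChevalleyDatum

/-- the Cartan matrix -/
def Am : Mat 7 := (beta% delta% lq26bdd2f302 fun a b _ _ _ =>
 (a (a 2<|a 0<|a (-1)<|a 0<|a 0<|a 0<|a 0<|b)<|
 a (a 0<|a 2<|a 0<|a (-1)<|a 0<|a 0<|a 0<|b)<|
 a (a (-1)<|a 0<|a 2<|a (-1)<|a 0<|a 0<|a 0<|b)<|
 a (a 0<|a (-1)<|a (-1)<|a 2<|a (-1)<|a 0<|a 0<|b)<|
 a (a 0<|a 0<|a 0<|a (-1)<|a 2<|a (-1)<|a 0<|b)<|
 a (a 0<|a 0<|a 0<|a 0<|a (-1)<|a 2<|a (-1)<|b)<|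
 a (a 0<|a 0<|a 0<|a 0<|a 0<|a (-1)<|a 2<|b)<|b))

/-- the partial products -/
def chain : List (Fin 7 × Mat 7) := (beta% delta% lq26bdd2f302 fun a b c d e =>
 (c (d 6 (a (a 0<|a 0<|a 1<|a 0<|a 0<|a 0<|a 0<|b)<|
 a (a 0<|a 0<|a 0<|a 0<|a (-1)<|a 0<|a 0<|b)<|
 a (a 1<|a 1<|a 1<|a 2<|a 1<|a 0<|a 0<|b)<|
 a (a (-1)<|a (-1)<|a (-1)<|a (-1)<|a 0<|a 0<|a 0<|b)<|
 a (a 1<|a 1<|a 1<|a 1<|a 1<|a 1<|a 1<|b)<|
 a (a (-1)<|a 0<|a (-1)<|a (-1)<|a (-1)<|a (-1)<|a (-1)<|b)<|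
 a (a 1<|a 0<|a 1<|a 1<|a 1<|a 1<|a 0<|b)<|b))<|
 c (d 0 (a (a 0<|a 0<|a 1<|a 0<|a 0<|a 0<|a 0<|b)<|
 a (a 0<|a 0<|a 0<|a 0<|a (-1)<|a 0<|a 0<|b)<|
 a (a 1<|a 1<|a 1<|a 2<|a 1<|a 0<|a 0<|b)<|
 a (a (-1)<|a (-1)<|a (-1)<|a (-1)<|a 0<|a 0<|a 0<|b)<|
 a (a 1<|a 1<|a 1<|a 1<|a 1<|a 1<|a 0<|b)<|
 a (a (-1)<|a 0<|a (-1)<|a (-1)<|a (-1)<|a (-1)<|a 0<|b)<|
 a (a 1<|a 0<|a 1<|a 1<|a 1<|a 1<|a 1<|b)<|b))<|
 c (d 2 (a (a 1<|a 0<|a 1<|a 0<|a 0<|a 0<|a 0<|b)<|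
 a (a 0<|a 0<|a 0<|a 0<|a (-1)<|a 0<|a 0<|b)<|
 a (a 0<|a 1<|a 1<|a 2<|a 1<|a 0<|a 0<|b)<|
 a (a 0<|a (-1)<|a (-1)<|a (-1)<|a 0<|a 0<|a 0<|b)<|
 a (a 0<|a 1<|a 1<|a 1<|a 1<|a 1<|a 0<|b)<|
 a (a 0<|a 0<|a (-1)<|a (-1)<|a (-1)<|a (-1)<|a 0<|b)<|
 a (a 0<|a 0<|a 1<|a 1<|a 1<|a 1<|a 1<|b)<|b))<|
 c (d 3 (a (a 1<|a 0<|a 0<|a 0<|a 0<|a 0<|a 0<|b)<|
 a (a 0<|a 0<|a 0<|a 0<|a (-1)<|a 0<|a 0<|b)<|
 a (a 0<|a 1<|a 1<|a 2<|a 1<|a 0<|a 0<|b)<|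
 a (a 0<|a (-1)<|a 0<|a (-1)<|a 0<|a 0<|a 0<|b)<|
 a (a 0<|a 1<|a 0<|a 1<|a 1<|a 1<|a 0<|b)<|
 a (a 0<|a 0<|a 0<|a (-1)<|a (-1)<|a (-1)<|a 0<|b)<|
 a (a 0<|a 0<|a 0<|a 1<|a 1<|a 1<|a 1<|b)<|b))<|
 c (d 1 (a (a 1<|a 0<|a 0<|a 0<|a 0<|a 0<|a 0<|b)<|
 a (a 0<|a 0<|a 0<|a (-1)<|a (-1)<|a 0<|a 0<|b)<|
 a (a 0<|a 1<|a 1<|a 1<|a 1<|a 0<|a 0<|b)<|
 a (a 0<|a (-1)<|a 0<|a 0<|a 0<|a 0<|a 0<|b)<|
 a (a 0<|a 1<|a 0<|a 1<|a 1<|a 1<|a 0<|b)<|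
 a (a 0<|a 0<|a 0<|a 0<|a (-1)<|a (-1)<|a 0<|b)<|
 a (a 0<|a 0<|a 0<|a 0<|a 1<|a 1<|a 1<|b)<|b))<|
 c (d 4 (a (a 1<|a 0<|a 0<|a 0<|a 0<|a 0<|a 0<|b)<|
 a (a 0<|a (-1)<|a 0<|a (-1)<|a (-1)<|a 0<|a 0<|b)<|
 a (a 0<|a 0<|a 1<|a 1<|a 1<|a 0<|a 0<|b)<|
 a (a 0<|a 1<|a 0<|a 0<|a 0<|a 0<|a 0<|b)<|
 a (a 0<|a 0<|a 0<|a 1<|a 1<|a 1<|a 0<|b)<|
 a (a 0<|a 0<|a 0<|a 0<|a (-1)<|a (-1)<|a 0<|b)<|
 a (a 0<|a 0<|a 0<|a 0<|a 1<|a 1<|a 1<|b)<|b))<|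
 c (d 5 (a (a 1<|a 0<|a 0<|a 0<|a 0<|a 0<|a 0<|b)<|
 a (a 0<|a (-1)<|a 0<|a (-1)<|a 0<|a 0<|a 0<|b)<|
 a (a 0<|a 0<|a 1<|a 1<|a 0<|a 0<|a 0<|b)<|
 a (a 0<|a 1<|a 0<|a 0<|a 0<|a 0<|a 0<|b)<|
 a (a 0<|a 0<|a 0<|a 1<|a 1<|a 1<|a 0<|b)<|
 a (a 0<|a 0<|a 0<|a 0<|a 0<|a (-1)<|a 0<|b)<|
 a (a 0<|a 0<|a 0<|a 0<|a 0<|a 1<|a 1<|b)<|b))<|
 c (d 3 (a (a 1<|a 0<|a 0<|a 0<|a 0<|a 0<|a 0<|b)<|
 a (a 0<|a (-1)<|a 0<|a (-1)<|a 0<|a 0<|a 0<|b)<|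
 a (a 0<|a 0<|a 1<|a 1<|a 0<|a 0<|a 0<|b)<|
 a (a 0<|a 1<|a 0<|a 0<|a 0<|a 0<|a 0<|b)<|
 a (a 0<|a 0<|a 0<|a 1<|a 1<|a 0<|a 0<|b)<|
 a (a 0<|a 0<|a 0<|a 0<|a 0<|a 1<|a 0<|b)<|
 a (a 0<|a 0<|a 0<|a 0<|a 0<|a 0<|a 1<|b)<|b))<|
 c (d 1 (a (a 1<|a 0<|a 0<|a 0<|a 0<|a 0<|a 0<|b)<|
 a (a 0<|a (-1)<|a 0<|a 0<|a 0<|a 0<|a 0<|b)<|
 a (a 0<|a 0<|a 1<|a 0<|a 0<|a 0<|a 0<|b)<|
 a (a 0<|a 1<|a 0<|a 1<|a 0<|a 0<|a 0<|b)<|
 a (a 0<|a 0<|a 0<|a 0<|a 1<|a 0<|a 0<|b)<|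
 a (a 0<|a 0<|a 0<|a 0<|a 0<|a 1<|a 0<|b)<|
 a (a 0<|a 0<|a 0<|a 0<|a 0<|a 0<|a 1<|b)<|b))<|e))

/-- the matrix of `θ` -/
def Th : Mat 7 := (beta% delta% lq26bdd2f302 fun a b _ _ _ =>
 (a (a 0<|a 0<|a 1<|a 0<|a 0<|a 0<|a 0<|b)<|
 a (a 0<|a 0<|a 0<|a 0<|a (-1)<|a 0<|a 0<|b)<|
 a (a 1<|a 1<|a 1<|a 2<|a 1<|a 0<|a 0<|b)<|
 a (a (-1)<|a (-1)<|a (-1)<|a (-1)<|a 0<|a 0<|a 0<|b)<|
 a (a 1<|a 1<|a 1<|a 1<|a 1<|a 1<|a 1<|b)<|
 a (a (-1)<|a 0<|a (-1)<|a (-1)<|a (-1)<|a (-1)<|a (-1)<|b)<|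
 a (a 1<|a 0<|a 1<|a 1<|a 1<|a 1<|a 0<|b)<|b))

/-- the basis -/
def V : Mat 7 := (beta% delta% lq26bdd2f302 fun a b _ _ _ =>
 (a (a (-2)<|a (-2)<|a (-3)<|a (-4)<|a (-3)<|a (-2)<|a (-1)<|b)<|
 a (a (-1)<|a (-2)<|a (-3)<|a (-4)<|a (-3)<|a (-2)<|a (-1)<|b)<|
 a (a (-1)<|a (-2)<|a (-2)<|a (-4)<|a (-3)<|a (-2)<|a (-1)<|b)<|
 a (a 0<|a (-1)<|a (-1)<|a (-2)<|a (-2)<|a (-2)<|a (-1)<|b)<|
 a (a 0<|a (-1)<|a 0<|a (-1)<|a (-1)<|a (-1)<|a 0<|b)<|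
 a (a 1<|a 0<|a 1<|a 1<|a 1<|a 0<|a 0<|b)<|
 a (a 1<|a 1<|a 2<|a 2<|a 2<|a 1<|a 1<|b)<|b))

/-- the coordinates -/
def B : Mat 7 := (beta% delta% lq26bdd2f302 fun a b _ _ _ =>
 (a (a (-1)<|a 1<|a 0<|a 0<|a 0<|a 0<|a 0<|b)<|
 a (a 0<|a 0<|a 0<|a 1<|a (-1)<|a (-1)<|a 1<|b)<|
 a (a 0<|a (-1)<|a 1<|a 0<|a 0<|a 0<|a 0<|b)<|
 a (a 0<|a 0<|a (-1)<|a 0<|a 1<|a 0<|a (-1)<|b)<|
 a (a 1<|a 0<|a 0<|a 0<|a (-1)<|a 1<|a 1<|b)<|
 a (a (-1)<|a 0<|a 1<|a (-1)<|a 0<|a 0<|a (-1)<|b)<|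
 a (a 0<|a 1<|a (-1)<|a 0<|a 1<|a (-1)<|a 1<|b)<|b))

/-- the polynomial -/
def c : Fin 7 → ℤ := ![1, 0, 0, 0, 0, 0, 0]

/-- the representatives of the orbits of `θ` on the roots -/
def R : Fin 9 → Fin 7 → ℤ := (beta% delta% lq26bdd2f302 fun a b _ _ _ =>
 (a (a (-2)<|a (-2)<|a (-3)<|a (-4)<|a (-3)<|a (-2)<|a (-1)<|b)<|
 a (a 1<|a 0<|a 1<|a 0<|a 0<|a 0<|a 0<|b)<|
 a (a 1<|a 0<|a 1<|a 1<|a 1<|a 1<|a 1<|b)<|
 a (a 1<|a 1<|a 2<|a 2<|a 2<|a 2<|a 1<|b)<|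
 a (a (-1)<|a (-1)<|a (-1)<|a (-2)<|a (-2)<|a (-2)<|a (-1)<|b)<|
 a (a 0<|a (-1)<|a (-1)<|a (-2)<|a (-1)<|a 0<|a 0<|b)<|
 a (a 1<|a 0<|a 0<|a 0<|a 0<|a 0<|a 0<|b)<|
 a (a (-1)<|a (-1)<|a (-1)<|a (-2)<|a (-1)<|a (-1)<|a (-1)<|b)<|
 a (a (-1)<|a (-1)<|a (-1)<|a (-1)<|a (-1)<|a (-1)<|a 0<|b)<|b))

/-- the values of the functional on the representatives -/
def G : Fin 9 → Fin 7 → ℤ := (beta% delta% lq26bdd2f302 fun a b _ _ _ =>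
 (a (a 1<|a 0<|a 0<|a 0<|a 0<|a 0<|a 0<|b)<|
 a (a (-1)<|a 0<|a 1<|a 0<|a 0<|a 0<|a 0<|b)<|
 a (a (-1)<|a 1<|a 0<|a (-1)<|a 1<|a 0<|a 0<|b)<|
 a (a (-1)<|a 0<|a 1<|a (-1)<|a 0<|a 0<|a 0<|b)<|
 a (a 1<|a (-1)<|a 0<|a 1<|a 0<|a 0<|a 0<|b)<|
 a (a (-1)<|a 1<|a 1<|a (-1)<|a 0<|a 0<|a 0<|b)<|
 a (a (-1)<|a 1<|a 0<|a 0<|a 0<|a 0<|a 0<|b)<|
 a (a 1<|a (-1)<|a 1<|a 0<|a (-1)<|a 1<|a 0<|b)<|
 a (a 1<|a 0<|a (-1)<|a 0<|a 1<|a 0<|a 0<|b)<|b))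

/-- predecessor -/
def prv (r : ℕ) : ℕ := Nat.mod (Nat.shiftRight 0x717d7c767a707274786d6f00606264665e5b4b4d54564942442e38003f2c3600007b737577796e6a6c61655a5c4c554367695f635d57594a5346482f50523c412b2d4e35372a332426201a1e14163a28312123181c1113000406080a02685847513e40454f003b3427003032001f17191b1d120e1005090b0d0307010000 (8 * r)) 256

/-- depth -/
def dep (r : ℕ) : ℕ := Nat.mod (Nat.shiftRight 0x708090405020103030205000601040601070d04070602050703030005050b00000a060402060705080608050b09090a03080c0401080305090609040a06040b0d030b020d020c0a01080b05010a030202040c010d010c000d090b0d030707040c0c070a0a000c090d000b0600080d0b080d070c090a0a08090c0b020100 (8 * r)) 256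

theorem hA : ∀ i j, Am i j = cartanOf chevE7 7 i j :=
  H129.RootF.cE7

theorem chainOK : ChainOK Am chain :=
  H129.ChainF.ok H129.ChainF.i7 H129.ChainF.m7 (H129.ChainF.c7 <| H129.ChainF.c7 <| H129.ChainF.c7 <| H129.ChainF.c7 <| H129.ChainF.c7 <| H129.ChainF.c7 <| H129.ChainF.c7 <| H129.ChainF.c7 <| H129.ChainF.c7 <| H129.ChainF.nil) (by decide +kernel)

theorem cycOK : CycOK 7 Th V B c :=
  H129.RootF.cyc H129.ChainF.i7 H129.RootF.t7 H129.ChainF.m7 H129.RootF.t7 H129.ChainF.m7 H129.RootF.t7 H129.RootF.r7 (by decide +kernel)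

theorem rootOK : RootOK chevE7 7 Th R prv dep :=
  H129.RootF.ok H129.RootF.t7 (H129.RootF.mc H129.RootF.r7 <| H129.RootF.mc H129.RootF.r7 <| H129.RootF.mc H129.RootF.r7 <| H129.RootF.mc H129.RootF.r7 <| H129.RootF.mc H129.RootF.r7 <| H129.RootF.mc H129.RootF.r7 <| H129.RootF.mc H129.RootF.r7 <| H129.RootF.mc H129.RootF.r7 <| H129.RootF.mc H129.RootF.r7 <| H129.RootF.m0) (by decide +kernel)

theorem coefOK : ∀ s i, ∑ j, R s j * B j i = G s i := by (open scoped Cfsg.Agent.ChevFast.Lin in decide +kernel)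

theorem fN_eq (x : ℤ) : fN c x = 1 + x ^ 7 := by
  unfold fN c
  simp [Fin.sum_univ_succ]
  try ring

theorem G_0 (x : ℤ) : Gq B x (R 0) = 1 := by
  rw [Gq_coef B x (R 0) (G 0) (coefOK 0)]
  unfold G
  simp [Fin.sum_univ_succ]
  try ring

theorem bez_0 (x : ℤ) : (0) * (1 - x + x ^ 2 - x ^ 3 + x ^ 4 - x ^ 5 + x ^ 6) + (1) * (1) = 1 := by
  ring

theorem G_1 (x : ℤ) : Gq B x (R 1) = -1 + x ^ 2 := by
  rw [Gq_coef B x (R 1) (G 1) (coefOK 1)]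
  unfold G
  simp [Fin.sum_univ_succ]
  try ring

theorem bez_1 (x : ℤ) : (4 + 3 * x) * (1 - x + x ^ 2 - x ^ 3 + x ^ 4 - x ^ 5 + x ^ 6) + (-3 - x - 2 * x ^ 2 - 2 * x ^ 3 - x ^ 4 - 3 * x ^ 5) * (-1 + x ^ 2) = 7 := by
  ring

theorem G_2 (x : ℤ) : Gq B x (R 2) = -1 + x - x ^ 3 + x ^ 4 := by
  rw [Gq_coef B x (R 2) (G 2) (coefOK 2)]
  unfold G
  simp [Fin.sum_univ_succ]
  try ring

theorem bez_2 (x : ℤ) : (6 + 2 * x - 2 * x ^ 2 + x ^ 3) * (1 - x + x ^ 2 - x ^ 3 + x ^ 4 - x ^ 5 + x ^ 6) + (-1 - 5 * x - 3 * x ^ 2 - 3 * x ^ 3 + 2 * x ^ 4 - x ^ 5) * (-1 + x - x ^ 3 + x ^ 4) = 7 := by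
  ring

theorem G_3 (x : ℤ) : Gq B x (R 3) = -1 + x ^ 2 - x ^ 3 := by
  rw [Gq_coef B x (R 3) (G 3) (coefOK 3)]
  unfold G
  simp [Fin.sum_univ_succ]
  try ring

theorem bez_3 (x : ℤ) : (x ^ 2) * (1 - x + x ^ 2 - x ^ 3 + x ^ 4 - x ^ 5 + x ^ 6) + (-2 - x ^ 2 + x ^ 3 + x ^ 5) * (-1 + x ^ 2 - x ^ 3) = 2 := by
  ring

theorem G_4 (x : ℤ) : Gq B x (R 4) = 1 - x + x ^ 3 := by
  rw [Gq_coef B x (R 4) (G 4) (coefOK 4)]
  unfold G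
  simp [Fin.sum_univ_succ]
  try ring

theorem bez_4 (x : ℤ) : (1 + 2 * x + x ^ 2) * (1 - x + x ^ 2 - x ^ 3 + x ^ 4 - x ^ 5 + x ^ 6) + (1 - x ^ 3 - x ^ 4 - x ^ 5) * (1 - x + x ^ 3) = 2 := by
  ring

theorem G_5 (x : ℤ) : Gq B x (R 5) = -1 + x + x ^ 2 - x ^ 3 := by
  rw [Gq_coef B x (R 5) (G 5) (coefOK 5)]
  unfold G
  simp [Fin.sum_univ_succ]
  try ring

theorem bez_5 (x : ℤ) : (16 + 3 * x - 12 * x ^ 2) * (1 - x + x ^ 2 - x ^ 3 + x ^ 4 - x ^ 5 + x ^ 6) + (9 - 4 * x + 6 * x ^ 2 - 8 * x ^ 3 + 3 * x ^ 4 - 12 * x ^ 5) * (-1 + x + x ^ 2 - x ^ 3) = 7 := by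
  ring

theorem G_6 (x : ℤ) : Gq B x (R 6) = -1 + x := by
  rw [Gq_coef B x (R 6) (G 6) (coefOK 6)]
  unfold G
  simp [Fin.sum_univ_succ]
  try ring

theorem bez_6 (x : ℤ) : (1) * (1 - x + x ^ 2 - x ^ 3 + x ^ 4 - x ^ 5 + x ^ 6) + (-x - x ^ 3 - x ^ 5) * (-1 + x) = 1 := by
  ring

theorem G_7 (x : ℤ) : Gq B x (R 7) = 1 - x + x ^ 2 - x ^ 4 + x ^ 5 := by
  rw [Gq_coef B x (R 7) (G 7) (coefOK 7)]
  unfold G
  simp [Fin.sum_univ_succ]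
  try ring

theorem bez_7 (x : ℤ) : (-1 + 2 * x - x ^ 2 - x ^ 3 + 2 * x ^ 4) * (1 - x + x ^ 2 - x ^ 3 + x ^ 4 - x ^ 5 + x ^ 6) + (2 - x + x ^ 2 - x ^ 3 + x ^ 4 - 2 * x ^ 5) * (1 - x + x ^ 2 - x ^ 4 + x ^ 5) = 1 := by
  ring

theorem G_8 (x : ℤ) : Gq B x (R 8) = 1 - x ^ 2 + x ^ 4 := by
  rw [Gq_coef B x (R 8) (G 8) (coefOK 8)]
  unfold G
  simp [Fin.sum_univ_succ]
  try ring

theorem bez_8 (x : ℤ) : (-1 + 2 * x ^ 2 + 2 * x ^ 3) * (1 - x + x ^ 2 - x ^ 3 + x ^ 4 - x ^ 5 + x ^ 6) + (2 - x + x ^ 2 - 2 * x ^ 3 - 2 * x ^ 5) * (1 - x ^ 2 + x ^ 4) = 1 := by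
  ring

/-- Common divisors of `Φ(x)` and the value of `Gq` on a representative. -/
theorem dvd_of_G {x r : ℤ} (h : r ∣ 1 - x + x ^ 2 - x ^ 3 + x ^ 4 - x ^ 5 + x ^ 6) (s : Fin 9) (hs : r ∣ Gq B x (R s)) :
    r ∣ 14 := by
  have key : ∀ {a b g y : ℤ}, a * (1 - x + x ^ 2 - x ^ 3 + x ^ 4 - x ^ 5 + x ^ 6) + b * g = y → y ∣ 14 → r ∣ g → r ∣ 14 := fun e hy hg => by
    refine dvd_trans ?_ hy
    rw [← e]
    exact dvd_add (h.mul_left _) (hg.mul_left _)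
  fin_cases s
  · exact key (bez_0 x) (by norm_num) (by rw [← G_0]; exact hs)
  · exact key (bez_1 x) (by norm_num) (by rw [← G_1]; exact hs)
  · exact key (bez_2 x) (by norm_num) (by rw [← G_2]; exact hs)
  · exact key (bez_3 x) (by norm_num) (by rw [← G_3]; exact hs)
  · exact key (bez_4 x) (by norm_num) (by rw [← G_4]; exact hs)
  · exact key (bez_5 x) (by norm_num) (by rw [← G_5]; exact hs)
  · exact key (bez_6 x) (by norm_num) (by rw [← G_6]; exact hs)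
  · exact key (bez_7 x) (by norm_num) (by rw [← G_7]; exact hs)
  · exact key (bez_8 x) (by norm_num) (by rw [← G_8]; exact hs)

end Cfsg.Agent.H719.TE7_14
end

-- part: H719/TE8_24
section
/-!
# Data of a torus of type E8 (helper719): f(x) = 1 - x ^ 4 + x ^ 8, Phi(x) = 1 - x ^ 4 + x ^ 8

Generated by a script; the word of `w` is 7 4 1 3 1 5 2 6 3 0.
-/

set_option autoImplicit false
set_option maxRecDepth 4000

namespace Cfsg.Agent.H719.TE8_24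

open Cfsg.Agent.H129.TorusTw Cfsg.Agent.H129.WData Cfsg.Agent.ChevalleyStructure.CoxeterGeomTypes
open Cfsg.Lie Cfsg.Lie.ChevalleyDatum

/-- the Cartan matrix -/
def Am : Mat 8 := (beta% delta% lq26bdd2f302 fun a b _ _ _ =>
 (a (a 2<|a 0<|a (-1)<|a 0<|a 0<|a 0<|a 0<|a 0<|b)<|
 a (a 0<|a 2<|a 0<|a (-1)<|a 0<|a 0<|a 0<|a 0<|b)<|
 a (a (-1)<|a 0<|a 2<|a (-1)<|a 0<|a 0<|a 0<|a 0<|b)<|
 a (a 0<|a (-1)<|a (-1)<|a 2<|a (-1)<|a 0<|a 0<|a 0<|b)<|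
 a (a 0<|a 0<|a 0<|a (-1)<|a 2<|a (-1)<|a 0<|a 0<|b)<|
 a (a 0<|a 0<|a 0<|a 0<|a (-1)<|a 2<|a (-1)<|a 0<|b)<|
 a (a 0<|a 0<|a 0<|a 0<|a 0<|a (-1)<|a 2<|a (-1)<|b)<|
 a (a 0<|a 0<|a 0<|a 0<|a 0<|a 0<|a (-1)<|a 2<|b)<|b))

/-- the partial products -/
def chain : List (Fin 8 × Mat 8) := (beta% delta% lq26bdd2f302 fun a b c d e =>
 (c (d 7 (a (a (-1)<|a (-1)<|a (-1)<|a (-1)<|a (-1)<|a 0<|a 0<|a 0<|b)<|
 a (a 0<|a 0<|a 1<|a 0<|a 0<|a 0<|a 0<|a 0<|b)<|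
 a (a 1<|a 0<|a 1<|a 1<|a 1<|a 0<|a 0<|a 0<|b)<|
 a (a 0<|a 0<|a (-1)<|a (-1)<|a (-1)<|a 0<|a 0<|a 0<|b)<|
 a (a 0<|a 1<|a 1<|a 2<|a 2<|a 1<|a 0<|a 0<|b)<|
 a (a 0<|a 0<|a 0<|a 0<|a 0<|a 0<|a 1<|a 1<|b)<|
 a (a 0<|a 0<|a 0<|a 0<|a (-1)<|a (-1)<|a (-1)<|a (-1)<|b)<|
 a (a 0<|a 0<|a 0<|a 0<|a 1<|a 1<|a 1<|a 0<|b)<|b))<|
 c (d 4 (a (a (-1)<|a (-1)<|a (-1)<|a (-1)<|a (-1)<|a 0<|a 0<|a 0<|b)<|
 a (a 0<|a 0<|a 1<|a 0<|a 0<|a 0<|a 0<|a 0<|b)<|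
 a (a 1<|a 0<|a 1<|a 1<|a 1<|a 0<|a 0<|a 0<|b)<|
 a (a 0<|a 0<|a (-1)<|a (-1)<|a (-1)<|a 0<|a 0<|a 0<|b)<|
 a (a 0<|a 1<|a 1<|a 2<|a 2<|a 1<|a 0<|a 0<|b)<|
 a (a 0<|a 0<|a 0<|a 0<|a 0<|a 0<|a 1<|a 0<|b)<|
 a (a 0<|a 0<|a 0<|a 0<|a (-1)<|a (-1)<|a (-1)<|a 0<|b)<|
 a (a 0<|a 0<|a 0<|a 0<|a 1<|a 1<|a 1<|a 1<|b)<|b))<|
 c (d 1 (a (a (-1)<|a (-1)<|a (-1)<|a (-1)<|a 0<|a 0<|a 0<|a 0<|b)<|
 a (a 0<|a 0<|a 1<|a 0<|a 0<|a 0<|a 0<|a 0<|b)<|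
 a (a 1<|a 0<|a 1<|a 1<|a 0<|a 0<|a 0<|a 0<|b)<|
 a (a 0<|a 0<|a (-1)<|a (-1)<|a 0<|a 0<|a 0<|a 0<|b)<|
 a (a 0<|a 1<|a 1<|a 2<|a 1<|a 1<|a 0<|a 0<|b)<|
 a (a 0<|a 0<|a 0<|a 0<|a 0<|a 0<|a 1<|a 0<|b)<|
 a (a 0<|a 0<|a 0<|a 0<|a 0<|a (-1)<|a (-1)<|a 0<|b)<|
 a (a 0<|a 0<|a 0<|a 0<|a 0<|a 1<|a 1<|a 1<|b)<|b))<|
 c (d 3 (a (a (-1)<|a 0<|a (-1)<|a (-1)<|a 0<|a 0<|a 0<|a 0<|b)<|
 a (a 0<|a 0<|a 1<|a 0<|a 0<|a 0<|a 0<|a 0<|b)<|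
 a (a 1<|a 1<|a 1<|a 1<|a 0<|a 0<|a 0<|a 0<|b)<|
 a (a 0<|a (-1)<|a (-1)<|a (-1)<|a 0<|a 0<|a 0<|a 0<|b)<|
 a (a 0<|a 1<|a 1<|a 2<|a 1<|a 1<|a 0<|a 0<|b)<|
 a (a 0<|a 0<|a 0<|a 0<|a 0<|a 0<|a 1<|a 0<|b)<|
 a (a 0<|a 0<|a 0<|a 0<|a 0<|a (-1)<|a (-1)<|a 0<|b)<|
 a (a 0<|a 0<|a 0<|a 0<|a 0<|a 1<|a 1<|a 1<|b)<|b))<|
 c (d 1 (a (a (-1)<|a 0<|a (-1)<|a 0<|a 0<|a 0<|a 0<|a 0<|b)<|
 a (a 0<|a 0<|a 1<|a 1<|a 0<|a 0<|a 0<|a 0<|b)<|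
 a (a 1<|a 1<|a 1<|a 1<|a 0<|a 0<|a 0<|a 0<|b)<|
 a (a 0<|a (-1)<|a (-1)<|a (-1)<|a 0<|a 0<|a 0<|a 0<|b)<|
 a (a 0<|a 1<|a 1<|a 1<|a 1<|a 1<|a 0<|a 0<|b)<|
 a (a 0<|a 0<|a 0<|a 0<|a 0<|a 0<|a 1<|a 0<|b)<|
 a (a 0<|a 0<|a 0<|a 0<|a 0<|a (-1)<|a (-1)<|a 0<|b)<|
 a (a 0<|a 0<|a 0<|a 0<|a 0<|a 1<|a 1<|a 1<|b)<|b))<|
 c (d 5 (a (a (-1)<|a 0<|a (-1)<|a 0<|a 0<|a 0<|a 0<|a 0<|b)<|
 a (a 0<|a 1<|a 1<|a 1<|a 0<|a 0<|a 0<|a 0<|b)<|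
 a (a 1<|a 0<|a 1<|a 1<|a 0<|a 0<|a 0<|a 0<|b)<|
 a (a 0<|a 0<|a (-1)<|a (-1)<|a 0<|a 0<|a 0<|a 0<|b)<|
 a (a 0<|a 0<|a 1<|a 1<|a 1<|a 1<|a 0<|a 0<|b)<|
 a (a 0<|a 0<|a 0<|a 0<|a 0<|a 0<|a 1<|a 0<|b)<|
 a (a 0<|a 0<|a 0<|a 0<|a 0<|a (-1)<|a (-1)<|a 0<|b)<|
 a (a 0<|a 0<|a 0<|a 0<|a 0<|a 1<|a 1<|a 1<|b)<|b))<|
 c (d 2 (a (a (-1)<|a 0<|a (-1)<|a 0<|a 0<|a 0<|a 0<|a 0<|b)<|
 a (a 0<|a 1<|a 1<|a 1<|a 0<|a 0<|a 0<|a 0<|b)<|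
 a (a 1<|a 0<|a 1<|a 1<|a 0<|a 0<|a 0<|a 0<|b)<|
 a (a 0<|a 0<|a (-1)<|a (-1)<|a 0<|a 0<|a 0<|a 0<|b)<|
 a (a 0<|a 0<|a 1<|a 1<|a 1<|a 0<|a 0<|a 0<|b)<|
 a (a 0<|a 0<|a 0<|a 0<|a 0<|a 1<|a 1<|a 0<|b)<|
 a (a 0<|a 0<|a 0<|a 0<|a 0<|a 0<|a (-1)<|a 0<|b)<|
 a (a 0<|a 0<|a 0<|a 0<|a 0<|a 0<|a 1<|a 1<|b)<|b))<|
 c (d 6 (a (a (-1)<|a 0<|a 0<|a 0<|a 0<|a 0<|a 0<|a 0<|b)<|
 a (a 0<|a 1<|a 0<|a 1<|a 0<|a 0<|a 0<|a 0<|b)<|
 a (a 1<|a 0<|a 1<|a 1<|a 0<|a 0<|a 0<|a 0<|b)<|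
 a (a 0<|a 0<|a 0<|a (-1)<|a 0<|a 0<|a 0<|a 0<|b)<|
 a (a 0<|a 0<|a 0<|a 1<|a 1<|a 0<|a 0<|a 0<|b)<|
 a (a 0<|a 0<|a 0<|a 0<|a 0<|a 1<|a 1<|a 0<|b)<|
 a (a 0<|a 0<|a 0<|a 0<|a 0<|a 0<|a (-1)<|a 0<|b)<|
 a (a 0<|a 0<|a 0<|a 0<|a 0<|a 0<|a 1<|a 1<|b)<|b))<|
 c (d 3 (a (a (-1)<|a 0<|a 0<|a 0<|a 0<|a 0<|a 0<|a 0<|b)<|
 a (a 0<|a 1<|a 0<|a 1<|a 0<|a 0<|a 0<|a 0<|b)<|
 a (a 1<|a 0<|a 1<|a 1<|a 0<|a 0<|a 0<|a 0<|b)<|
 a (a 0<|a 0<|a 0<|a (-1)<|a 0<|a 0<|a 0<|a 0<|b)<|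
 a (a 0<|a 0<|a 0<|a 1<|a 1<|a 0<|a 0<|a 0<|b)<|
 a (a 0<|a 0<|a 0<|a 0<|a 0<|a 1<|a 0<|a 0<|b)<|
 a (a 0<|a 0<|a 0<|a 0<|a 0<|a 0<|a 1<|a 0<|b)<|
 a (a 0<|a 0<|a 0<|a 0<|a 0<|a 0<|a 0<|a 1<|b)<|b))<|
 c (d 0 (a (a (-1)<|a 0<|a 0<|a 0<|a 0<|a 0<|a 0<|a 0<|b)<|
 a (a 0<|a 1<|a 0<|a 0<|a 0<|a 0<|a 0<|a 0<|b)<|
 a (a 1<|a 0<|a 1<|a 0<|a 0<|a 0<|a 0<|a 0<|b)<|
 a (a 0<|a 0<|a 0<|a 1<|a 0<|a 0<|a 0<|a 0<|b)<|
 a (a 0<|a 0<|a 0<|a 0<|a 1<|a 0<|a 0<|a 0<|b)<|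
 a (a 0<|a 0<|a 0<|a 0<|a 0<|a 1<|a 0<|a 0<|b)<|
 a (a 0<|a 0<|a 0<|a 0<|a 0<|a 0<|a 1<|a 0<|b)<|
 a (a 0<|a 0<|a 0<|a 0<|a 0<|a 0<|a 0<|a 1<|b)<|b))<|e))

/-- the matrix of `θ` -/
def Th : Mat 8 := (beta% delta% lq26bdd2f302 fun a b _ _ _ =>
 (a (a (-1)<|a (-1)<|a (-1)<|a (-1)<|a (-1)<|a 0<|a 0<|a 0<|b)<|
 a (a 0<|a 0<|a 1<|a 0<|a 0<|a 0<|a 0<|a 0<|b)<|
 a (a 1<|a 0<|a 1<|a 1<|a 1<|a 0<|a 0<|a 0<|b)<|
 a (a 0<|a 0<|a (-1)<|a (-1)<|a (-1)<|a 0<|a 0<|a 0<|b)<|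
 a (a 0<|a 1<|a 1<|a 2<|a 2<|a 1<|a 0<|a 0<|b)<|
 a (a 0<|a 0<|a 0<|a 0<|a 0<|a 0<|a 1<|a 1<|b)<|
 a (a 0<|a 0<|a 0<|a 0<|a (-1)<|a (-1)<|a (-1)<|a (-1)<|b)<|
 a (a 0<|a 0<|a 0<|a 0<|a 1<|a 1<|a 1<|a 0<|b)<|b))

/-- the basis -/
def V : Mat 8 := (beta% delta% lq26bdd2f302 fun a b _ _ _ =>
 (a (a (-2)<|a (-3)<|a (-4)<|a (-6)<|a (-5)<|a (-4)<|a (-3)<|a (-2)<|b)<|
 a (a (-2)<|a (-3)<|a (-4)<|a (-6)<|a (-5)<|a (-4)<|a (-3)<|a (-1)<|b)<|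
 a (a (-2)<|a (-3)<|a (-4)<|a (-6)<|a (-4)<|a (-3)<|a (-2)<|a (-1)<|b)<|
 a (a (-2)<|a (-2)<|a (-3)<|a (-4)<|a (-3)<|a (-3)<|a (-2)<|a (-1)<|b)<|
 a (a (-1)<|a (-1)<|a (-2)<|a (-3)<|a (-2)<|a (-2)<|a (-2)<|a (-1)<|b)<|
 a (a (-1)<|a (-1)<|a (-1)<|a (-2)<|a (-1)<|a (-1)<|a (-1)<|a 0<|b)<|
 a (a 0<|a 0<|a 0<|a 0<|a 1<|a 0<|a 0<|a 0<|b)<|
 a (a 0<|a 1<|a 1<|a 2<|a 2<|a 1<|a 0<|a 0<|b)<|b))

/-- the coordinates -/
def B : Mat 8 := (beta% delta% lq26bdd2f302 fun a b _ _ _ =>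
 (a (a 0<|a 1<|a 0<|a (-1)<|a 0<|a (-1)<|a 1<|a 0<|b)<|
 a (a (-1)<|a (-1)<|a 0<|a 1<|a 2<|a 0<|a (-1)<|a (-1)<|b)<|
 a (a 1<|a (-1)<|a (-1)<|a 0<|a 0<|a 2<|a 0<|a (-1)<|b)<|
 a (a 0<|a 1<|a 0<|a 0<|a (-1)<|a (-1)<|a 0<|a 1<|b)<|
 a (a 0<|a 0<|a 0<|a 0<|a 0<|a 0<|a 1<|a 0<|b)<|
 a (a 0<|a 0<|a 1<|a (-1)<|a 0<|a 0<|a (-1)<|a 1<|b)<|
 a (a 0<|a (-1)<|a 0<|a 1<|a 0<|a 0<|a 0<|a (-1)<|b)<|
 a (a (-1)<|a 1<|a 0<|a 0<|a 0<|a 0<|a 0<|a 0<|b)<|b))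

/-- the polynomial -/
def c : Fin 8 → ℤ := ![1, 0, 0, 0, -1, 0, 0, 0]

/-- the representatives of the orbits of `θ` on the roots -/
def R : Fin 10 → Fin 8 → ℤ := (beta% delta% lq26bdd2f302 fun a b _ _ _ =>
 (a (a (-2)<|a (-3)<|a (-4)<|a (-6)<|a (-5)<|a (-4)<|a (-3)<|a (-2)<|b)<|
 a (a 1<|a 2<|a 2<|a 4<|a 4<|a 3<|a 2<|a 1<|b)<|
 a (a 0<|a 1<|a 1<|a 2<|a 2<|a 1<|a 1<|a 1<|b)<|
 a (a (-1)<|a (-2)<|a (-2)<|a (-4)<|a (-3)<|a (-2)<|a (-2)<|a (-1)<|b)<|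
 a (a (-1)<|a (-1)<|a (-1)<|a (-2)<|a (-2)<|a (-2)<|a (-2)<|a (-1)<|b)<|
 a (a 0<|a 0<|a 0<|a 0<|a 1<|a 1<|a 1<|a 1<|b)<|
 a (a 0<|a (-1)<|a (-1)<|a (-2)<|a (-1)<|a (-1)<|a (-1)<|a (-1)<|b)<|
 a (a (-1)<|a (-1)<|a (-2)<|a (-2)<|a (-1)<|a (-1)<|a 0<|a 0<|b)<|
 a (a 0<|a 0<|a 0<|a (-1)<|a (-1)<|a (-1)<|a (-1)<|a (-1)<|b)<|
 a (a 0<|a 0<|a 0<|a 0<|a 0<|a 0<|a 0<|a 1<|b)<|b))

/-- the values of the functional on the representatives -/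
def G : Fin 10 → Fin 8 → ℤ := (beta% delta% lq26bdd2f302 fun a b _ _ _ =>
 (a (a 1<|a 0<|a 0<|a 0<|a 0<|a 0<|a 0<|a 0<|b)<|
 a (a (-1)<|a 0<|a 1<|a 0<|a 0<|a (-1)<|a 0<|a 1<|b)<|
 a (a (-1)<|a 0<|a 0<|a 1<|a 0<|a 0<|a 0<|a 0<|b)<|
 a (a 1<|a 0<|a 0<|a (-1)<|a 0<|a 1<|a 0<|a 0<|b)<|
 a (a 1<|a 0<|a (-1)<|a 0<|a 0<|a 1<|a 0<|a 0<|b)<|
 a (a (-1)<|a 0<|a 1<|a 0<|a 0<|a 0<|a 0<|a 0<|b)<|
 a (a 1<|a 0<|a 0<|a (-1)<|a 0<|a 0<|a 1<|a 0<|b)<|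
 a (a (-1)<|a 0<|a 1<|a 1<|a 0<|a (-1)<|a 0<|a 0<|b)<|
 a (a 1<|a (-1)<|a (-1)<|a 0<|a 1<|a 1<|a 0<|a (-1)<|b)<|
 a (a (-1)<|a 1<|a 0<|a 0<|a 0<|a 0<|a 0<|a 0<|b)<|b))

/-- predecessor -/
def prv (r : ℕ) : ℕ := Nat.mod (Nat.shiftRight 0xedefecdfeee1e0eae8dcebdedbdddae6d3e9d5d2d400e7cbc8cad7a09c9ed9d6d89fa19de3c0bcbee5e2e4bfc1bdd0ccce959794cfd1cd96c6c2c48a8c89c5c7c38b999b984d9ab9bbb887ba9388b6b2b400817eb5b7b38090928f4b9184868346854cabadaa6dac8da6a8a561a70078733fafb1ae7b7d007a7274413e40b07c7779488e4a4700624382454244a36aa96c696b5ea4605d5f6f3c3800716e703b3d39675c356837343655a2575456642c282a6663652b2d0059001e205b585a21231f322e300b0d0a31332f0c524e5017191651534f1825270008261b1d1a061c0915121411041307050f0e0110030000 (8 * r)) 256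

/-- depth -/
def dep (r : ℕ) : ℕ := Nat.mod (Nat.shiftRight 0xc0d0b0a0e02050304030f070a0a0104090609020900050c07050808080106060d080b020b041706100b080a08080703090507160e070c0a0c090b06050609110909070d03040e0d0f0b06080f0f0a07070001070c0d0602060904150e080d05030f04040805050e050c0e070410000117060a0a0a0b0b000c1717161616120b0d0c041013020011021111141010030f11011402091015120e120100130d0c1313160303141217030102100f011315150515121112171500160013020a1311150f13141416141704120b10170e17140112120d141414111300110c150e151215100d161613030f100f110e0216170100 (8 * r)) 256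

theorem hA : ∀ i j, Am i j = cartanOf chevE8 8 i j :=
  H129.RootF.cE8

theorem chainOK : ChainOK Am chain :=
  H129.ChainF.ok H129.ChainF.i8 H129.ChainF.m8 (H129.ChainF.c8 <| H129.ChainF.c8 <| H129.ChainF.c8 <| H129.ChainF.c8 <| H129.ChainF.c8 <| H129.ChainF.c8 <| H129.ChainF.c8 <| H129.ChainF.c8 <| H129.ChainF.c8 <| H129.ChainF.c8 <| H129.ChainF.nil) (by decide +kernel)

theorem cycOK : CycOK 8 Th V B c :=
  H129.RootF.cyc H129.ChainF.i8 H129.RootF.t8 H129.ChainF.m8 H129.RootF.t8 H129.ChainF.m8 H129.RootF.t8 H129.RootF.r8 (by decide +kernel)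

theorem rootOK : RootOK chevE8 8 Th R prv dep :=
  H129.RootF.ok H129.RootF.t8 (H129.RootF.mc H129.RootF.r8 <| H129.RootF.mc H129.RootF.r8 <| H129.RootF.mc H129.RootF.r8 <| H129.RootF.mc H129.RootF.r8 <| H129.RootF.mc H129.RootF.r8 <| H129.RootF.mc H129.RootF.r8 <| H129.RootF.mc H129.RootF.r8 <| H129.RootF.mc H129.RootF.r8 <| H129.RootF.mc H129.RootF.r8 <| H129.RootF.mc H129.RootF.r8 <| H129.RootF.m0) (by decide +kernel)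

theorem coefOK : ∀ s i, ∑ j, R s j * B j i = G s i := by decide +kernel

theorem fN_eq (x : ℤ) : fN c x = 1 - x ^ 4 + x ^ 8 := by
  unfold fN c
  simp [Fin.sum_univ_succ]
  try ring

theorem G_0 (x : ℤ) : Gq B x (R 0) = 1 := by
  rw [Gq_coef B x (R 0) (G 0) (coefOK 0)]
  unfold G
  simp [Fin.sum_univ_succ]
  try ring

theorem bez_0 (x : ℤ) : (0) * (1 - x ^ 4 + x ^ 8) + (1) * (1) = 1 := by
  ring

theorem G_1 (x : ℤ) : Gq B x (R 1) = -1 + x ^ 2 - x ^ 5 + x ^ 7 := by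
  rw [Gq_coef B x (R 1) (G 1) (coefOK 1)]
  unfold G
  simp [Fin.sum_univ_succ]
  try ring

theorem bez_1 (x : ℤ) : (1 - x ^ 3 + x ^ 4 + x ^ 5 - x ^ 6) * (1 - x ^ 4 + x ^ 8) + (-x ^ 3 - x ^ 6 + x ^ 7) * (-1 + x ^ 2 - x ^ 5 + x ^ 7) = 1 := by
  ring

theorem G_2 (x : ℤ) : Gq B x (R 2) = -1 + x ^ 3 := by
  rw [Gq_coef B x (R 2) (G 2) (coefOK 2)]
  unfold G
  simp [Fin.sum_univ_succ]
  try ring

theorem bez_2 (x : ℤ) : (1 + x) * (1 - x ^ 4 + x ^ 8) + (-1 + x - x ^ 3 - x ^ 5 - x ^ 6) * (-1 + x ^ 3) = 2 := by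
  ring

theorem G_3 (x : ℤ) : Gq B x (R 3) = 1 - x ^ 3 + x ^ 5 := by
  rw [Gq_coef B x (R 3) (G 3) (coefOK 3)]
  unfold G
  simp [Fin.sum_univ_succ]
  try ring

theorem bez_3 (x : ℤ) : (1 - 2 * x ^ 2 + x ^ 3 + 2 * x ^ 4) * (1 - x ^ 4 + x ^ 8) + (2 + 2 * x ^ 2 + x ^ 3 - x ^ 4 - x ^ 6 - 2 * x ^ 7) * (1 - x ^ 3 + x ^ 5) = 3 := by
  ring

theorem G_4 (x : ℤ) : Gq B x (R 4) = 1 - x ^ 2 + x ^ 5 := by
  rw [Gq_coef B x (R 4) (G 4) (coefOK 4)]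
  unfold G
  simp [Fin.sum_univ_succ]
  try ring

theorem bez_4 (x : ℤ) : (1 - x + 2 * x ^ 2 + 2 * x ^ 4) * (1 - x ^ 4 + x ^ 8) + (2 + x + x ^ 3 - x ^ 4 - 2 * x ^ 5 - 2 * x ^ 7) * (1 - x ^ 2 + x ^ 5) = 3 := by
  ring

theorem G_5 (x : ℤ) : Gq B x (R 5) = -1 + x ^ 2 := by
  rw [Gq_coef B x (R 5) (G 5) (coefOK 5)]
  unfold G
  simp [Fin.sum_univ_succ]
  try ring

theorem bez_5 (x : ℤ) : (1) * (1 - x ^ 4 + x ^ 8) + (-x ^ 4 - x ^ 6) * (-1 + x ^ 2) = 1 := by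
  ring

theorem G_6 (x : ℤ) : Gq B x (R 6) = 1 - x ^ 3 + x ^ 6 := by
  rw [Gq_coef B x (R 6) (G 6) (coefOK 6)]
  unfold G
  simp [Fin.sum_univ_succ]
  try ring

theorem bez_6 (x : ℤ) : (-x + x ^ 3 + x ^ 4) * (1 - x ^ 4 + x ^ 8) + (1 + x - x ^ 5 - x ^ 6) * (1 - x ^ 3 + x ^ 6) = 1 := by
  ring

theorem G_7 (x : ℤ) : Gq B x (R 7) = -1 + x ^ 2 + x ^ 3 - x ^ 5 := by
  rw [Gq_coef B x (R 7) (G 7) (coefOK 7)]
  unfold G
  simp [Fin.sum_univ_succ]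
  try ring

theorem bez_7 (x : ℤ) : (3 + 2 * x - 2 * x ^ 3 - x ^ 4) * (1 - x ^ 4 + x ^ 8) + (1 + 2 * x + x ^ 2 + x ^ 3 - x ^ 4 - x ^ 5 - 2 * x ^ 6 - x ^ 7) * (-1 + x ^ 2 + x ^ 3 - x ^ 5) = 2 := by
  ring

theorem G_8 (x : ℤ) : Gq B x (R 8) = 1 - x - x ^ 2 + x ^ 4 + x ^ 5 - x ^ 7 := by
  rw [Gq_coef B x (R 8) (G 8) (coefOK 8)]
  unfold G
  simp [Fin.sum_univ_succ]
  try ring

theorem bez_8 (x : ℤ) : (-1 + x + 2 * x ^ 2 + x ^ 3 - x ^ 5 - x ^ 6) * (1 - x ^ 4 + x ^ 8) + (2 + x + x ^ 2 + x ^ 3 - x ^ 4 - x ^ 5 - x ^ 6 - x ^ 7) * (1 - x - x ^ 2 + x ^ 4 + x ^ 5 - x ^ 7) = 1 := by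
  ring

theorem G_9 (x : ℤ) : Gq B x (R 9) = -1 + x := by
  rw [Gq_coef B x (R 9) (G 9) (coefOK 9)]
  unfold G
  simp [Fin.sum_univ_succ]
  try ring

theorem bez_9 (x : ℤ) : (1) * (1 - x ^ 4 + x ^ 8) + (-x ^ 4 - x ^ 5 - x ^ 6 - x ^ 7) * (-1 + x) = 1 := by
  ring

/-- Common divisors of `Φ(x)` and the value of `Gq` on a representative. -/
theorem dvd_of_G {x r : ℤ} (h : r ∣ 1 - x ^ 4 + x ^ 8) (s : Fin 10) (hs : r ∣ Gq B x (R s)) :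
    r ∣ 6 := by
  have key : ∀ {a b g y : ℤ}, a * (1 - x ^ 4 + x ^ 8) + b * g = y → y ∣ 6 → r ∣ g → r ∣ 6 := fun e hy hg => by
    refine dvd_trans ?_ hy
    rw [← e]
    exact dvd_add (h.mul_left _) (hg.mul_left _)
  fin_cases s
  · exact key (bez_0 x) (by norm_num) (by rw [← G_0]; exact hs)
  · exact key (bez_1 x) (by norm_num) (by rw [← G_1]; exact hs)
  · exact key (bez_2 x) (by norm_num) (by rw [← G_2]; exact hs)
  · exact key (bez_3 x) (by norm_num) (by rw [← G_3]; exact hs)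
  · exact key (bez_4 x) (by norm_num) (by rw [← G_4]; exact hs)
  · exact key (bez_5 x) (by norm_num) (by rw [← G_5]; exact hs)
  · exact key (bez_6 x) (by norm_num) (by rw [← G_6]; exact hs)
  · exact key (bez_7 x) (by norm_num) (by rw [← G_7]; exact hs)
  · exact key (bez_8 x) (by norm_num) (by rw [← G_8]; exact hs)
  · exact key (bez_9 x) (by norm_num) (by rw [← G_9]; exact hs)

end Cfsg.Agent.H719.TE8_24
end

-- part: H719/TE8_30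
section
/-!
# Data of a torus of type E8 (helper719): f(x) = 1 + x - x ^ 3 - x ^ 4 - x ^ 5 + x ^ 7 + x ^ 8, Phi(x) = 1 + x - x ^ 3 - x ^ 4 - x ^ 5 + x ^ 7 + x ^ 8

Generated by a script; the word of `w` is 1 4 5 2 6 3 0 7.
-/

set_option autoImplicit false
set_option maxRecDepth 4000

namespace Cfsg.Agent.H719.TE8_30

open Cfsg.Agent.H129.TorusTw Cfsg.Agent.H129.WData Cfsg.Agent.ChevalleyStructure.CoxeterGeomTypes
open Cfsg.Lie Cfsg.Lie.ChevalleyDatum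

/-- the Cartan matrix -/
def Am : Mat 8 := (beta% delta% lq26bdd2f302 fun a b _ _ _ =>
 (a (a 2<|a 0<|a (-1)<|a 0<|a 0<|a 0<|a 0<|a 0<|b)<|
 a (a 0<|a 2<|a 0<|a (-1)<|a 0<|a 0<|a 0<|a 0<|b)<|
 a (a (-1)<|a 0<|a 2<|a (-1)<|a 0<|a 0<|a 0<|a 0<|b)<|
 a (a 0<|a (-1)<|a (-1)<|a 2<|a (-1)<|a 0<|a 0<|a 0<|b)<|
 a (a 0<|a 0<|a 0<|a (-1)<|a 2<|a (-1)<|a 0<|a 0<|b)<|
 a (a 0<|a 0<|a 0<|a 0<|a (-1)<|a 2<|a (-1)<|a 0<|b)<|
 a (a 0<|a 0<|a 0<|a 0<|a 0<|a (-1)<|a 2<|a (-1)<|b)<|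
 a (a 0<|a 0<|a 0<|a 0<|a 0<|a 0<|a (-1)<|a 2<|b)<|b))

/-- the partial products -/
def chain : List (Fin 8 × Mat 8) := (beta% delta% lq26bdd2f302 fun a b c d e =>
 (c (d 1 (a (a (-1)<|a 0<|a (-1)<|a 0<|a 0<|a 0<|a 0<|a 0<|b)<|
 a (a 0<|a 0<|a 1<|a 1<|a 1<|a 0<|a 0<|a 0<|b)<|
 a (a 1<|a 1<|a 1<|a 1<|a 1<|a 0<|a 0<|a 0<|b)<|
 a (a 0<|a (-1)<|a (-1)<|a (-1)<|a (-1)<|a 0<|a 0<|a 0<|b)<|
 a (a 0<|a 1<|a 1<|a 1<|a 1<|a 1<|a 0<|a 0<|b)<|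
 a (a 0<|a 0<|a 0<|a 0<|a 0<|a 0<|a 1<|a 0<|b)<|
 a (a 0<|a 0<|a 0<|a 0<|a 0<|a 0<|a 0<|a 1<|b)<|
 a (a 0<|a 0<|a 0<|a 0<|a (-1)<|a (-1)<|a (-1)<|a (-1)<|b)<|b))<|
 c (d 4 (a (a (-1)<|a 0<|a (-1)<|a 0<|a 0<|a 0<|a 0<|a 0<|b)<|
 a (a 0<|a 1<|a 1<|a 1<|a 1<|a 0<|a 0<|a 0<|b)<|
 a (a 1<|a 0<|a 1<|a 1<|a 1<|a 0<|a 0<|a 0<|b)<|
 a (a 0<|a 0<|a (-1)<|a (-1)<|a (-1)<|a 0<|a 0<|a 0<|b)<|
 a (a 0<|a 0<|a 1<|a 1<|a 1<|a 1<|a 0<|a 0<|b)<|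
 a (a 0<|a 0<|a 0<|a 0<|a 0<|a 0<|a 1<|a 0<|b)<|
 a (a 0<|a 0<|a 0<|a 0<|a 0<|a 0<|a 0<|a 1<|b)<|
 a (a 0<|a 0<|a 0<|a 0<|a (-1)<|a (-1)<|a (-1)<|a (-1)<|b)<|b))<|
 c (d 5 (a (a (-1)<|a 0<|a (-1)<|a 0<|a 0<|a 0<|a 0<|a 0<|b)<|
 a (a 0<|a 1<|a 1<|a 1<|a 0<|a 0<|a 0<|a 0<|b)<|
 a (a 1<|a 0<|a 1<|a 1<|a 0<|a 0<|a 0<|a 0<|b)<|
 a (a 0<|a 0<|a (-1)<|a (-1)<|a 0<|a 0<|a 0<|a 0<|b)<|
 a (a 0<|a 0<|a 1<|a 1<|a 1<|a 1<|a 0<|a 0<|b)<|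
 a (a 0<|a 0<|a 0<|a 0<|a 0<|a 0<|a 1<|a 0<|b)<|
 a (a 0<|a 0<|a 0<|a 0<|a 0<|a 0<|a 0<|a 1<|b)<|
 a (a 0<|a 0<|a 0<|a 0<|a 0<|a (-1)<|a (-1)<|a (-1)<|b)<|b))<|
 c (d 2 (a (a (-1)<|a 0<|a (-1)<|a 0<|a 0<|a 0<|a 0<|a 0<|b)<|
 a (a 0<|a 1<|a 1<|a 1<|a 0<|a 0<|a 0<|a 0<|b)<|
 a (a 1<|a 0<|a 1<|a 1<|a 0<|a 0<|a 0<|a 0<|b)<|
 a (a 0<|a 0<|a (-1)<|a (-1)<|a 0<|a 0<|a 0<|a 0<|b)<|
 a (a 0<|a 0<|a 1<|a 1<|a 1<|a 0<|a 0<|a 0<|b)<|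
 a (a 0<|a 0<|a 0<|a 0<|a 0<|a 1<|a 1<|a 0<|b)<|
 a (a 0<|a 0<|a 0<|a 0<|a 0<|a 0<|a 0<|a 1<|b)<|
 a (a 0<|a 0<|a 0<|a 0<|a 0<|a 0<|a (-1)<|a (-1)<|b)<|b))<|
 c (d 6 (a (a (-1)<|a 0<|a 0<|a 0<|a 0<|a 0<|a 0<|a 0<|b)<|
 a (a 0<|a 1<|a 0<|a 1<|a 0<|a 0<|a 0<|a 0<|b)<|
 a (a 1<|a 0<|a 1<|a 1<|a 0<|a 0<|a 0<|a 0<|b)<|
 a (a 0<|a 0<|a 0<|a (-1)<|a 0<|a 0<|a 0<|a 0<|b)<|
 a (a 0<|a 0<|a 0<|a 1<|a 1<|a 0<|a 0<|a 0<|b)<|
 a (a 0<|a 0<|a 0<|a 0<|a 0<|a 1<|a 1<|a 0<|b)<|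
 a (a 0<|a 0<|a 0<|a 0<|a 0<|a 0<|a 0<|a 1<|b)<|
 a (a 0<|a 0<|a 0<|a 0<|a 0<|a 0<|a (-1)<|a (-1)<|b)<|b))<|
 c (d 3 (a (a (-1)<|a 0<|a 0<|a 0<|a 0<|a 0<|a 0<|a 0<|b)<|
 a (a 0<|a 1<|a 0<|a 1<|a 0<|a 0<|a 0<|a 0<|b)<|
 a (a 1<|a 0<|a 1<|a 1<|a 0<|a 0<|a 0<|a 0<|b)<|
 a (a 0<|a 0<|a 0<|a (-1)<|a 0<|a 0<|a 0<|a 0<|b)<|
 a (a 0<|a 0<|a 0<|a 1<|a 1<|a 0<|a 0<|a 0<|b)<|
 a (a 0<|a 0<|a 0<|a 0<|a 0<|a 1<|a 0<|a 0<|b)<|
 a (a 0<|a 0<|a 0<|a 0<|a 0<|a 0<|a 1<|a 1<|b)<|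
 a (a 0<|a 0<|a 0<|a 0<|a 0<|a 0<|a 0<|a (-1)<|b)<|b))<|
 c (d 0 (a (a (-1)<|a 0<|a 0<|a 0<|a 0<|a 0<|a 0<|a 0<|b)<|
 a (a 0<|a 1<|a 0<|a 0<|a 0<|a 0<|a 0<|a 0<|b)<|
 a (a 1<|a 0<|a 1<|a 0<|a 0<|a 0<|a 0<|a 0<|b)<|
 a (a 0<|a 0<|a 0<|a 1<|a 0<|a 0<|a 0<|a 0<|b)<|
 a (a 0<|a 0<|a 0<|a 0<|a 1<|a 0<|a 0<|a 0<|b)<|
 a (a 0<|a 0<|a 0<|a 0<|a 0<|a 1<|a 0<|a 0<|b)<|
 a (a 0<|a 0<|a 0<|a 0<|a 0<|a 0<|a 1<|a 1<|b)<|
 a (a 0<|a 0<|a 0<|a 0<|a 0<|a 0<|a 0<|a (-1)<|b)<|b))<|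
 c (d 7 (a (a 1<|a 0<|a 0<|a 0<|a 0<|a 0<|a 0<|a 0<|b)<|
 a (a 0<|a 1<|a 0<|a 0<|a 0<|a 0<|a 0<|a 0<|b)<|
 a (a 0<|a 0<|a 1<|a 0<|a 0<|a 0<|a 0<|a 0<|b)<|
 a (a 0<|a 0<|a 0<|a 1<|a 0<|a 0<|a 0<|a 0<|b)<|
 a (a 0<|a 0<|a 0<|a 0<|a 1<|a 0<|a 0<|a 0<|b)<|
 a (a 0<|a 0<|a 0<|a 0<|a 0<|a 1<|a 0<|a 0<|b)<|
 a (a 0<|a 0<|a 0<|a 0<|a 0<|a 0<|a 1<|a 1<|b)<|
 a (a 0<|a 0<|a 0<|a 0<|a 0<|a 0<|a 0<|a (-1)<|b)<|b))<|e))

/-- the matrix of `θ` -/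
def Th : Mat 8 := (beta% delta% lq26bdd2f302 fun a b _ _ _ =>
 (a (a (-1)<|a 0<|a (-1)<|a 0<|a 0<|a 0<|a 0<|a 0<|b)<|
 a (a 0<|a 0<|a 1<|a 1<|a 1<|a 0<|a 0<|a 0<|b)<|
 a (a 1<|a 1<|a 1<|a 1<|a 1<|a 0<|a 0<|a 0<|b)<|
 a (a 0<|a (-1)<|a (-1)<|a (-1)<|a (-1)<|a 0<|a 0<|a 0<|b)<|
 a (a 0<|a 1<|a 1<|a 1<|a 1<|a 1<|a 0<|a 0<|b)<|
 a (a 0<|a 0<|a 0<|a 0<|a 0<|a 0<|a 1<|a 0<|b)<|
 a (a 0<|a 0<|a 0<|a 0<|a 0<|a 0<|a 0<|a 1<|b)<|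
 a (a 0<|a 0<|a 0<|a 0<|a (-1)<|a (-1)<|a (-1)<|a (-1)<|b)<|b))

/-- the basis -/
def V : Mat 8 := (beta% delta% lq26bdd2f302 fun a b _ _ _ =>
 (a (a (-2)<|a (-3)<|a (-4)<|a (-6)<|a (-5)<|a (-4)<|a (-3)<|a (-2)<|b)<|
 a (a (-2)<|a (-3)<|a (-4)<|a (-6)<|a (-4)<|a (-3)<|a (-2)<|a (-1)<|b)<|
 a (a (-2)<|a (-2)<|a (-3)<|a (-5)<|a (-4)<|a (-3)<|a (-2)<|a (-1)<|b)<|
 a (a (-1)<|a (-2)<|a (-2)<|a (-4)<|a (-3)<|a (-3)<|a (-2)<|a (-1)<|b)<|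
 a (a (-1)<|a (-1)<|a (-2)<|a (-3)<|a (-2)<|a (-2)<|a (-2)<|a (-1)<|b)<|
 a (a (-1)<|a (-1)<|a (-1)<|a (-2)<|a (-1)<|a (-1)<|a (-1)<|a (-1)<|b)<|
 a (a 0<|a 0<|a 0<|a (-1)<|a 0<|a 0<|a 0<|a 0<|b)<|
 a (a 0<|a 1<|a 1<|a 1<|a 1<|a 0<|a 0<|a 0<|b)<|b))

/-- the coordinates -/
def B : Mat 8 := (beta% delta% lq26bdd2f302 fun a b _ _ _ =>
 (a (a 1<|a 0<|a (-1)<|a 0<|a 0<|a (-1)<|a 1<|a 0<|b)<|
 a (a 1<|a 0<|a 0<|a (-1)<|a 0<|a (-1)<|a 1<|a 1<|b)<|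
 a (a (-1)<|a (-1)<|a 1<|a 1<|a 0<|a 1<|a 0<|a (-1)<|b)<|
 a (a 0<|a 0<|a 0<|a 0<|a 0<|a 0<|a (-1)<|a 0<|b)<|
 a (a 0<|a 1<|a (-1)<|a 0<|a 0<|a 0<|a 0<|a 1<|b)<|
 a (a (-1)<|a (-1)<|a 1<|a 0<|a 1<|a 1<|a 0<|a (-2)<|b)<|
 a (a 2<|a 1<|a (-1)<|a (-1)<|a (-2)<|a (-1)<|a 1<|a 2<|b)<|
 a (a (-2)<|a 0<|a 1<|a 1<|a 1<|a 0<|a (-1)<|a (-1)<|b)<|b))

/-- the polynomial -/
def c : Fin 8 → ℤ := ![1, 1, 0, -1, -1, -1, 0, 1]

/-- the representatives of the orbits of `θ` on the roots -/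
def R : Fin 8 → Fin 8 → ℤ := (beta% delta% lq26bdd2f302 fun a b _ _ _ =>
 (a (a (-2)<|a (-3)<|a (-4)<|a (-6)<|a (-5)<|a (-4)<|a (-3)<|a (-2)<|b)<|
 a (a 1<|a 2<|a 2<|a 3<|a 3<|a 2<|a 1<|a 1<|b)<|
 a (a 0<|a (-1)<|a (-1)<|a (-2)<|a (-1)<|a (-1)<|a (-1)<|a (-1)<|b)<|
 a (a 1<|a 1<|a 2<|a 2<|a 2<|a 1<|a 1<|a 1<|b)<|
 a (a (-1)<|a 0<|a (-1)<|a (-1)<|a (-1)<|a (-1)<|a (-1)<|a (-1)<|b)<|
 a (a 0<|a 1<|a 1<|a 1<|a 1<|a 1<|a 1<|a 1<|b)<|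
 a (a (-1)<|a (-1)<|a (-2)<|a (-2)<|a (-1)<|a (-1)<|a (-1)<|a 0<|b)<|
 a (a 0<|a 0<|a 0<|a 0<|a 1<|a 1<|a 1<|a 1<|b)<|b))

/-- the values of the functional on the representatives -/
def G : Fin 8 → Fin 8 → ℤ := (beta% delta% lq26bdd2f302 fun a b _ _ _ =>
 (a (a 1<|a 0<|a 0<|a 0<|a 0<|a 0<|a 0<|a 0<|b)<|
 a (a (-1)<|a 0<|a 0<|a 0<|a 1<|a 0<|a 0<|a 0<|b)<|
 a (a 1<|a 0<|a (-1)<|a 0<|a 0<|a 0<|a 1<|a 0<|b)<|
 a (a (-1)<|a 0<|a 0<|a 1<|a 0<|a 0<|a 0<|a 0<|b)<|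
 a (a 1<|a 0<|a 0<|a (-1)<|a 0<|a 0<|a 0<|a 1<|b)<|
 a (a (-1)<|a 0<|a 1<|a 0<|a 0<|a 0<|a 0<|a 0<|b)<|
 a (a (-1)<|a 1<|a 0<|a 0<|a 1<|a 0<|a (-1)<|a 0<|b)<|
 a (a (-1)<|a 1<|a 0<|a 0<|a 0<|a 0<|a 0<|a 0<|b)<|b))

/-- predecessor -/
def prv (r : ℕ) : ℕ := Nat.mod (Nat.shiftRight 0xeeedeceaefdfe8e1ebdbe0dedddce6e9d2dad5d4d3e2e7e5e4e3c8bf00bccbcac9c1c0bed6cfcdccd9d8d7d1d0ce9f9d9c009594a1a09e97c5c3c2bab9b8c7c6c4bb8b8a89878c9a9998939b4d88b5b3b2acabaab7b6b4ad007f7e6d81a7a6a5a3a86191908f8d924bb0afaea9b1007572698584837c7b797674736c6b6a867d7a783e4641403fa45d62605f5e8e474c4a49486e8271706f423b39004544433d3c3a67a2545c5756006368666564342b29283736352d2c2a5851004e5b5a59535250211f1e18171623222019312f2e262524333230270c0b0a080d1c1b1a151d06091312110f14040e07100005030200 (8 * r)) 256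

/-- depth -/
def dep (r : ℕ) : ℕ := Nat.mod (Nat.shiftRight 0xf0e0d0c100b05041102070b050803060a0a0407010912080c0603060009080b09050701070a080213090d090c06040605001d08090f0c010e0d07100d02140a0a0a050a04030a0f120702100715080e030b05040f0e1106001d1c07011308030810020904090314020b0b0b0b15001d1c1b0c0c0c0d0d0e1d1c1c1b1b1b0c0d0e0f061a1a1a1a11051218131811011712170410160d0e0f15021d0013141a121d1706160111160300191213191419191905111c01161c1d101b0018170e0f141513151b181c180411171916101614181a17180f1512151b1703181016131919151217141a16110213141a011b1c1d00 (8 * r)) 256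

theorem hA : ∀ i j, Am i j = cartanOf chevE8 8 i j :=
  H129.RootF.cE8

theorem chainOK : ChainOK Am chain :=
  H129.ChainF.ok H129.ChainF.i8 H129.ChainF.m8 (H129.ChainF.c8 <| H129.ChainF.c8 <| H129.ChainF.c8 <| H129.ChainF.c8 <| H129.ChainF.c8 <| H129.ChainF.c8 <| H129.ChainF.c8 <| H129.ChainF.c8 <| H129.ChainF.nil) (by decide +kernel)

theorem cycOK : CycOK 8 Th V B c :=
  H129.RootF.cyc H129.ChainF.i8 H129.RootF.t8 H129.ChainF.m8 H129.RootF.t8 H129.ChainF.m8 H129.RootF.t8 H129.RootF.r8 (by decide +kernel)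

theorem rootOK : RootOK chevE8 8 Th R prv dep :=
  H129.RootF.ok H129.RootF.t8 (H129.RootF.mc H129.RootF.r8 <| H129.RootF.mc H129.RootF.r8 <| H129.RootF.mc H129.RootF.r8 <| H129.RootF.mc H129.RootF.r8 <| H129.RootF.mc H129.RootF.r8 <| H129.RootF.mc H129.RootF.r8 <| H129.RootF.mc H129.RootF.r8 <| H129.RootF.mc H129.RootF.r8 <| H129.RootF.m0) (by decide +kernel)

theorem coefOK : ∀ s i, ∑ j, R s j * B j i = G s i := by (open scoped Cfsg.Agent.ChevFast.Lin in decide +kernel)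

theorem fN_eq (x : ℤ) : fN c x = 1 + x - x ^ 3 - x ^ 4 - x ^ 5 + x ^ 7 + x ^ 8 := by
  unfold fN c
  simp [Fin.sum_univ_succ]
  try ring

theorem G_0 (x : ℤ) : Gq B x (R 0) = 1 := by
  rw [Gq_coef B x (R 0) (G 0) (coefOK 0)]
  unfold G
  simp [Fin.sum_univ_succ]
  try ring

theorem bez_0 (x : ℤ) : (0) * (1 + x - x ^ 3 - x ^ 4 - x ^ 5 + x ^ 7 + x ^ 8) + (1) * (1) = 1 := by
  ring

theorem G_1 (x : ℤ) : Gq B x (R 1) = -1 + x ^ 4 := by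
  rw [Gq_coef B x (R 1) (G 1) (coefOK 1)]
  unfold G
  simp [Fin.sum_univ_succ]
  try ring

theorem bez_1 (x : ℤ) : (1) * (1 + x - x ^ 3 - x ^ 4 - x ^ 5 + x ^ 7 + x ^ 8) + (x - x ^ 3 - x ^ 4) * (-1 + x ^ 4) = 1 := by
  ring

theorem G_2 (x : ℤ) : Gq B x (R 2) = 1 - x ^ 2 + x ^ 6 := by
  rw [Gq_coef B x (R 2) (G 2) (coefOK 2)]
  unfold G
  simp [Fin.sum_univ_succ]
  try ring

theorem bez_2 (x : ℤ) : (2 - 2 * x + x ^ 3 - x ^ 4 + 2 * x ^ 5) * (1 + x - x ^ 3 - x ^ 4 - x ^ 5 + x ^ 7 + x ^ 8) + (-1 + x ^ 2 + x ^ 3 + x ^ 4 - x ^ 6 - 2 * x ^ 7) * (1 - x ^ 2 + x ^ 6) = 1 := by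
  ring

theorem G_3 (x : ℤ) : Gq B x (R 3) = -1 + x ^ 3 := by
  rw [Gq_coef B x (R 3) (G 3) (coefOK 3)]
  unfold G
  simp [Fin.sum_univ_succ]
  try ring

theorem bez_3 (x : ℤ) : (x ^ 2) * (1 + x - x ^ 3 - x ^ 4 - x ^ 5 + x ^ 7 + x ^ 8) + (-1 + x ^ 2 - x ^ 6 - x ^ 7) * (-1 + x ^ 3) = 1 := by
  ring

theorem G_4 (x : ℤ) : Gq B x (R 4) = 1 - x ^ 3 + x ^ 7 := by
  rw [Gq_coef B x (R 4) (G 4) (coefOK 4)]
  unfold G
  simp [Fin.sum_univ_succ]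
  try ring

theorem bez_4 (x : ℤ) : (-x + x ^ 2 + x ^ 5) * (1 + x - x ^ 3 - x ^ 4 - x ^ 5 + x ^ 7 + x ^ 8) + (1 + x - x ^ 5 - x ^ 6) * (1 - x ^ 3 + x ^ 7) = 1 := by
  ring

theorem G_5 (x : ℤ) : Gq B x (R 5) = -1 + x ^ 2 := by
  rw [Gq_coef B x (R 5) (G 5) (coefOK 5)]
  unfold G
  simp [Fin.sum_univ_succ]
  try ring

theorem bez_5 (x : ℤ) : (1) * (1 + x - x ^ 3 - x ^ 4 - x ^ 5 + x ^ 7 + x ^ 8) + (x - x ^ 4 - x ^ 5 - x ^ 6) * (-1 + x ^ 2) = 1 := by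
  ring

theorem G_6 (x : ℤ) : Gq B x (R 6) = -1 + x + x ^ 4 - x ^ 6 := by
  rw [Gq_coef B x (R 6) (G 6) (coefOK 6)]
  unfold G
  simp [Fin.sum_univ_succ]
  try ring

theorem bez_6 (x : ℤ) : (1 + x ^ 3 - x ^ 5) * (1 + x - x ^ 3 - x ^ 4 - x ^ 5 + x ^ 7 + x ^ 8) + (x + x ^ 2 + x ^ 3 + x ^ 4 - x ^ 6 - x ^ 7) * (-1 + x + x ^ 4 - x ^ 6) = 1 := by
  ring

theorem G_7 (x : ℤ) : Gq B x (R 7) = -1 + x := by
  rw [Gq_coef B x (R 7) (G 7) (coefOK 7)]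
  unfold G
  simp [Fin.sum_univ_succ]
  try ring

theorem bez_7 (x : ℤ) : (1) * (1 + x - x ^ 3 - x ^ 4 - x ^ 5 + x ^ 7 + x ^ 8) + (x + x ^ 2 - x ^ 4 - 2 * x ^ 5 - 2 * x ^ 6 - x ^ 7) * (-1 + x) = 1 := by
  ring

/-- Common divisors of `Φ(x)` and the value of `Gq` on a representative. -/
theorem dvd_of_G {x r : ℤ} (h : r ∣ 1 + x - x ^ 3 - x ^ 4 - x ^ 5 + x ^ 7 + x ^ 8) (s : Fin 8) (hs : r ∣ Gq B x (R s)) :
    r ∣ 1 := by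
  have key : ∀ {a b g y : ℤ}, a * (1 + x - x ^ 3 - x ^ 4 - x ^ 5 + x ^ 7 + x ^ 8) + b * g = y → y ∣ 1 → r ∣ g → r ∣ 1 := fun e hy hg => by
    refine dvd_trans ?_ hy
    rw [← e]
    exact dvd_add (h.mul_left _) (hg.mul_left _)
  fin_cases s
  · exact key (bez_0 x) (by norm_num) (by rw [← G_0]; exact hs)
  · exact key (bez_1 x) (by norm_num) (by rw [← G_1]; exact hs)
  · exact key (bez_2 x) (by norm_num) (by rw [← G_2]; exact hs)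
  · exact key (bez_3 x) (by norm_num) (by rw [← G_3]; exact hs)
  · exact key (bez_4 x) (by norm_num) (by rw [← G_4]; exact hs)
  · exact key (bez_5 x) (by norm_num) (by rw [← G_5]; exact hs)
  · exact key (bez_6 x) (by norm_num) (by rw [← G_6]; exact hs)
  · exact key (bez_7 x) (by norm_num) (by rw [← G_7]; exact hs)

end Cfsg.Agent.H719.TE8_30
end

-- part: H719/RowTData
section
/-!
# The tori of the exceptional groups (helper719)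

`red b n` : `n / b` if `b ∣ n`, otherwise `n`.  `HasT (chevX.group F) (f_w(q)) (red b (Φ_h(q)))` for
G2 (h = 3, 6), F4 (h = 8, 12), E6 (h = 9, 12), E7 (h = 7, 14), E8 (h = 24, 30).
-/

set_option autoImplicit false
set_option linter.unusedSectionVars false

namespace Cfsg.Agent.H719

open Subgroup

/-- `n / b` if `b ∣ n`, otherwise `n` -/
def red (b n : ℕ) : ℕ := if b ∣ n then n / b else n

theorem red_dvd (b n : ℕ) : red b n ∣ n := by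
  unfold red
  split_ifs with h
  · exact Nat.div_dvd_of_dvd h
  · exact dvd_rfl

theorem red_of_not_dvd {b n : ℕ} (h : ¬ b ∣ n) : red b n = n := if_neg h

theorem le_mul_red {b : ℕ} (hb : 0 < b) (n : ℕ) : n ≤ b * red b n := by
  unfold red
  split_ifs with h
  · rw [Nat.mul_div_cancel' h]
  · exact Nat.le_mul_of_pos_left n hb

theorem not_dvd_red {b n : ℕ} (hb : 0 < b) (h : ¬ b ^ 2 ∣ n) : ¬ b ∣ red b n := by
  unfold red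
  split_ifs with h1
  · rintro ⟨c, hc⟩
    apply h
    refine ⟨c, ?_⟩
    rw [← Nat.div_mul_cancel h1, hc]
    ring
  · exact h1

theorem dvd_red {b n r : ℕ} (hb : b.Prime) (hr : r.Prime) (hrb : r ≠ b) (h : r ∣ n) : r ∣ red b n := by
  unfold red
  split_ifs with h1
  · obtain ⟨c, rfl⟩ := h1
    rw [Nat.mul_div_cancel_left _ hb.pos]
    rcases hr.dvd_mul.1 h with h2 | h2
    · exact absurd ((Nat.prime_dvd_prime_iff_eq hr hb).1 h2) hrb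
    · exact h2
  · exact h

section Torus

open CoxeterSystem Cfsg Cfsg.Lie Cfsg.Lie.ChevalleyDatum
open Cfsg.Agent.ChevalleyStructure Cfsg.Agent.ChevalleyStructure.Elts Cfsg.Agent.ChevalleyStructure.CoxeterGeom
  Cfsg.Agent.ChevalleyStructure.CoxeterGeomTypes
open Cfsg.Agent.Nodes.RGDChev
open Cfsg.Agent.H129.TorusChar Cfsg.Agent.H129.TorusTw Cfsg.Agent.H129.WData

universe u

theorem hasT_of {D : ChevalleyDatum} {l : ℕ} {M : CoxeterMatrix (Fin l)} (hp : IsType D l M)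
    {W : Type*} [Group W] (cs : CoxeterSystem M W) [Finite W] (hl : 0 < l) {F : Type u} [Field F] [Fintype F]
    {q : ℕ} (hq : Fintype.card F = q)
    {d' : ℕ} {B' : Fin l → Fin l → ℤ} (hB : InvC D l d' B') (hd' : d' ≠ 0) {A : Mat l}
    (hA : ∀ i j, A i j = cartanOf D l i j) {L : List (Fin l × Mat l)} (hL : ChainOK A L) {V B : Mat l}
    {c : Fin l → ℤ} (hcyc : CycOK l (hd L) V B c) {m : ℕ} {R : Fin m → Fin l → ℤ} {prv dep : ℕ → ℕ}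
    (hR : RootOK D l (hd L) R prv dep) {N Phi K b P : ℕ} (hfN : fN c (q : ℤ) = N) (hqN : q.Coprime N)
    (hPN : (Phi : ℤ) ∣ N) (hb : b.Prime) (hb2 : ¬ b ^ 2 ∣ Phi)
    (hK : ∀ r : ℤ, r ∣ Phi → ∀ s, r ∣ Gq B (q : ℤ) (R s) → r ∣ K) (hP : Nat.card W * d' * K ∣ P ^ 30)
    (hbad : ∀ r : ℕ, r.Prime → r ∣ P → r = b ∨ ¬ r ∣ Phi) :
    HasT ↥(D.group F) N (red b Phi) := by
  have key : ∀ r : ℕ, r.Prime → r ∣ red b Phi → ¬ r ∣ Nat.card W * d' * K := by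
    intro r hr hrr h1
    rcases hbad r hr (hr.dvd_of_dvd_pow (h1.trans hP)) with h2 | h2
    · subst h2
      exact not_dvd_red hr.pos hb2 hrr
    · exact h2 (hrr.trans (red_dvd b Phi))
  refine hasT hp cs hl hq hB hd' hA hL hcyc hR hfN hqN
    ((red_dvd b Phi).trans (Int.natCast_dvd_natCast.1 hPN)) fun r hr hrr => ?_
  have h1 := key r hr hrr
  refine ⟨fun h2 => h1 ((h2.mul_right _).mul_right _), fun h2 => h1 ((h2.mul_left _).mul_right _), fun s hs => ?_⟩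
  have h2 := hK (r : ℤ) (Int.natCast_dvd_natCast.2 (hrr.trans (red_dvd b Phi))) s hs
  exact h1 ((Int.natCast_dvd_natCast.1 h2).mul_left _)

theorem coprime_of_eq {q N : ℕ} {a b : ℤ} (h : b * N = q * a + 1) : q.Coprime N := by
  rw [← Nat.isCoprime_iff_coprime]
  exact ⟨-a, b, by rw [h]; ring⟩

/-- Divisibility by a small number from residues. -/
theorem not_dvd_of_zmod {r : ℕ} {Phi : ℕ} {z : ℤ} (h : (Phi : ℤ) = z) (h1 : (z : ZMod r) ≠ 0) : ¬ r ∣ Phi := by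
  intro h2
  apply h1
  rw [← h, Int.cast_natCast, ZMod.natCast_eq_zero_iff]
  exact h2

theorem primeFactors_6 : Nat.primeFactors 6 = {2, 3} := by
  rw [show (6 : ℕ) = 2 * 3 by norm_num, Nat.primeFactors_mul (by norm_num) (by norm_num),
    Nat.Prime.primeFactors Nat.prime_two, Nat.Prime.primeFactors Nat.prime_three]
  rfl

theorem primeFactors_30 : Nat.primeFactors 30 = {2, 3, 5} := by
  rw [show (30 : ℕ) = 6 * 5 by norm_num, Nat.primeFactors_mul (by norm_num) (by norm_num), primeFactors_6,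
    Nat.Prime.primeFactors Nat.prime_five]
  rfl

theorem primeFactors_210 : Nat.primeFactors 210 = {2, 3, 5, 7} := by
  rw [show (210 : ℕ) = 30 * 7 by norm_num, Nat.primeFactors_mul (by norm_num) (by norm_num), primeFactors_30,
    Nat.Prime.primeFactors (by norm_num : Nat.Prime 7)]
  rfl

theorem hasT_G2_3 {F : Type u} [Field F] [Fintype F] {q N Phi : ℕ} (hq : Fintype.card F = q)
    (hN : (N : ℤ) = 1 + (q : ℤ) + (q : ℤ) ^ 2) (hPhi : (Phi : ℤ) = 1 + (q : ℤ) + (q : ℤ) ^ 2) :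
    HasT ↥(chevG2.group F) N (red 3 Phi) := by
  have hW : Nat.card CoxeterMatrix.G₂.Group = 12 := Cfsg.Agent.S1092.result (⟨2, CoxeterMatrix.G₂⟩, 12) (by simp)
  have : Finite CoxeterMatrix.G₂.Group := Nat.finite_of_card_ne_zero (by rw [hW]; norm_num)
  refine hasT_of (M := CoxeterMatrix.G₂) (by simp) CoxeterMatrix.G₂.toCoxeterSystem (by norm_num) hq invC_G2 (by norm_num)
    TG2_3.hA TG2_3.chainOK TG2_3.cycOK TG2_3.rootOK (K := 3) (P := 6) ?_ ?_ ?_ Nat.prime_three ?_ ?_ ?_ ?_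
  · rw [TG2_3.fN_eq, hN]
  · exact coprime_of_eq (a := 1 + (q : ℤ)) (b := 1) (by rw [hN]; ring)
  · exact ⟨1, by rw [hN, hPhi]; ring⟩
  · refine not_dvd_of_zmod hPhi ?_
    push_cast
    generalize (q : ZMod (3 ^ 2)) = x
    revert x
    decide +kernel
  · intro r hr s hs
    exact TG2_3.dvd_of_G (by rw [← hPhi]; exact hr) s hs
  · rw [hW]; norm_num
  · intro r hr hrP
    have hr1 : r ∈ Nat.primeFactors 6 := by rw [Nat.mem_primeFactors]; exact ⟨hr, hrP, by norm_num⟩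
    have hr2 : Nat.primeFactors 6 = {2, 3} := primeFactors_6
    rw [hr2] at hr1
    simp only [Finset.mem_insert, Finset.mem_singleton] at hr1
    rcases hr1 with rfl | rfl
    · refine Or.inr (not_dvd_of_zmod hPhi ?_)
      push_cast
      generalize (q : ZMod 2) = x
      revert x
      decide +kernel
    · exact Or.inl rfl

theorem hasT_G2_6 {F : Type u} [Field F] [Fintype F] {q N Phi : ℕ} (hq : Fintype.card F = q)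
    (hN : (N : ℤ) = 1 - (q : ℤ) + (q : ℤ) ^ 2) (hPhi : (Phi : ℤ) = 1 - (q : ℤ) + (q : ℤ) ^ 2) :
    HasT ↥(chevG2.group F) N (red 3 Phi) := by
  have hW : Nat.card CoxeterMatrix.G₂.Group = 12 := Cfsg.Agent.S1092.result (⟨2, CoxeterMatrix.G₂⟩, 12) (by simp)
  have : Finite CoxeterMatrix.G₂.Group := Nat.finite_of_card_ne_zero (by rw [hW]; norm_num)
  refine hasT_of (M := CoxeterMatrix.G₂) (by simp) CoxeterMatrix.G₂.toCoxeterSystem (by norm_num) hq invC_G2 (by norm_num)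
    TG2_6.hA TG2_6.chainOK TG2_6.cycOK TG2_6.rootOK (K := 3) (P := 6) ?_ ?_ ?_ Nat.prime_three ?_ ?_ ?_ ?_
  · rw [TG2_6.fN_eq, hN]
  · exact coprime_of_eq (a := -1 + (q : ℤ)) (b := 1) (by rw [hN]; ring)
  · exact ⟨1, by rw [hN, hPhi]; ring⟩
  · refine not_dvd_of_zmod hPhi ?_
    push_cast
    generalize (q : ZMod (3 ^ 2)) = x
    revert x
    decide +kernel
  · intro r hr s hs
    exact TG2_6.dvd_of_G (by rw [← hPhi]; exact hr) s hs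
  · rw [hW]; norm_num
  · intro r hr hrP
    have hr1 : r ∈ Nat.primeFactors 6 := by rw [Nat.mem_primeFactors]; exact ⟨hr, hrP, by norm_num⟩
    have hr2 : Nat.primeFactors 6 = {2, 3} := primeFactors_6
    rw [hr2] at hr1
    simp only [Finset.mem_insert, Finset.mem_singleton] at hr1
    rcases hr1 with rfl | rfl
    · refine Or.inr (not_dvd_of_zmod hPhi ?_)
      push_cast
      generalize (q : ZMod 2) = x
      revert x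
      decide +kernel
    · exact Or.inl rfl

theorem hasT_F4_8 {F : Type u} [Field F] [Fintype F] {q N Phi : ℕ} (hq : Fintype.card F = q)
    (hN : (N : ℤ) = 1 + (q : ℤ) ^ 4) (hPhi : (Phi : ℤ) = 1 + (q : ℤ) ^ 4) :
    HasT ↥(chevF4.group F) N (red 2 Phi) := by
  have hW : Nat.card CoxeterMatrix.F₄.Group = 1152 := Cfsg.Agent.S1092.result (⟨4, CoxeterMatrix.F₄⟩, 1152) (by simp)
  have : Finite CoxeterMatrix.F₄.Group := Nat.finite_of_card_ne_zero (by rw [hW]; norm_num)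
  refine hasT_of (M := CoxeterMatrix.F₄) (by simp) CoxeterMatrix.F₄.toCoxeterSystem (by norm_num) hq invC_F4 (by norm_num)
    TF4_8.hA TF4_8.chainOK TF4_8.cycOK TF4_8.rootOK (K := 2) (P := 6) ?_ ?_ ?_ Nat.prime_two ?_ ?_ ?_ ?_
  · rw [TF4_8.fN_eq, hN]
  · exact coprime_of_eq (a := (q : ℤ) ^ 3) (b := 1) (by rw [hN]; ring)
  · exact ⟨1, by rw [hN, hPhi]; ring⟩
  · refine not_dvd_of_zmod hPhi ?_
    push_cast
    generalize (q : ZMod (2 ^ 2)) = x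
    revert x
    decide +kernel
  · intro r hr s hs
    exact TF4_8.dvd_of_G (by rw [← hPhi]; exact hr) s hs
  · rw [hW]; norm_num
  · intro r hr hrP
    have hr1 : r ∈ Nat.primeFactors 6 := by rw [Nat.mem_primeFactors]; exact ⟨hr, hrP, by norm_num⟩
    have hr2 : Nat.primeFactors 6 = {2, 3} := primeFactors_6
    rw [hr2] at hr1
    simp only [Finset.mem_insert, Finset.mem_singleton] at hr1
    rcases hr1 with rfl | rfl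
    · exact Or.inl rfl
    · refine Or.inr (not_dvd_of_zmod hPhi ?_)
      push_cast
      generalize (q : ZMod 3) = x
      revert x
      decide +kernel

theorem hasT_F4_12 {F : Type u} [Field F] [Fintype F] {q N Phi : ℕ} (hq : Fintype.card F = q)
    (hN : (N : ℤ) = 1 - (q : ℤ) ^ 2 + (q : ℤ) ^ 4) (hPhi : (Phi : ℤ) = 1 - (q : ℤ) ^ 2 + (q : ℤ) ^ 4) :
    HasT ↥(chevF4.group F) N (red 2 Phi) := by
  have hW : Nat.card CoxeterMatrix.F₄.Group = 1152 := Cfsg.Agent.S1092.result (⟨4, CoxeterMatrix.F₄⟩, 1152) (by simp)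
  have : Finite CoxeterMatrix.F₄.Group := Nat.finite_of_card_ne_zero (by rw [hW]; norm_num)
  refine hasT_of (M := CoxeterMatrix.F₄) (by simp) CoxeterMatrix.F₄.toCoxeterSystem (by norm_num) hq invC_F4 (by norm_num)
    TF4_12.hA TF4_12.chainOK TF4_12.cycOK TF4_12.rootOK (K := 2) (P := 6) ?_ ?_ ?_ Nat.prime_two ?_ ?_ ?_ ?_
  · rw [TF4_12.fN_eq, hN]
  · exact coprime_of_eq (a := -(q : ℤ) + (q : ℤ) ^ 3) (b := 1) (by rw [hN]; ring)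
  · exact ⟨1, by rw [hN, hPhi]; ring⟩
  · refine not_dvd_of_zmod hPhi ?_
    push_cast
    generalize (q : ZMod (2 ^ 2)) = x
    revert x
    decide +kernel
  · intro r hr s hs
    exact TF4_12.dvd_of_G (by rw [← hPhi]; exact hr) s hs
  · rw [hW]; norm_num
  · intro r hr hrP
    have hr1 : r ∈ Nat.primeFactors 6 := by rw [Nat.mem_primeFactors]; exact ⟨hr, hrP, by norm_num⟩
    have hr2 : Nat.primeFactors 6 = {2, 3} := primeFactors_6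
    rw [hr2] at hr1
    simp only [Finset.mem_insert, Finset.mem_singleton] at hr1
    rcases hr1 with rfl | rfl
    · exact Or.inl rfl
    · refine Or.inr (not_dvd_of_zmod hPhi ?_)
      push_cast
      generalize (q : ZMod 3) = x
      revert x
      decide +kernel

theorem hasT_E6_9 {F : Type u} [Field F] [Fintype F] {q N Phi : ℕ} (hq : Fintype.card F = q)
    (hN : (N : ℤ) = 1 + (q : ℤ) ^ 3 + (q : ℤ) ^ 6) (hPhi : (Phi : ℤ) = 1 + (q : ℤ) ^ 3 + (q : ℤ) ^ 6) :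
    HasT ↥(chevE6.group F) N (red 3 Phi) := by
  have hW : Nat.card CoxeterMatrix.E₆.Group = 51840 := Cfsg.Agent.S1093.result (⟨6, CoxeterMatrix.E₆⟩, 51840) (by simp)
  have : Finite CoxeterMatrix.E₆.Group := Nat.finite_of_card_ne_zero (by rw [hW]; norm_num)
  refine hasT_of (M := CoxeterMatrix.E₆) (by simp) CoxeterMatrix.E₆.toCoxeterSystem (by norm_num) hq invC_E6 (by norm_num)
    TE6_9.hA TE6_9.chainOK TE6_9.cycOK TE6_9.rootOK (K := 3) (P := 30) ?_ ?_ ?_ Nat.prime_three ?_ ?_ ?_ ?_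
  · rw [TE6_9.fN_eq, hN]
  · exact coprime_of_eq (a := (q : ℤ) ^ 2 + (q : ℤ) ^ 5) (b := 1) (by rw [hN]; ring)
  · exact ⟨1, by rw [hN, hPhi]; ring⟩
  · refine not_dvd_of_zmod hPhi ?_
    push_cast
    generalize (q : ZMod (3 ^ 2)) = x
    revert x
    decide +kernel
  · intro r hr s hs
    exact TE6_9.dvd_of_G (by rw [← hPhi]; exact hr) s hs
  · rw [hW]; norm_num
  · intro r hr hrP
    have hr1 : r ∈ Nat.primeFactors 30 := by rw [Nat.mem_primeFactors]; exact ⟨hr, hrP, by norm_num⟩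
    have hr2 : Nat.primeFactors 30 = {2, 3, 5} := primeFactors_30
    rw [hr2] at hr1
    simp only [Finset.mem_insert, Finset.mem_singleton] at hr1
    rcases hr1 with rfl | rfl | rfl
    · refine Or.inr (not_dvd_of_zmod hPhi ?_)
      push_cast
      generalize (q : ZMod 2) = x
      revert x
      decide +kernel
    · exact Or.inl rfl
    · refine Or.inr (not_dvd_of_zmod hPhi ?_)
      push_cast
      generalize (q : ZMod 5) = x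
      revert x
      decide +kernel

theorem hasT_E6_12 {F : Type u} [Field F] [Fintype F] {q N Phi : ℕ} (hq : Fintype.card F = q)
    (hN : (N : ℤ) = 1 + (q : ℤ) - (q : ℤ) ^ 3 + (q : ℤ) ^ 5 + (q : ℤ) ^ 6) (hPhi : (Phi : ℤ) = 1 - (q : ℤ) ^ 2 + (q : ℤ) ^ 4) :
    HasT ↥(chevE6.group F) N (red 2 Phi) := by
  have hW : Nat.card CoxeterMatrix.E₆.Group = 51840 := Cfsg.Agent.S1093.result (⟨6, CoxeterMatrix.E₆⟩, 51840) (by simp)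
  have : Finite CoxeterMatrix.E₆.Group := Nat.finite_of_card_ne_zero (by rw [hW]; norm_num)
  refine hasT_of (M := CoxeterMatrix.E₆) (by simp) CoxeterMatrix.E₆.toCoxeterSystem (by norm_num) hq invC_E6 (by norm_num)
    TE6_12.hA TE6_12.chainOK TE6_12.cycOK TE6_12.rootOK (K := 2) (P := 30) ?_ ?_ ?_ Nat.prime_two ?_ ?_ ?_ ?_
  · rw [TE6_12.fN_eq, hN]
  · exact coprime_of_eq (a := 1 - (q : ℤ) ^ 2 + (q : ℤ) ^ 4 + (q : ℤ) ^ 5) (b := 1) (by rw [hN]; ring)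
  · exact ⟨1 + (q : ℤ) + (q : ℤ) ^ 2, by rw [hN, hPhi]; ring⟩
  · refine not_dvd_of_zmod hPhi ?_
    push_cast
    generalize (q : ZMod (2 ^ 2)) = x
    revert x
    decide +kernel
  · intro r hr s hs
    exact TE6_12.dvd_of_G (by rw [← hPhi]; exact hr) s hs
  · rw [hW]; norm_num
  · intro r hr hrP
    have hr1 : r ∈ Nat.primeFactors 30 := by rw [Nat.mem_primeFactors]; exact ⟨hr, hrP, by norm_num⟩
    have hr2 : Nat.primeFactors 30 = {2, 3, 5} := primeFactors_30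
    rw [hr2] at hr1
    simp only [Finset.mem_insert, Finset.mem_singleton] at hr1
    rcases hr1 with rfl | rfl | rfl
    · exact Or.inl rfl
    · refine Or.inr (not_dvd_of_zmod hPhi ?_)
      push_cast
      generalize (q : ZMod 3) = x
      revert x
      decide +kernel
    · refine Or.inr (not_dvd_of_zmod hPhi ?_)
      push_cast
      generalize (q : ZMod 5) = x
      revert x
      decide +kernel

theorem hasT_E7_7 {F : Type u} [Field F] [Fintype F] {q N Phi : ℕ} (hq : Fintype.card F = q)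
    (hN : (N : ℤ) = -1 + (q : ℤ) ^ 7) (hPhi : (Phi : ℤ) = 1 + (q : ℤ) + (q : ℤ) ^ 2 + (q : ℤ) ^ 3 + (q : ℤ) ^ 4 + (q : ℤ) ^ 5 + (q : ℤ) ^ 6) :
    HasT ↥(chevE7.group F) N (red 7 Phi) := by
  have hW : Nat.card CoxeterMatrix.E₇.Group = 2903040 := Cfsg.Agent.S1093.result (⟨7, CoxeterMatrix.E₇⟩, 2903040) (by simp)
  have : Finite CoxeterMatrix.E₇.Group := Nat.finite_of_card_ne_zero (by rw [hW]; norm_num)
  refine hasT_of (M := CoxeterMatrix.E₇) (by simp) CoxeterMatrix.E₇.toCoxeterSystem (by norm_num) hq invC_E7 (by norm_num)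
    TE7_7.hA TE7_7.chainOK TE7_7.cycOK TE7_7.rootOK (K := 14) (P := 210) ?_ ?_ ?_ (by norm_num) ?_ ?_ ?_ ?_
  · rw [TE7_7.fN_eq, hN]
  · exact coprime_of_eq (a := -(q : ℤ) ^ 6) (b := -1) (by rw [hN]; ring)
  · exact ⟨-1 + (q : ℤ), by rw [hN, hPhi]; ring⟩
  · refine not_dvd_of_zmod hPhi ?_
    push_cast
    generalize (q : ZMod (7 ^ 2)) = x
    revert x
    decide +kernel
  · intro r hr s hs
    exact TE7_7.dvd_of_G (by rw [← hPhi]; exact hr) s hs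
  · rw [hW]; norm_num
  · intro r hr hrP
    have hr1 : r ∈ Nat.primeFactors 210 := by rw [Nat.mem_primeFactors]; exact ⟨hr, hrP, by norm_num⟩
    have hr2 : Nat.primeFactors 210 = {2, 3, 5, 7} := primeFactors_210
    rw [hr2] at hr1
    simp only [Finset.mem_insert, Finset.mem_singleton] at hr1
    rcases hr1 with rfl | rfl | rfl | rfl
    · refine Or.inr (not_dvd_of_zmod hPhi ?_)
      push_cast
      generalize (q : ZMod 2) = x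
      revert x
      decide +kernel
    · refine Or.inr (not_dvd_of_zmod hPhi ?_)
      push_cast
      generalize (q : ZMod 3) = x
      revert x
      decide +kernel
    · refine Or.inr (not_dvd_of_zmod hPhi ?_)
      push_cast
      generalize (q : ZMod 5) = x
      revert x
      decide +kernel
    · exact Or.inl rfl

theorem hasT_E7_14 {F : Type u} [Field F] [Fintype F] {q N Phi : ℕ} (hq : Fintype.card F = q)
    (hN : (N : ℤ) = 1 + (q : ℤ) ^ 7) (hPhi : (Phi : ℤ) = 1 - (q : ℤ) + (q : ℤ) ^ 2 - (q : ℤ) ^ 3 + (q : ℤ) ^ 4 - (q : ℤ) ^ 5 + (q : ℤ) ^ 6) :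
    HasT ↥(chevE7.group F) N (red 7 Phi) := by
  have hW : Nat.card CoxeterMatrix.E₇.Group = 2903040 := Cfsg.Agent.S1093.result (⟨7, CoxeterMatrix.E₇⟩, 2903040) (by simp)
  have : Finite CoxeterMatrix.E₇.Group := Nat.finite_of_card_ne_zero (by rw [hW]; norm_num)
  refine hasT_of (M := CoxeterMatrix.E₇) (by simp) CoxeterMatrix.E₇.toCoxeterSystem (by norm_num) hq invC_E7 (by norm_num)
    TE7_14.hA TE7_14.chainOK TE7_14.cycOK TE7_14.rootOK (K := 14) (P := 210) ?_ ?_ ?_ (by norm_num) ?_ ?_ ?_ ?_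
  · rw [TE7_14.fN_eq, hN]
  · exact coprime_of_eq (a := (q : ℤ) ^ 6) (b := 1) (by rw [hN]; ring)
  · exact ⟨1 + (q : ℤ), by rw [hN, hPhi]; ring⟩
  · refine not_dvd_of_zmod hPhi ?_
    push_cast
    generalize (q : ZMod (7 ^ 2)) = x
    revert x
    decide +kernel
  · intro r hr s hs
    exact TE7_14.dvd_of_G (by rw [← hPhi]; exact hr) s hs
  · rw [hW]; norm_num
  · intro r hr hrP
    have hr1 : r ∈ Nat.primeFactors 210 := by rw [Nat.mem_primeFactors]; exact ⟨hr, hrP, by norm_num⟩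
    have hr2 : Nat.primeFactors 210 = {2, 3, 5, 7} := primeFactors_210
    rw [hr2] at hr1
    simp only [Finset.mem_insert, Finset.mem_singleton] at hr1
    rcases hr1 with rfl | rfl | rfl | rfl
    · refine Or.inr (not_dvd_of_zmod hPhi ?_)
      push_cast
      generalize (q : ZMod 2) = x
      revert x
      decide +kernel
    · refine Or.inr (not_dvd_of_zmod hPhi ?_)
      push_cast
      generalize (q : ZMod 3) = x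
      revert x
      decide +kernel
    · refine Or.inr (not_dvd_of_zmod hPhi ?_)
      push_cast
      generalize (q : ZMod 5) = x
      revert x
      decide +kernel
    · exact Or.inl rfl

theorem hasT_E8_24 {F : Type u} [Field F] [Fintype F] {q N Phi : ℕ} (hq : Fintype.card F = q)
    (hN : (N : ℤ) = 1 - (q : ℤ) ^ 4 + (q : ℤ) ^ 8) (hPhi : (Phi : ℤ) = 1 - (q : ℤ) ^ 4 + (q : ℤ) ^ 8) :
    HasT ↥(chevE8.group F) N (red 2 Phi) := by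
  have hW : Nat.card CoxeterMatrix.E₈.Group = 696729600 := Cfsg.Agent.S1093.result (⟨8, CoxeterMatrix.E₈⟩, 696729600) (by simp)
  have : Finite CoxeterMatrix.E₈.Group := Nat.finite_of_card_ne_zero (by rw [hW]; norm_num)
  refine hasT_of (M := CoxeterMatrix.E₈) (by simp) CoxeterMatrix.E₈.toCoxeterSystem (by norm_num) hq invC_E8 (by norm_num)
    TE8_24.hA TE8_24.chainOK TE8_24.cycOK TE8_24.rootOK (K := 6) (P := 210) ?_ ?_ ?_ Nat.prime_two ?_ ?_ ?_ ?_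
  · rw [TE8_24.fN_eq, hN]
  · exact coprime_of_eq (a := -(q : ℤ) ^ 3 + (q : ℤ) ^ 7) (b := 1) (by rw [hN]; ring)
  · exact ⟨1, by rw [hN, hPhi]; ring⟩
  · refine not_dvd_of_zmod hPhi ?_
    push_cast
    generalize (q : ZMod (2 ^ 2)) = x
    revert x
    decide +kernel
  · intro r hr s hs
    exact TE8_24.dvd_of_G (by rw [← hPhi]; exact hr) s hs
  · rw [hW]; norm_num
  · intro r hr hrP
    have hr1 : r ∈ Nat.primeFactors 210 := by rw [Nat.mem_primeFactors]; exact ⟨hr, hrP, by norm_num⟩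
    have hr2 : Nat.primeFactors 210 = {2, 3, 5, 7} := primeFactors_210
    rw [hr2] at hr1
    simp only [Finset.mem_insert, Finset.mem_singleton] at hr1
    rcases hr1 with rfl | rfl | rfl | rfl
    · exact Or.inl rfl
    · refine Or.inr (not_dvd_of_zmod hPhi ?_)
      push_cast
      generalize (q : ZMod 3) = x
      revert x
      decide +kernel
    · refine Or.inr (not_dvd_of_zmod hPhi ?_)
      push_cast
      generalize (q : ZMod 5) = x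
      revert x
      decide +kernel
    · refine Or.inr (not_dvd_of_zmod hPhi ?_)
      push_cast
      generalize (q : ZMod 7) = x
      revert x
      decide +kernel

theorem hasT_E8_30 {F : Type u} [Field F] [Fintype F] {q N Phi : ℕ} (hq : Fintype.card F = q)
    (hN : (N : ℤ) = 1 + (q : ℤ) - (q : ℤ) ^ 3 - (q : ℤ) ^ 4 - (q : ℤ) ^ 5 + (q : ℤ) ^ 7 + (q : ℤ) ^ 8) (hPhi : (Phi : ℤ) = 1 + (q : ℤ) - (q : ℤ) ^ 3 - (q : ℤ) ^ 4 - (q : ℤ) ^ 5 + (q : ℤ) ^ 7 + (q : ℤ) ^ 8) :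
    HasT ↥(chevE8.group F) N (red 2 Phi) := by
  have hW : Nat.card CoxeterMatrix.E₈.Group = 696729600 := Cfsg.Agent.S1093.result (⟨8, CoxeterMatrix.E₈⟩, 696729600) (by simp)
  have : Finite CoxeterMatrix.E₈.Group := Nat.finite_of_card_ne_zero (by rw [hW]; norm_num)
  refine hasT_of (M := CoxeterMatrix.E₈) (by simp) CoxeterMatrix.E₈.toCoxeterSystem (by norm_num) hq invC_E8 (by norm_num)
    TE8_30.hA TE8_30.chainOK TE8_30.cycOK TE8_30.rootOK (K := 1) (P := 210) ?_ ?_ ?_ Nat.prime_two ?_ ?_ ?_ ?_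
  · rw [TE8_30.fN_eq, hN]
  · exact coprime_of_eq (a := 1 - (q : ℤ) ^ 2 - (q : ℤ) ^ 3 - (q : ℤ) ^ 4 + (q : ℤ) ^ 6 + (q : ℤ) ^ 7) (b := 1) (by rw [hN]; ring)
  · exact ⟨1, by rw [hN, hPhi]; ring⟩
  · refine not_dvd_of_zmod hPhi ?_
    push_cast
    generalize (q : ZMod (2 ^ 2)) = x
    revert x
    decide +kernel
  · intro r hr s hs
    exact TE8_30.dvd_of_G (by rw [← hPhi]; exact hr) s hs
  · rw [hW]; norm_num
  · intro r hr hrP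
    have hr1 : r ∈ Nat.primeFactors 210 := by rw [Nat.mem_primeFactors]; exact ⟨hr, hrP, by norm_num⟩
    have hr2 : Nat.primeFactors 210 = {2, 3, 5, 7} := primeFactors_210
    rw [hr2] at hr1
    simp only [Finset.mem_insert, Finset.mem_singleton] at hr1
    rcases hr1 with rfl | rfl | rfl | rfl
    · exact Or.inl rfl
    · refine Or.inr (not_dvd_of_zmod hPhi ?_)
      push_cast
      generalize (q : ZMod 3) = x
      revert x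
      decide +kernel
    · refine Or.inr (not_dvd_of_zmod hPhi ?_)
      push_cast
      generalize (q : ZMod 5) = x
      revert x
      decide +kernel
    · refine Or.inr (not_dvd_of_zmod hPhi ?_)
      push_cast
      generalize (q : ZMod 7) = x
      revert x
      decide +kernel

end Torus

end Cfsg.Agent.H719
end
end
end
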