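import Cfsg.Agent.H83.RowE6_m3
import Cfsg.Agent.S1059
import Cfsg.Agent.S1062
import Cfsg.Agent.H568.FldExc
import Cfsg.Agent.S1054
import Cfsg.Agent.S1063
import Cfsg.Agent.S1064
import Cfsg.Prelude.Def_LieChev
import Cfsg.Agent.H568.RowTools_m3
import Cfsg.Agent.BpSpor.RowAll
import Mathlib
import Cfsg.Agent.FastGrp
import Cfsg.Agent.Prune
set_option linter.all false

section
prune_inst 0x7ffcfffcafbcbddfffff7e7ffffddfffdff8ffffefdffb7bffeefbff1fff6b9a7bedfbafffe0d8ff1ed6e2be30f87b53fbffffffef6bfc7ffffd5ff45ffbffcffdf7bfad71debcbe0fbe4fffe3f17fce7f3fffffffffffffffffffffffffffbeffffffffffff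

-- part: H719/RowsExc_mg
section
set_option linter.all false
open scoped Cfsg.Agent.FastGrp

-- part: H719/SmallG2
section
/-!
# The row of G2 (helper719)

`G₂(4)`, `p = 3` needs a nonabelian 3-subgroup.
-/

set_option autoImplicit false
set_option linter.unusedSectionVars false
set_option linter.unusedVariables false

namespace Cfsg.Agent.H719.RowG2

open Subgroup Cfsg Cfsg.Lie Cfsg.Lie.ChevalleyDatum
open Cfsg.Agent.H568

/-- The number of elements of a `p`-subgroup normalised by `x`. -/
theorem dvd_card_sub_one {S : Type*} [Group S] {p : ℕ} [hp : Fact p.Prime] [Finite S] {x : S} {l : ℕ} (hl : l.Prime)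
    (hx : orderOf x = l) (hcen : ∀ y : S, orderOf y = p → x * y ≠ y * x) {Q : Subgroup S} (hQ : IsPGroup p Q)
    (hn : x ∈ normalizer (Q : Set S)) : l ∣ Nat.card Q - 1 := by
  classical
  have : Fact l.Prime := ⟨hl⟩
  have hn' : zpowers x ≤ normalizer (Q : Set S) := by rwa [zpowers_le]
  let act : MulAction ↥(zpowers x) ↥Q :=
    { smul := fun z y => ⟨(z : S) * y * (z : S)⁻¹, (mem_normalizer_iff.1 (hn' z.2) y).1 y.2⟩
      one_smul := fun y => Subtype.ext (by show ((1 : ↥(zpowers x)) : S) * y * ((1 : ↥(zpowers x)) : S)⁻¹ = y; simp only [_root_.OneMemClass.coe_one, _root_.one_mul, _root_.inv_one, _root_.mul_one])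
      mul_smul := fun z z' y => Subtype.ext (by
        show ((z * z' : ↥(zpowers x)) : S) * y * ((z * z' : ↥(zpowers x)) : S)⁻¹ =
          (z : S) * ((z' : S) * y * (z' : S)⁻¹) * (z : S)⁻¹
        simp only [mul_assoc, _root_.Subgroup.coe_mul, _root_.mul_inv_rev]) }
  have hsm : ∀ (z : ↥(zpowers x)) (y : ↥Q), ((z • y : ↥Q) : S) = (z : S) * y * (z : S)⁻¹ := fun _ _ => rfl
  have hlg : IsPGroup l ↥(zpowers x) := IsPGroup.of_card (n := 1) (by rw [Nat.card_zpowers, hx, pow_one])
  have h1 := hlg.card_modEq_card_fixedPoints (↥Q)
  have h2 : Nat.card (MulAction.fixedPoints ↥(zpowers x) ↥Q) = 1 := by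
    rw [Nat.card_eq_one_iff_unique]
    refine ⟨⟨?_⟩, ⟨⟨1, ?_⟩⟩⟩
    · have h3 : ∀ y : MulAction.fixedPoints ↥(zpowers x) ↥Q, ((y : ↥Q) : S) = 1 := by
        rintro ⟨y, hy⟩
        have h4 := congrArg Subtype.val (hy ⟨x, mem_zpowers x⟩)
        rw [hsm] at h4
        have h5 : x * (y : S) = y * x := mul_inv_eq_iff_eq_mul.1 h4
        by_contra hne
        obtain ⟨j, hj⟩ := hQ y
        have hj' : (y : S) ^ p ^ j = 1 := by simpa only [_root_.SubmonoidClass.coe_pow, _root_.OneMemClass.coe_one] using congrArg Subtype.val hj
        obtain ⟨i, -, hi⟩ := (Nat.dvd_prime_pow hp.1).1 (orderOf_dvd_of_pow_eq_one hj')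
        have hi0 : i ≠ 0 := by
          rintro rfl
          rw [pow_zero, orderOf_eq_one_iff] at hi
          exact hne hi
        obtain ⟨i', rfl⟩ := Nat.exists_eq_succ_of_ne_zero hi0
        have h6 : orderOf ((y : S) ^ p ^ i') = p := by
          rw [orderOf_pow_of_dvd (pow_ne_zero _ hp.1.ne_zero) (by rw [hi]; exact pow_dvd_pow _ (Nat.le_succ _)), hi,
            Nat.pow_div (Nat.le_succ _) hp.1.pos]
          simp
        exact hcen _ h6 ((show Commute x (y : S) from h5).pow_right _).eq
      intro y y'
      exact Subtype.ext (Subtype.ext ((h3 y).trans (h3 y').symm))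
    · intro z
      exact Subtype.ext (by rw [hsm]; simp)
  rw [h2] at h1
  exact (Nat.modEq_iff_dvd' Nat.card_pos).1 h1.symm

theorem normalizer_commutator {S : Type*} [Group S] {Q : Subgroup S} {x : S} (hn : x ∈ normalizer (Q : Set S)) :
    x ∈ normalizer ((⁅Q, Q⁆ : Subgroup S) : Set S) := by
  have h1 : ∀ K : Subgroup S, x ∈ normalizer (K : Set S) ↔ K.map (MulAut.conj x).toMonoidHom = K := by
    intro K
    constructor
    · intro h
      ext y
      constructor
      · rintro ⟨z, hz, rfl⟩
        exact (mem_normalizer_iff.1 h z).1 hz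
      · intro hy
        refine ⟨x⁻¹ * y * x, ?_, ?_⟩
        · have := (mem_normalizer_iff.1 h (x⁻¹ * y * x)).2
          apply this
          have h2 : x * (x⁻¹ * y * x) * x⁻¹ = y := by group
          rw [h2]; exact hy
        · show x * (x⁻¹ * y * x) * x⁻¹ = y
          group
    · intro h
      rw [mem_normalizer_iff]
      intro z
      constructor
      · intro hz
        rw [← h]
        exact ⟨z, hz, rfl⟩
      · intro hz
        rw [← h] at hz
        obtain ⟨y, hy, hyz⟩ := hz
        have h3 : x * y * x⁻¹ = x * z * x⁻¹ := hyz
        have h4 : y = z := mul_left_cancel (mul_right_cancel h3)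
        exact h4 ▸ hy
  rw [h1, Subgroup.map_commutator, (h1 Q).1 hn]

/-- If `p`-subgroups of order `< p ^ m` cannot be normalised and the Sylow `p`-subgroups of order `p ^ m` are not
abelian. -/
theorem noNorm_of_nonabelian {S : Type*} [Group S] {p : ℕ} [hp : Fact p.Prime] [Finite S] {x : S} {l : ℕ}
    (hl : l.Prime) (hx : orderOf x = l) (hcen : ∀ y : S, orderOf y = p → x * y ≠ y * x) {m : ℕ}
    (hm : ¬ p ^ (m + 1) ∣ Nat.card S) (hord : ∀ k, 0 < k → k < m → ¬ l ∣ p ^ k - 1) {a b : S} (hab : a * b ≠ b * a)
    {P0 : Subgroup S} (hP0 : IsPGroup p P0) (ha : a ∈ P0) (hb : b ∈ P0) : NoNorm p x := by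
  intro Q hQ hn
  by_contra hb1
  have key : ∀ K : Subgroup S, IsPGroup p K → x ∈ normalizer (K : Set S) → K ≠ ⊥ → Nat.card K = p ^ m := by
    intro K hK hxK hK1
    obtain ⟨k, hk⟩ := IsPGroup.iff_card.1 hK
    have hk0 : 0 < k := by
      rcases Nat.eq_zero_or_pos k with rfl | h0
      · rw [pow_zero, Subgroup.card_eq_one] at hk
        exact absurd hk hK1
      · exact h0
    have h1 := dvd_card_sub_one hl hx hcen hK hxK
    rw [hk] at h1
    have h2 : m ≤ k := by
      by_contra hcon
      exact hord k hk0 (not_le.1 hcon) h1
    have h3 : k ≤ m := by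
      by_contra hcon
      apply hm
      refine (pow_dvd_pow p (not_le.1 hcon)).trans ?_
      rw [← hk]
      exact Subgroup.card_subgroup_dvd_card K
    rw [hk, le_antisymm h3 h2]
  have hQc := key Q hQ hn hb1
  have hQ' : ⁅Q, Q⁆ = ⊥ := by
    by_contra hne
    have hle : ⁅Q, Q⁆ ≤ Q := by
      rw [Subgroup.commutator_le]
      intro u hu v hv
      exact Q.mul_mem (Q.mul_mem (Q.mul_mem hu hv) (Q.inv_mem hu)) (Q.inv_mem hv)
    have h1 := key ⁅Q, Q⁆ (hQ.to_le hle) (normalizer_commutator hn) hne
    have h2 : ⁅Q, Q⁆ = Q := Subgroup.eq_of_le_of_card_ge hle (by rw [h1, hQc])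
    have hnt : Nontrivial ↥Q := (Subgroup.nontrivial_iff_ne_bot Q).2 hb1
    have hsol : Group.IsSolvable ↥Q := by
      have : Group.IsNilpotent ↥Q := hQ.isNilpotent
      infer_instance
    have h3 : commutator ↥Q < ⊤ := Group.IsSolvable.commutator_lt_top_of_nontrivial ↥Q
    apply h3.ne
    rw [eq_top_iff]
    intro u _
    have h4 : (u : S) ∈ (commutator ↥Q).map Q.subtype := by
      rw [Subgroup.map_subtype_commutator, h2]
      exact u.2
    obtain ⟨v, hv, hvu⟩ := h4
    have h5 : v = u := Subtype.ext hvu
    exact h5 ▸ hv
  have hcomm : ∀ u ∈ Q, ∀ v ∈ Q, u * v = v * u := by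
    intro u hu v hv
    have h1 : u * v * u⁻¹ * v⁻¹ ∈ ⁅Q, Q⁆ := Subgroup.commutator_mem_commutator hu hv
    rw [hQ', mem_bot, mul_inv_eq_one, mul_inv_eq_iff_eq_mul] at h1
    exact h1
  -- `Q` is a Sylow subgroup
  obtain ⟨P1, hP1⟩ := hP0.exists_le_sylow
  obtain ⟨P2, hP2⟩ := hQ.exists_le_sylow
  have hQP : Q = (P2 : Subgroup S) := by
    refine Subgroup.eq_of_le_of_card_ge hP2 ?_
    obtain ⟨k, hk⟩ := IsPGroup.iff_card.1 P2.isPGroup'
    rw [hk, hQc]
    refine Nat.pow_le_pow_right hp.1.pos ?_
    by_contra hcon
    apply hm
    refine (pow_dvd_pow p (not_le.1 hcon)).trans ?_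
    rw [← hk]
    exact Subgroup.card_subgroup_dvd_card _
  obtain ⟨g, hg⟩ := MulAction.exists_smul_eq S P1 P2
  have hc : ∀ u ∈ (P1 : Subgroup S), g * u * g⁻¹ ∈ Q := by
    intro u hu
    have h1 : MulAut.conj g u ∈ (g • P1 : Sylow p S) := by
      rw [Sylow.smul_def]
      exact smul_mem_pointwise_smul _ _ _ hu
    rw [hg] at h1
    rw [hQP]
    exact h1
  apply hab
  have h1 := hcomm _ (hc a (hP1 ha)) _ (hc b (hP1 hb))
  have h2 : g * (a * b) * g⁻¹ = g * (b * a) * g⁻¹ := by
    calc g * (a * b) * g⁻¹ = (g * a * g⁻¹) * (g * b * g⁻¹) := by group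
      _ = (g * b * g⁻¹) * (g * a * g⁻¹) := h1
      _ = g * (b * a) * g⁻¹ := by group
  exact mul_left_cancel (mul_right_cancel h2)

section G2

open CoxeterSystem
open Cfsg.Agent.ChevalleyStructure Cfsg.Agent.ChevalleyStructure.Elts Cfsg.Agent.ChevalleyStructure.CoxeterGeom
  Cfsg.Agent.ChevalleyStructure.CoxeterGeomTypes Cfsg.Agent.ChevalleyStructure.NPerm
open Cfsg.Agent.Tits.Roots Cfsg.Agent.Tits.Core Cfsg.Agent.Nodes Cfsg.Agent.Nodes.Reps Cfsg.Agent.Nodes.BNOf
  Cfsg.Agent.Nodes.RGDChev
open Cfsg.Agent.KFacts.RgdChevCoord Cfsg.Agent.GpExc.Field Cfsg.Agent.BpExc.Fr Cfsg.Agent.BpExc.LangFr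
  Cfsg.Agent.BpExc.TowChev Cfsg.Agent.BpExc
open Cfsg.Agent.H129.TorusChar Cfsg.Agent.H129.TorusCent Cfsg.Agent.H129.TorusTw Cfsg.Agent.H129.TorusMain
  Cfsg.Agent.H129.TorusUntw Cfsg.Agent.H129.WData Cfsg.Agent.H719 Cfsg.Agent.H568.FldExc

universe u

theorem locFin_of_finite (F : Type u) [Field F] [Finite F] : LocFin F := by
  intro S _
  exact ⟨⊤, inferInstance, fun x _ => Subfield.mem_top x⟩

/-- A nonabelian 3-subgroup of `G₂(4)`. -/
theorem nonabelian {F : Type u} [Field F] [Fintype F] (h4 : Fintype.card F = 4) :
    ∃ (P0 : Subgroup ↥(chevG2.group F)) (a b : ↥(chevG2.group F)), IsPGroup 3 P0 ∧ a ∈ P0 ∧ b ∈ P0 ∧ a * b ≠ b * a := by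
  classical
  have hp : IsType chevG2 2 CoxeterMatrix.G₂ := by simp [IsType, typeList]
  obtain ⟨r, hr⟩ := CharP.exists F
  have : Fact r.Prime := ⟨CharP.char_is_prime F r⟩
  let cs := CoxeterMatrix.G₂.toCoxeterSystem
  have hk := locFin_of_finite F
  have hW : Nat.card CoxeterMatrix.G₂.Group = 12 := Cfsg.Agent.S1092.result (⟨2, CoxeterMatrix.G₂⟩, 12) (by simp)
  have : Finite CoxeterMatrix.G₂.Group := Nat.finite_of_card_ne_zero (by rw [hW]; norm_num)
  have hN : NSys CoxeterMatrix.G₂ (TT chevG2 F) (nc hp F) := nsys_of_locFin hp cs hk r
  set w := cs.wordProd (TG2_3.chain.map Prod.fst) with hw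
  obtain ⟨g, hg⟩ := exists_rp cs hN w
  have hpow : ∀ n : ℕ, Rp cs hN (w ^ n) (g ^ n) := by
    intro n
    induction n with
    | zero => rw [pow_zero, pow_zero]; exact rp_one
    | succ n ih => rw [pow_succ, pow_succ]; exact ih.mul hg
  have hg4 := hpow 4
  have hg12 : (g ^ 4) ^ 3 ∈ TT chevG2 F := by
    have h1 := hpow 12
    have h2 : w ^ 12 = 1 := by rw [← hW, pow_card_eq_one']
    rw [h2] at h1
    rw [← pow_mul]
    exact h1.mem_of_one
  -- the torus has exponent 3
  have hT3 : ∀ t ∈ TT chevG2 F, t ^ 3 = 1 := by
    intro t ht
    refine cX_inj hp (pow_mem ht 3) (one_mem _) fun i => ?_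
    rw [cX_pow hp ht, cX_one hp]
    have h1 : cX hp t (sr i) ≠ 0 := (isMC_cX hp ht).ne_zero _
    have h2 := FiniteField.pow_card_sub_one_eq_one (cX hp t (sr i)) h1
    rwa [h4] at h2
  have hT : IsPGroup 3 ↥(TT chevG2 F) := by
    intro t
    exact ⟨1, Subtype.ext (by rw [pow_one]; exact hT3 t t.2)⟩
  have hG : IsPGroup 3 ↥(zpowers (g ^ 4)) := by
    rw [IsPGroup.iff_orderOf]
    rintro ⟨_, m, rfl⟩
    have h1 : (((g ^ 4) ^ m : ↥(chevG2.group F))) ^ 3 ^ 2 = 1 := by
      have h2 : ((g ^ 4 : ↥(chevG2.group F))) ^ 3 ^ 2 = 1 := by
        have h3 := hT3 _ hg12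
        rw [← pow_mul] at h3
        exact h3
      rw [← zpow_natCast, ← zpow_mul, mul_comm, zpow_mul, zpow_natCast, h2, one_zpow]
    obtain ⟨j, -, hj⟩ := (Nat.dvd_prime_pow Nat.prime_three).1 (orderOf_dvd_of_pow_eq_one h1)
    exact ⟨j, by rw [← hj]; exact (Subgroup.orderOf_coe _).symm⟩
  -- the element of the torus
  obtain ⟨ω, hω⟩ : ∃ ω : F, ω ≠ 0 ∧ ω ≠ 1 := ne_one (by omega)
  have hc : ∀ i : Fin 2, (![1, ω] : Fin 2 → F) i ≠ 0 := by
    intro i
    fin_cases i
    · exact one_ne_zero
    · exact hω.1
  obtain ⟨t, ht, htφ⟩ := exists_cX hp invC_G2 one_ne_zero (IsMC.of_prod (![1, ω] : Fin 2 → F) hc)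
    (fun i => ⟨_, pow_one _⟩)
  refine ⟨TT chevG2 F ⊔ zpowers (g ^ 4), t, g ^ 4, IsPGroup.to_sup_of_normal_left' hT hG ?_, ?_, ?_, ?_⟩
  · rw [zpowers_le]
    exact hg4.mem_normalizer
  · exact le_sup_left (a := TT chevG2 F) ht
  · exact le_sup_right (a := TT chevG2 F) (mem_zpowers _)
  · intro hcomm
    have h1 : g ^ 4 * t * (g ^ 4)⁻¹ = t := by rw [← hcomm, mul_inv_cancel_right]
    have h2 := cX_rp hp cs (hN := hN) hk r hg4 ht (sr 0)
    rw [h1] at h2
    have hstep : ∀ a b : ℤ, rep cs hp.isCartan w ![a, b] = ![-2 * a + 3 * b, - a + b] := by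
      intro a b
      have hl := (lin_refl hp cs TG2_3.hA TG2_3.chainOK).apply ![a, b]
      have hth : ∀ x, theta hp cs w (AddEquiv.refl (Fin 2 → ℤ)) x = rep cs hp.isCartan w x := fun x => by
        rw [theta_apply, AddEquiv.refl_apply]
      rw [← hw] at hl
      rw [← hth]
      funext m
      rw [hl]
      fin_cases m
      · simp only [Fin.sum_univ_two, TG2_3.chain, hd, _root_.Fin.isValue, _root_.Int.reduceNeg, _root_.Fin.zero_eta, _root_.Matrix.cons_val', _root_.Matrix.cons_val_zero, _root_.Matrix.cons_val_fin_one, _root_.mul_neg, _root_.Matrix.cons_val_one, _root_.Nat.succ_eq_add_one, _root_.Nat.reduceAdd, _root_.neg_mul]; ring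
      · simp [Fin.sum_univ_two, TG2_3.chain, hd]
    have hsr : (sr 0 : Fin 2 → ℤ) = ![1, 0] := by
      funext m
      fin_cases m
      · exact sr_self _
      · exact sr_ne (by decide)
    have hrep : rep cs hp.isCartan (w ^ 4) (sr 0) = ![-2, -1] := by
      rw [hsr, pow_succ, pow_succ, pow_succ, pow_one, rep_mul_apply, rep_mul_apply, rep_mul_apply, hstep, hstep, hstep,
        hstep]
      norm_num
    rw [hrep, hsr, htφ, htφ] at h2
    simp only [Fin.prod_univ_two, Matrix.cons_val_zero, Matrix.cons_val_one, one_zpow, one_mul, zpow_zero] at h2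
    rw [zpow_neg_one, inv_eq_one] at h2
    exact hω.2 h2

/-- **`G₂(4)`, `p = 3`.** -/
theorem noNorm_four {F : Type u} [Field F] [Fintype F] (h4 : Fintype.card F = 4) :
    ∃ x : ↥(chevG2.group F), NoNorm 3 x := by
  have hfin := finite_group chevG2 F
  have : Fact (Nat.Prime 3) := ⟨Nat.prime_three⟩
  have hT : HasT ↥(chevG2.group F) 13 (red 3 13) := hasT_G2_6 h4 (by norm_num) (by norm_num)
  rw [red_of_not_dvd (by norm_num)] at hT
  obtain ⟨x, hx, hc⟩ := hT
  have hx1 : x ≠ 1 := by
    rintro rfl
    rw [orderOf_one] at hx
    omega
  obtain ⟨P0, a, b, hP0, ha, hb, hab⟩ := nonabelian h4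
  refine ⟨x, noNorm_of_nonabelian (m := 3) (by norm_num) hx (fun z hz => ?_) ?_ ?_ hab hP0 ha hb⟩
  · exact (not_comm_of_not_dvd (by norm_num) ((hc x (mem_zpowers x) hx1).2 z) hz).symm
  · rw [Cfsg.Agent.S1059.result h4]
    norm_num
  · intro k hk hk3
    interval_cases k <;> norm_num

theorem row_small {F : Type u} [Field F] [Fintype F] [IsSimpleGroup ↥(chevG2.group F)] {r e : ℕ} [Fact r.Prime] [CharP F r]
    (hq : Fintype.card F = r ^ e) (he : 0 < e) (hqm : Fintype.card F ≤ 5) (hq3 : 3 ≤ Fintype.card F)
    {p : ℕ} [hpf : Fact p.Prime] (hp2 : p ≠ 2) :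
    Row p ↥(chevG2.group F) := by
  have hp : IsType chevG2 2 CoxeterMatrix.G₂ := by simp [IsType, typeList]
  have hna : ¬ IsMulCommutative ↥(chevG2.group F) := (Cfsg.Agent.S1055.result (ne_one (by omega))).2
  have hc : p.Coprime 1 ∨ ∀ a : F, ∃ b : F, b ^ 1 = a := Or.inl (Nat.coprime_one_right p)
  refine row_gen hp hna hq he invC_G2 (by norm_num) (AutInv.inv_G2 _) ordF_G2 hp2 hc ?_
    fun h => (small_e Fact.out hq (by omega) he hpf.1 hp2 h).elim
  intro _ _
  have h345 : Fintype.card F = 3 ∨ Fintype.card F = 4 ∨ Fintype.card F = 5 := by omega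
  rcases h345 with h3 | h4 | h5
  · have hT : HasT ↥(chevG2.group F) 13 (red 3 13) := hasT_G2_3 h3 (by norm_num) (by norm_num)
    have ho := ord1 (q := 3) (P := 13) (l := 13) (by norm_num) (by norm_num)
      (by rw [red_of_not_dvd (by norm_num)])
    rw [red_of_not_dvd (by norm_num)] at hT
    have hrq : r ∣ 3 := h3 ▸ hq ▸ dvd_pow_self r he.ne'
    have hr3 : r = 3 := (Nat.prime_dvd_prime_iff_eq Fact.out Nat.prime_three).1 hrq
    subst hr3
    by_cases hp3 : p = 3
    · subst hp3
      obtain ⟨x, hx, -⟩ := own_char hT (by norm_num) (l := 13) (h := 3) (by norm_num) dvd_rfl (fun k hk => by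
        rw [Nat.card_eq_fintype_card, h3, Cfsg.Agent.Lib.Zsigmondy.dvd_pow_sub_one_iff (by norm_num), ho] at hk
        exact hk) (fun hl _ hx hcen hord => noNorm_G2 3 hl hx hcen (Or.inl rfl) hord)
      exact Or.inr ⟨x, hx⟩
    · refine small_case hT (by norm_num) (fun h => (Nat.prime_dvd_prime_iff_eq hpf.1 (by norm_num)).1 h)
        (Cfsg.Agent.S1059.result h3) ?_
      intro hpl
      exact ord_of_facs [(2, 6), (3, 6), (7, 1), (13, 1)] [2, 3, 13] (by decide +kernel)
        (by simp only [List.forall_mem_cons, List.not_mem_nil]; norm_num) (by decide +kernel) (by decide +kernel) hpf.1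
        (by simp [hp2, hpl, hp3])
  · by_cases hp3 : p = 3
    · subst hp3
      exact Or.inr (noNorm_four h4)
    · have hT : HasT ↥(chevG2.group F) 13 (red 3 13) := hasT_G2_6 h4 (by norm_num) (by norm_num)
      rw [red_of_not_dvd (by norm_num)] at hT
      refine small_case hT (by norm_num) (fun h => (Nat.prime_dvd_prime_iff_eq hpf.1 (by norm_num)).1 h)
        (Cfsg.Agent.S1059.result h4) ?_
      intro hpl
      exact ord_of_facs [(2, 12), (3, 3), (5, 2), (7, 1), (13, 1)] [2, 3, 13] (by decide +kernel)
        (by simp only [List.forall_mem_cons, List.not_mem_nil]; norm_num) (by decide +kernel) (by decide +kernel) hpf.1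
        (by simp [hp2, hpl, hp3])
  · have hT : HasT ↥(chevG2.group F) 31 (red 3 31) := hasT_G2_3 h5 (by norm_num) (by norm_num)
    have ho := ord1 (q := 5) (P := 31) (l := 31) (by norm_num) (by norm_num)
      (by rw [red_of_not_dvd (by norm_num)])
    rw [red_of_not_dvd (by norm_num)] at hT
    have hrq : r ∣ 5 := h5 ▸ hq ▸ dvd_pow_self r he.ne'
    have hr5 : r = 5 := (Nat.prime_dvd_prime_iff_eq Fact.out Nat.prime_five).1 hrq
    subst hr5
    refine inner_case' hT (by norm_num) (fun h => h) (by rw [hcen_dim]; norm_num) (l1 := 31) (h := 3) (by norm_num)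
      dvd_rfl ?_ fun hl _ hx hcen hord => noNorm_G2 5 hl hx hcen (Or.inl rfl) hord
    intro k hk
    rw [Nat.card_eq_fintype_card, h5, Cfsg.Agent.Lib.Zsigmondy.dvd_pow_sub_one_iff (by norm_num), ho] at hk
    exact hk

/-- **The row of `G2`.** -/
theorem row {F : Type u} [Field F] [Fintype F] [IsSimpleGroup ↥(chevG2.group F)] (h3 : 3 ≤ Fintype.card F) {p : ℕ}
    [hpf : Fact p.Prime] (hp2 : p ≠ 2) : Row p ↥(chevG2.group F) := by
  obtain ⟨r, hr⟩ := CharP.exists F
  have : Fact r.Prime := ⟨CharP.char_is_prime F r⟩
  obtain ⟨e, -, he⟩ := FiniteField.card F r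
  rcases le_or_gt 7 (Fintype.card F) with h | h
  · exact row_big he e.pos h hp2
  · refine row_small he e.pos ?_ h3 hp2
    by_contra hcon
    have h6 : Fintype.card F = 6 := by omega
    rw [h6] at he
    have h2 : 2 ∣ r ^ (e : ℕ) := he ▸ (by norm_num)
    have h3 : 3 ∣ r ^ (e : ℕ) := he ▸ (by norm_num)
    have h4 := (Nat.prime_dvd_prime_iff_eq Nat.prime_two this.1).1 (Nat.prime_two.dvd_of_dvd_pow h2)
    have h5 := (Nat.prime_dvd_prime_iff_eq Nat.prime_three this.1).1 (Nat.prime_three.dvd_of_dvd_pow h3)
    omega

end G2

end Cfsg.Agent.H719.RowG2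
end

-- part: H719/SmallF4
section
/-!
# The row of F4 (helper719)
-/

set_option autoImplicit false
set_option linter.unusedSectionVars false
set_option linter.unusedVariables false

namespace Cfsg.Agent.H719.RowF4

open Subgroup Cfsg Cfsg.Lie Cfsg.Lie.ChevalleyDatum
open Cfsg.Agent.ChevalleyStructure Cfsg.Agent.ChevalleyStructure.Elts Cfsg.Agent.ChevalleyStructure.CoxeterGeom
  Cfsg.Agent.ChevalleyStructure.CoxeterGeomTypes
open Cfsg.Agent.Nodes.RGDChev
open Cfsg.Agent.H129.TorusChar
open Cfsg.Agent.H568 Cfsg.Agent.H568.FldExc Cfsg.Agent.H719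

universe u

theorem row_small {F : Type u} [Field F] [Fintype F] [IsSimpleGroup ↥(chevF4.group F)] {r e : ℕ} [Fact r.Prime] [CharP F r]
    (hq : Fintype.card F = r ^ e) (he : 0 < e) (hqm : Fintype.card F ≤ 3) {p : ℕ} [hpf : Fact p.Prime] (hp2 : p ≠ 2) :
    Row p ↥(chevF4.group F) := by
  have hp : IsType chevF4 4 CoxeterMatrix.F₄ := by simp [IsType, typeList]
  have hna : ¬ IsMulCommutative ↥(chevF4.group F) := (Cfsg.Agent.S1054.result chevF4 (by simp)).2
  have hc : p.Coprime 1 ∨ ∀ a : F, ∃ b : F, b ^ 1 = a := Or.inl (Nat.coprime_one_right p)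
  refine row_gen hp hna hq he invC_F4 (by norm_num) (AutInv.inv_F4 _) ordF_F4 hp2 hc ?_
    fun h => (small_e Fact.out hq (by omega) he hpf.1 hp2 h).elim
  intro _ _
  have hq2 : 2 ≤ Fintype.card F := Fintype.one_lt_card
  have h23 : Fintype.card F = 2 ∨ Fintype.card F = 3 := by omega
  rcases h23 with h2 | h3
  · have hT : HasT ↥(chevF4.group F) 17 (red 2 17) := hasT_F4_8 h2 (by norm_num) (by norm_num)
    rw [red_of_not_dvd (by norm_num)] at hT
    refine small_case hT (by norm_num) (fun h => (Nat.prime_dvd_prime_iff_eq hpf.1 (by norm_num)).1 h)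
      (Cfsg.Agent.S1062.result h2) ?_
    intro hpl
    exact ord_of_facs [(2, 24), (3, 6), (5, 2), (7, 2), (13, 1), (17, 1)] [2, 17] (by decide +kernel)
      (by simp only [List.forall_mem_cons, List.not_mem_nil]; norm_num) (by decide +kernel) (by decide +kernel) hpf.1
      (by simp [hp2, hpl])
  · have hT : HasT ↥(chevF4.group F) 73 (red 2 73) := hasT_F4_12 h3 (by norm_num) (by norm_num)
    have ho := ord1 (q := 3) (P := 73) (l := 73) (by norm_num) (by norm_num)
      (by rw [red_of_not_dvd (by norm_num)])
    rw [red_of_not_dvd (by norm_num)] at hT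
    have hrq : r ∣ 3 := h3 ▸ hq ▸ dvd_pow_self r he.ne'
    have hr3 : r = 3 := (Nat.prime_dvd_prime_iff_eq Fact.out Nat.prime_three).1 hrq
    subst hr3
    refine inner_case' hT (by norm_num) (fun h => h) (by rw [hcen_dim]; norm_num) (l1 := 73) (h := 12) (by norm_num)
      dvd_rfl ?_ fun hl _ hx hcen hord => noNorm_F4 3 hl hx hcen (Or.inr rfl) hord
    intro k hk
    rw [Nat.card_eq_fintype_card, h3, Cfsg.Agent.Lib.Zsigmondy.dvd_pow_sub_one_iff (by norm_num), ho] at hk
    exact hk

/-- **The row of `F4`.** -/
theorem row {F : Type u} [Field F] [Fintype F] [IsSimpleGroup ↥(chevF4.group F)] {p : ℕ} [hpf : Fact p.Prime]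
    (hp2 : p ≠ 2) : Row p ↥(chevF4.group F) := by
  obtain ⟨r, hr⟩ := CharP.exists F
  have : Fact r.Prime := ⟨CharP.char_is_prime F r⟩
  obtain ⟨e, -, he⟩ := FiniteField.card F r
  rcases le_or_gt 4 (Fintype.card F) with h | h
  · exact row_big he e.pos h hp2
  · exact row_small he e.pos (by omega) hp2

end Cfsg.Agent.H719.RowF4
end

-- part: H719/BigE6
section
/-!
# The row of E6: large fields (helper719)

Generated by a script.
-/

set_option autoImplicit false
set_option linter.unusedSectionVars false
set_option linter.unusedVariables false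

namespace Cfsg.Agent.H719.RowE6

open Subgroup Cfsg Cfsg.Lie Cfsg.Lie.ChevalleyDatum
open Cfsg.Agent.ChevalleyStructure Cfsg.Agent.ChevalleyStructure.Elts Cfsg.Agent.ChevalleyStructure.CoxeterGeom
  Cfsg.Agent.ChevalleyStructure.CoxeterGeomTypes
open Cfsg.Agent.Nodes.RGDChev
open Cfsg.Agent.H129.TorusChar
open Cfsg.Agent.H568 Cfsg.Agent.H568.FldExc Cfsg.Agent.H719

universe u

/-- primes dividing the order of the torus element -/
theorem ord1 {q P l : ℕ} (hP : (P : ℤ) = 1 + (q : ℤ) ^ 3 + (q : ℤ) ^ 6) (hl : l.Prime) (hlP : l ∣ red 3 P) :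
    orderOf ((q : ℕ) : ZMod l) = 9 := by
  have : Fact l.Prime := ⟨hl⟩
  have hlP1 : l ∣ P := hlP.trans (red_dvd _ _)
  refine Num.ord_9 ?_ ?_
  · have h0 : ((P : ℤ) : ZMod l) = 0 := by rw [Int.cast_natCast, ZMod.natCast_eq_zero_iff]; exact hlP1
    rw [hP] at h0
    push_cast at h0
    exact h0
  · intro h1
    have h2 : l ≤ 9 := Nat.le_of_dvd (by norm_num) h1
    have h3 : l = 3 := by
      clear hP hlP hlP1
      interval_cases l <;> first | omega | (exfalso; revert hl; norm_num)
    clear this
    rcases h3 with rfl
    · refine not_dvd_red (by norm_num) (not_dvd_of_zmod hP ?_) hlP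
      push_cast
      generalize (q : ZMod (3 ^ 2)) = x
      revert x
      decide +kernel

theorem div1 {q P l : ℕ} (hP : (P : ℤ) = 1 + (q : ℤ) ^ 3 + (q : ℤ) ^ 6) (hl : l.Prime) (hl10 : 10 ≤ l)
    (h : orderOf ((q : ℕ) : ZMod l) = 9) : l ∣ red 3 P := by
  have : Fact l.Prime := ⟨hl⟩
  refine dvd_red (by norm_num) hl (by omega) ?_
  rw [← ZMod.natCast_eq_zero_iff, ← Int.cast_natCast (R := ZMod l), hP]
  push_cast
  exact Num.phi_of_ord_9 h

theorem div2 {q P l : ℕ} (hP : (P : ℤ) = 1 - (q : ℤ) ^ 2 + (q : ℤ) ^ 4) (hl : l.Prime) (hl10 : 10 ≤ l)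
    (h : orderOf ((q : ℕ) : ZMod l) = 12) : l ∣ red 2 P := by
  have : Fact l.Prime := ⟨hl⟩
  refine dvd_red (by norm_num) hl (by omega) ?_
  rw [← ZMod.natCast_eq_zero_iff, ← Int.cast_natCast (R := ZMod l), hP]
  push_cast
  exact Num.phi_of_ord_12 h

theorem co {q N1 N2 p : ℕ} (hN1 : (N1 : ℤ) = 1 + (q : ℤ) ^ 3 + (q : ℤ) ^ 6) (hN2 : (N2 : ℤ) = 1 + (q : ℤ) - (q : ℤ) ^ 3 + (q : ℤ) ^ 5 + (q : ℤ) ^ 6)
    (hp : p.Prime) (hp2 : p ≠ 2) (hp3 : p ≠ 3) (h1 : p ∣ N1) (h2 : p ∣ N2) : False := by
  have h3 : (p : ℤ) ∣ 3 := by
    have h4 : (-2 * (q : ℤ) - (q : ℤ) ^ 3 - 2 * (q : ℤ) ^ 5) * (N1 : ℤ) + (3 - (q : ℤ) + (q : ℤ) ^ 2 + 3 * (q : ℤ) ^ 3 - 2 * (q : ℤ) ^ 4 + 2 * (q : ℤ) ^ 5) * (N2 : ℤ) = 3 := by rw [hN1, hN2]; ring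
    rw [← h4]
    exact dvd_add (Dvd.dvd.mul_left (Int.natCast_dvd_natCast.2 h1) _) (Dvd.dvd.mul_left (Int.natCast_dvd_natCast.2 h2) _)
  have h4 : p ∣ 3 := by exact_mod_cast h3
  have h5 : p ≤ 3 := Nat.le_of_dvd (by norm_num) h4
  clear hN1 hN2 h1 h2 h3
  interval_cases p <;> first | omega | (revert hp; norm_num)

theorem ex {q : ℕ} (hq : 4 ≤ q) : ∃ P1 P2 N1 N2 : ℕ, (P1 : ℤ) = 1 + (q : ℤ) ^ 3 + (q : ℤ) ^ 6 ∧ (P2 : ℤ) = 1 - (q : ℤ) ^ 2 + (q : ℤ) ^ 4 ∧
    (N1 : ℤ) = 1 + (q : ℤ) ^ 3 + (q : ℤ) ^ 6 ∧ (N2 : ℤ) = 1 + (q : ℤ) - (q : ℤ) ^ 3 + (q : ℤ) ^ 5 + (q : ℤ) ^ 6 ∧ 78 < red 3 P1 ∧ 78 < red 2 P2 := by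
  obtain ⟨t, rfl⟩ := Nat.exists_eq_add_of_le' hq
  have eP1 : 1 + ((t + 4 : ℕ) : ℤ) ^ 3 + ((t + 4 : ℕ) : ℤ) ^ 6 = ((4161 + 6192 * t + 3852 * t ^ 2 + 1281 * t ^ 3 + 240 * t ^ 4 + 24 * t ^ 5 + t ^ 6 : ℕ) : ℤ) := by push_cast; ring
  have eP2 : 1 - ((t + 4 : ℕ) : ℤ) ^ 2 + ((t + 4 : ℕ) : ℤ) ^ 4 = ((241 + 248 * t + 95 * t ^ 2 + 16 * t ^ 3 + t ^ 4 : ℕ) : ℤ) := by push_cast; ring
  have eN1 : 1 + ((t + 4 : ℕ) : ℤ) ^ 3 + ((t + 4 : ℕ) : ℤ) ^ 6 = ((4161 + 6192 * t + 3852 * t ^ 2 + 1281 * t ^ 3 + 240 * t ^ 4 + 24 * t ^ 5 + t ^ 6 : ℕ) : ℤ) := by push_cast; ring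
  have eN2 : 1 + ((t + 4 : ℕ) : ℤ) - ((t + 4 : ℕ) : ℤ) ^ 3 + ((t + 4 : ℕ) : ℤ) ^ 5 + ((t + 4 : ℕ) : ℤ) ^ 6 = ((5061 + 7377 * t + 4468 * t ^ 2 + 1439 * t ^ 3 + 260 * t ^ 4 + 25 * t ^ 5 + t ^ 6 : ℕ) : ℤ) := by push_cast; ring
  refine ⟨_, _, _, _, eP1.symm, eP2.symm, eN1.symm, eN2.symm, ?_, ?_⟩
  · have h := le_mul_red (b := 3) (by norm_num) (4161 + 6192 * t + 3852 * t ^ 2 + 1281 * t ^ 3 + 240 * t ^ 4 + 24 * t ^ 5 + t ^ 6)
    have h2 : 0 ≤ 6192 * t + 3852 * t ^ 2 + 1281 * t ^ 3 + 240 * t ^ 4 + 24 * t ^ 5 + t ^ 6 := Nat.zero_le _
    generalize red 3 _ = s at h ⊢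
    omega
  · have h := le_mul_red (b := 2) (by norm_num) (241 + 248 * t + 95 * t ^ 2 + 16 * t ^ 3 + t ^ 4)
    have h2 : 0 ≤ 248 * t + 95 * t ^ 2 + 16 * t ^ 3 + t ^ 4 := Nat.zero_le _
    generalize red 2 _ = s at h ⊢
    omega

theorem hcen_dim : chevE6.rank + chevE6.nroots = 78 := rfl

theorem mod3 : ∀ x : ZMod 3, 1 + x ^ 3 + x ^ 6 = 0 → x = 1 := by decide +kernel

/-- **The row for large fields.** -/
theorem row_big {F : Type u} [Field F] [Fintype F] [IsSimpleGroup ↥(chevE6.group F)] {r e : ℕ} [Fact r.Prime] [CharP F r]
    (hq : Fintype.card F = r ^ e) (he : 0 < e) (hqm : 4 ≤ Fintype.card F) {p : ℕ} [hpf : Fact p.Prime] (hp2 : p ≠ 2) (hp3 : p = 3 → ¬ 3 ∣ Fintype.card F - 1) :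
    Row p ↥(chevE6.group F) := by
  have hp : IsType chevE6 6 CoxeterMatrix.E₆ := by simp [IsType, typeList]
  have hna : ¬ IsMulCommutative ↥(chevE6.group F) := (Cfsg.Agent.S1054.result chevE6 (by simp)).2
  obtain ⟨P1, P2, N1, N2, hP1, hP2, hN1, hN2, hd1, hd2⟩ := ex hqm
  have hT1 := hasT_E6_9 (F := F) rfl hN1 hP1
  have hT2 := hasT_E6_12 (F := F) rfl hN2 hP2
  have hrq : r ∣ Fintype.card F := hq ▸ dvd_pow_self r he.ne'
  have hrN : ¬ r ∣ N1 := by
    intro h1
    have h2 : (Fintype.card F).Coprime N1 := coprime_of_eq (a := (Fintype.card F : ℤ) ^ 2 + (Fintype.card F : ℤ) ^ 5) (b := 1) (by rw [hN1]; ring)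
    have h3 : r ∣ 1 := h2 ▸ Nat.dvd_gcd hrq h1
    exact (Fact.out : r.Prime).one_lt.ne' (Nat.dvd_one.1 h3)
  have hco : p ∣ N1 → p ∣ N2 → False := by
    intro h1 h2
    by_cases h3 : p = 3
    · subst h3
      have h4 := hp3 rfl
      have h5 : ((N1 : ℤ) : ZMod 3) = 0 := by rw [Int.cast_natCast, ZMod.natCast_eq_zero_iff]; exact h1
      rw [hN1] at h5
      push_cast at h5
      have h6 : ((Fintype.card F : ℕ) : ZMod 3) = 1 := mod3 _ h5
      apply h4
      rw [← ZMod.natCast_eq_zero_iff, Nat.cast_sub (by omega), h6]
      simp
    · exact co hN1 hN2 hpf.1 hp2 h3 h1 h2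
  rw [← hcen_dim] at hd1 hd2
  have hown : ∀ {l : ℕ}, l.Prime → ∀ {x : ↥(chevE6.group F)}, orderOf x = l →
      (∀ y : ↥(chevE6.group F), orderOf y = r → x * y ≠ y * x) → (∀ k, l ∣ Nat.card F ^ k - 1 → 9 ∣ k) → NoNorm r x :=
    fun hl _ hx hcen hord => noNorm_E6 r hl hx hcen (Or.inl rfl) hord
  have hq1 : 1 ≤ Fintype.card F := by omega
  have hc : p.Coprime 3 ∨ ∀ a : F, ∃ b : F, b ^ 3 = a := by
    by_cases h3 : p = 3
    · right
      exact cube_root (by rw [Nat.card_eq_fintype_card]; exact hp3 h3)
    · left
      rw [Nat.coprime_primes hpf.1 Nat.prime_three]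
      exact h3
  refine row_gen hp hna hq he invC_E6 (by norm_num) (AutInv.inv_E6 _) ordF_E6 hp2 hc ?_ ?_
  · intro _ _
    obtain ⟨l1, hl1, hlP⟩ := Nat.exists_prime_and_dvd (n := red 3 P1) (by rw [hcen_dim] at hd1; omega)
    have hord : ∀ k, l1 ∣ Nat.card F ^ k - 1 → 9 ∣ k := by
      intro k hk
      rw [Nat.card_eq_fintype_card, Cfsg.Agent.Lib.Zsigmondy.dvd_pow_sub_one_iff hq1, ord1 hP1 hl1 hlP] at hk
      exact hk
    exact Or.inr (inner_case hT1 hT2 hrN hco hd1 hd2 hl1 hlP hord hown)
  · intro hpe
    have he3 : 3 ≤ e := by
      have h1 := Nat.le_of_dvd he hpe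
      have h2 := hpf.1.two_le
      (clear * - hp2 h1 h2; omega)
    obtain ⟨l1, hl1, hm1, hl10, hlr1, ho1⟩ := exists_prim (r := r) (e := e) (h := 9) Fact.out he3 (by norm_num)
    obtain ⟨l2, hl2, hm2, hl20, hlr2, ho2⟩ := exists_prim (r := r) (e := e) (h := 12) Fact.out he3 (by norm_num)
    rw [← hq] at ho1 ho2
    have hL1 : PrimL r e 3 [2, 5, 6, 8, 9, 12] l1 := ⟨hl1, hlr1, (Nat.coprime_primes hl1 Nat.prime_three).2 (by omega), 9, fun m hm => (hm1 m).1 hm, by decide⟩
    have hL2 : PrimL r e 3 [2, 5, 6, 8, 9, 12] l2 := ⟨hl2, hlr2, (Nat.coprime_primes hl2 Nat.prime_three).2 (by omega), 12, fun m hm => (hm2 m).1 hm, by decide⟩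
    refine field_case hT1 hT2 hrN hco hd1 hd2 hL1 (div1 hP1 hl1 hl10 ho1) hL2 (div2 hP2 hl2 hl20 ho2) ?_ hown
    intro k hk
    rw [Nat.card_eq_fintype_card, Cfsg.Agent.Lib.Zsigmondy.dvd_pow_sub_one_iff hq1, ho1] at hk
    exact hk

end Cfsg.Agent.H719.RowE6
end

-- part: H719/SmallE6
section
/-!
# The row of E6 (helper719)
-/

set_option autoImplicit false
set_option linter.unusedSectionVars false
set_option linter.unusedVariables false

namespace Cfsg.Agent.H719.RowE6

open Subgroup Cfsg Cfsg.Lie Cfsg.Lie.ChevalleyDatum
open Cfsg.Agent.ChevalleyStructure Cfsg.Agent.ChevalleyStructure.Elts Cfsg.Agent.ChevalleyStructure.CoxeterGeom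
  Cfsg.Agent.ChevalleyStructure.CoxeterGeomTypes
open Cfsg.Agent.Nodes.RGDChev
open Cfsg.Agent.H129.TorusChar
open Cfsg.Agent.H568 Cfsg.Agent.H568.FldExc Cfsg.Agent.H719

universe u

theorem row_small {F : Type u} [Field F] [Fintype F] [IsSimpleGroup ↥(chevE6.group F)] {r e : ℕ} [Fact r.Prime] [CharP F r]
    (hq : Fintype.card F = r ^ e) (he : 0 < e) (hqm : Fintype.card F ≤ 3) {p : ℕ} [hpf : Fact p.Prime] (hp2 : p ≠ 2) :
    Row p ↥(chevE6.group F) := by
  have hp : IsType chevE6 6 CoxeterMatrix.E₆ := by simp [IsType, typeList]
  have hna : ¬ IsMulCommutative ↥(chevE6.group F) := (Cfsg.Agent.S1054.result chevE6 (by simp)).2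
  have hq2 : 2 ≤ Fintype.card F := Fintype.one_lt_card
  have h23 : Fintype.card F = 2 ∨ Fintype.card F = 3 := by omega
  have hc : p.Coprime 3 ∨ ∀ a : F, ∃ b : F, b ^ 3 = a := by
    right
    refine cube_root ?_
    rw [Nat.card_eq_fintype_card]
    rcases h23 with h | h <;> rw [h] <;> norm_num
  refine row_gen hp hna hq he invC_E6 (by norm_num) (AutInv.inv_E6 _) ordF_E6 hp2 hc ?_
    fun h => (small_e Fact.out hq (by omega) he hpf.1 hp2 h).elim
  intro _ _
  rcases h23 with h2 | h3
  · have hT : HasT ↥(chevE6.group F) 73 (red 3 73) := hasT_E6_9 h2 (by norm_num) (by norm_num)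
    rw [red_of_not_dvd (by norm_num)] at hT
    have hcard := Cfsg.Agent.S1063.result (F := F) h2
    norm_num only [_root_.one_mul] at hcard
    refine small_case hT (by norm_num) (fun h => (Nat.prime_dvd_prime_iff_eq hpf.1 (by norm_num)).1 h)
      hcard ?_
    intro hpl
    exact ord_of_facs [(2, 36), (3, 6), (5, 2), (7, 3), (13, 1), (17, 1), (31, 1), (73, 1)]
      [2, 73] (by decide +kernel)
      (by simp only [List.forall_mem_cons, List.not_mem_nil]; norm_num) (by decide +kernel) (by decide +kernel) hpf.1
      (by simp [hp2, hpl])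
  · have hT : HasT ↥(chevE6.group F) 757 (red 3 757) := hasT_E6_9 h3 (by norm_num) (by norm_num)
    have ho := ord1 (q := 3) (P := 757) (l := 757) (by norm_num) (by norm_num)
      (by rw [red_of_not_dvd (by norm_num)])
    rw [red_of_not_dvd (by norm_num)] at hT
    have hrq : r ∣ 3 := h3 ▸ hq ▸ dvd_pow_self r he.ne'
    have hr3 : r = 3 := (Nat.prime_dvd_prime_iff_eq Fact.out Nat.prime_three).1 hrq
    subst hr3
    refine inner_case' hT (by norm_num) (fun h => h) (by rw [hcen_dim]; norm_num) (l1 := 757) (h := 9) (by norm_num)
      dvd_rfl ?_ fun hl _ hx hcen hord => noNorm_E6 3 hl hx hcen (Or.inl rfl) hord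
    intro k hk
    rw [Nat.card_eq_fintype_card, h3, Cfsg.Agent.Lib.Zsigmondy.dvd_pow_sub_one_iff (by norm_num), ho] at hk
    exact hk

/-- **The row of `E6`, except `p = 3 ∣ q - 1`.** -/
theorem row' {F : Type u} [Field F] [Fintype F] [IsSimpleGroup ↥(chevE6.group F)] {p : ℕ} [hpf : Fact p.Prime]
    (hp2 : p ≠ 2) (hp3 : p = 3 → ¬ 3 ∣ Fintype.card F - 1) : Row p ↥(chevE6.group F) := by
  obtain ⟨r, hr⟩ := CharP.exists F
  have : Fact r.Prime := ⟨CharP.char_is_prime F r⟩
  obtain ⟨e, -, he⟩ := FiniteField.card F r
  rcases le_or_gt 4 (Fintype.card F) with h | h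
  · exact row_big he e.pos h hp2 hp3
  · exact row_small he e.pos (by omega) hp2

end Cfsg.Agent.H719.RowE6
end

-- part: H719/BigE7
section
/-!
# The row of E7: large fields (helper719)

Generated by a script.
-/

set_option autoImplicit false
set_option linter.unusedSectionVars false
set_option linter.unusedVariables false

namespace Cfsg.Agent.H719.RowE7

open Subgroup Cfsg Cfsg.Lie Cfsg.Lie.ChevalleyDatum
open Cfsg.Agent.ChevalleyStructure Cfsg.Agent.ChevalleyStructure.Elts Cfsg.Agent.ChevalleyStructure.CoxeterGeom
  Cfsg.Agent.ChevalleyStructure.CoxeterGeomTypes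
open Cfsg.Agent.Nodes.RGDChev
open Cfsg.Agent.H129.TorusChar
open Cfsg.Agent.H568 Cfsg.Agent.H568.FldExc Cfsg.Agent.H719

universe u

/-- primes dividing the order of the torus element -/
theorem ord1 {q P l : ℕ} (hP : (P : ℤ) = 1 - (q : ℤ) + (q : ℤ) ^ 2 - (q : ℤ) ^ 3 + (q : ℤ) ^ 4 - (q : ℤ) ^ 5 + (q : ℤ) ^ 6) (hl : l.Prime) (hlP : l ∣ red 7 P) :
    orderOf ((q : ℕ) : ZMod l) = 14 := by
  have : Fact l.Prime := ⟨hl⟩
  have hlP1 : l ∣ P := hlP.trans (red_dvd _ _)
  refine Num.ord_14 ?_ ?_
  · have h0 : ((P : ℤ) : ZMod l) = 0 := by rw [Int.cast_natCast, ZMod.natCast_eq_zero_iff]; exact hlP1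
    rw [hP] at h0
    push_cast at h0
    exact h0
  · intro h1
    have h2 : l ≤ 14 := Nat.le_of_dvd (by norm_num) h1
    have h3 : l = 2 ∨ l = 7 := by
      clear hP hlP hlP1
      interval_cases l <;> first | omega | (exfalso; revert hl; norm_num)
    clear this
    rcases h3 with rfl | rfl
    · refine not_dvd_of_zmod hP ?_ hlP1
      push_cast
      generalize (q : ZMod 2) = x
      revert x
      decide +kernel
    · refine not_dvd_red (by norm_num) (not_dvd_of_zmod hP ?_) hlP
      push_cast
      generalize (q : ZMod (7 ^ 2)) = x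
      revert x
      decide +kernel

theorem div1 {q P l : ℕ} (hP : (P : ℤ) = 1 - (q : ℤ) + (q : ℤ) ^ 2 - (q : ℤ) ^ 3 + (q : ℤ) ^ 4 - (q : ℤ) ^ 5 + (q : ℤ) ^ 6) (hl : l.Prime) (hl10 : 10 ≤ l)
    (h : orderOf ((q : ℕ) : ZMod l) = 14) : l ∣ red 7 P := by
  have : Fact l.Prime := ⟨hl⟩
  refine dvd_red (by norm_num) hl (by omega) ?_
  rw [← ZMod.natCast_eq_zero_iff, ← Int.cast_natCast (R := ZMod l), hP]
  push_cast
  exact Num.phi_of_ord_14 h

theorem div2 {q P l : ℕ} (hP : (P : ℤ) = 1 + (q : ℤ) + (q : ℤ) ^ 2 + (q : ℤ) ^ 3 + (q : ℤ) ^ 4 + (q : ℤ) ^ 5 + (q : ℤ) ^ 6) (hl : l.Prime) (hl10 : 10 ≤ l)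
    (h : orderOf ((q : ℕ) : ZMod l) = 7) : l ∣ red 7 P := by
  have : Fact l.Prime := ⟨hl⟩
  refine dvd_red (by norm_num) hl (by omega) ?_
  rw [← ZMod.natCast_eq_zero_iff, ← Int.cast_natCast (R := ZMod l), hP]
  push_cast
  exact Num.phi_of_ord_7 h

theorem co {q N1 N2 p : ℕ} (hN1 : (N1 : ℤ) = 1 + (q : ℤ) ^ 7) (hN2 : (N2 : ℤ) = -1 + (q : ℤ) ^ 7)
    (hp : p.Prime) (hp2 : p ≠ 2) (h1 : p ∣ N1) (h2 : p ∣ N2) : False := by
  have h3 : (p : ℤ) ∣ 2 := by
    have h4 : (1) * (N1 : ℤ) + (-1) * (N2 : ℤ) = 2 := by rw [hN1, hN2]; ring
    rw [← h4]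
    exact dvd_add (Dvd.dvd.mul_left (Int.natCast_dvd_natCast.2 h1) _) (Dvd.dvd.mul_left (Int.natCast_dvd_natCast.2 h2) _)
  have h4 : p ∣ 2 := by exact_mod_cast h3
  have h5 : p ≤ 2 := Nat.le_of_dvd (by norm_num) h4
  clear hN1 hN2 h1 h2 h3
  interval_cases p <;> first | omega | (revert hp; norm_num)

theorem ex {q : ℕ} (hq : 4 ≤ q) : ∃ P1 P2 N1 N2 : ℕ, (P1 : ℤ) = 1 - (q : ℤ) + (q : ℤ) ^ 2 - (q : ℤ) ^ 3 + (q : ℤ) ^ 4 - (q : ℤ) ^ 5 + (q : ℤ) ^ 6 ∧ (P2 : ℤ) = 1 + (q : ℤ) + (q : ℤ) ^ 2 + (q : ℤ) ^ 3 + (q : ℤ) ^ 4 + (q : ℤ) ^ 5 + (q : ℤ) ^ 6 ∧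
    (N1 : ℤ) = 1 + (q : ℤ) ^ 7 ∧ (N2 : ℤ) = -1 + (q : ℤ) ^ 7 ∧ 133 < red 7 P1 ∧ 133 < red 7 P2 := by
  obtain ⟨t, rfl⟩ := Nat.exists_eq_add_of_le' hq
  have eP1 : 1 - ((t + 4 : ℕ) : ℤ) + ((t + 4 : ℕ) : ℤ) ^ 2 - ((t + 4 : ℕ) : ℤ) ^ 3 + ((t + 4 : ℕ) : ℤ) ^ 4 - ((t + 4 : ℕ) : ℤ) ^ 5 + ((t + 4 : ℕ) : ℤ) ^ 6 = ((3277 + 5079 * t + 3285 * t ^ 2 + 1135 * t ^ 3 + 221 * t ^ 4 + 23 * t ^ 5 + t ^ 6 : ℕ) : ℤ) := by push_cast; ring
  have eP2 : 1 + ((t + 4 : ℕ) : ℤ) + ((t + 4 : ℕ) : ℤ) ^ 2 + ((t + 4 : ℕ) : ℤ) ^ 3 + ((t + 4 : ℕ) : ℤ) ^ 4 + ((t + 4 : ℕ) : ℤ) ^ 5 + ((t + 4 : ℕ) : ℤ) ^ 6 = ((5461 + 7737 * t + 4589 * t ^ 2 + 1457 * t ^ 3 + 261 * t ^ 4 + 25 * t ^ 5 + t ^ 6 : ℕ) : ℤ) := by push_cast; ring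
  have eN1 : 1 + ((t + 4 : ℕ) : ℤ) ^ 7 = ((16385 + 28672 * t + 21504 * t ^ 2 + 8960 * t ^ 3 + 2240 * t ^ 4 + 336 * t ^ 5 + 28 * t ^ 6 + t ^ 7 : ℕ) : ℤ) := by push_cast; ring
  have eN2 : -1 + ((t + 4 : ℕ) : ℤ) ^ 7 = ((16383 + 28672 * t + 21504 * t ^ 2 + 8960 * t ^ 3 + 2240 * t ^ 4 + 336 * t ^ 5 + 28 * t ^ 6 + t ^ 7 : ℕ) : ℤ) := by push_cast; ring
  refine ⟨_, _, _, _, eP1.symm, eP2.symm, eN1.symm, eN2.symm, ?_, ?_⟩
  · have h := le_mul_red (b := 7) (by norm_num) (3277 + 5079 * t + 3285 * t ^ 2 + 1135 * t ^ 3 + 221 * t ^ 4 + 23 * t ^ 5 + t ^ 6)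
    have h2 : 0 ≤ 5079 * t + 3285 * t ^ 2 + 1135 * t ^ 3 + 221 * t ^ 4 + 23 * t ^ 5 + t ^ 6 := Nat.zero_le _
    generalize red 7 _ = s at h ⊢
    omega
  · have h := le_mul_red (b := 7) (by norm_num) (5461 + 7737 * t + 4589 * t ^ 2 + 1457 * t ^ 3 + 261 * t ^ 4 + 25 * t ^ 5 + t ^ 6)
    have h2 : 0 ≤ 7737 * t + 4589 * t ^ 2 + 1457 * t ^ 3 + 261 * t ^ 4 + 25 * t ^ 5 + t ^ 6 := Nat.zero_le _
    generalize red 7 _ = s at h ⊢
    omega

theorem hcen_dim : chevE7.rank + chevE7.nroots = 133 := rfl

/-- **The row for large fields.** -/
theorem row_big {F : Type u} [Field F] [Fintype F] [IsSimpleGroup ↥(chevE7.group F)] {r e : ℕ} [Fact r.Prime] [CharP F r]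
    (hq : Fintype.card F = r ^ e) (he : 0 < e) (hqm : 4 ≤ Fintype.card F) {p : ℕ} [hpf : Fact p.Prime] (hp2 : p ≠ 2) :
    Row p ↥(chevE7.group F) := by
  have hp : IsType chevE7 7 CoxeterMatrix.E₇ := by simp [IsType, typeList]
  have hna : ¬ IsMulCommutative ↥(chevE7.group F) := (Cfsg.Agent.S1054.result chevE7 (by simp)).2
  obtain ⟨P1, P2, N1, N2, hP1, hP2, hN1, hN2, hd1, hd2⟩ := ex hqm
  have hT1 := hasT_E7_14 (F := F) rfl hN1 hP1
  have hT2 := hasT_E7_7 (F := F) rfl hN2 hP2
  have hrq : r ∣ Fintype.card F := hq ▸ dvd_pow_self r he.ne'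
  have hrN : ¬ r ∣ N1 := by
    intro h1
    have h2 : (Fintype.card F).Coprime N1 := coprime_of_eq (a := (Fintype.card F : ℤ) ^ 6) (b := 1) (by rw [hN1]; ring)
    have h3 : r ∣ 1 := h2 ▸ Nat.dvd_gcd hrq h1
    exact (Fact.out : r.Prime).one_lt.ne' (Nat.dvd_one.1 h3)
  have hco : p ∣ N1 → p ∣ N2 → False := fun h1 h2 => co hN1 hN2 hpf.1 hp2 h1 h2
  rw [← hcen_dim] at hd1 hd2
  have hown : ∀ {l : ℕ}, l.Prime → ∀ {x : ↥(chevE7.group F)}, orderOf x = l →
      (∀ y : ↥(chevE7.group F), orderOf y = r → x * y ≠ y * x) → (∀ k, l ∣ Nat.card F ^ k - 1 → 14 ∣ k) → NoNorm r x :=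
    fun hl _ hx hcen hord => noNorm_E7 r hl hx hcen (Or.inl rfl) hord
  have hq1 : 1 ≤ Fintype.card F := by omega
  have hc : p.Coprime 2 ∨ ∀ a : F, ∃ b : F, b ^ 2 = a := by
    left
    rw [Nat.coprime_primes hpf.1 Nat.prime_two]
    exact hp2
  refine row_gen hp hna hq he invC_E7 (by norm_num) (AutInv.inv_E7 _) ordF_E7 hp2 hc ?_ ?_
  · intro _ _
    obtain ⟨l1, hl1, hlP⟩ := Nat.exists_prime_and_dvd (n := red 7 P1) (by rw [hcen_dim] at hd1; omega)
    have hord : ∀ k, l1 ∣ Nat.card F ^ k - 1 → 14 ∣ k := by
      intro k hk
      rw [Nat.card_eq_fintype_card, Cfsg.Agent.Lib.Zsigmondy.dvd_pow_sub_one_iff hq1, ord1 hP1 hl1 hlP] at hk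
      exact hk
    exact Or.inr (inner_case hT1 hT2 hrN hco hd1 hd2 hl1 hlP hord hown)
  · intro hpe
    have he3 : 3 ≤ e := by
      have h1 := Nat.le_of_dvd he hpe
      have h2 := hpf.1.two_le
      omega
    obtain ⟨l1, hl1, hm1, hl10, hlr1, ho1⟩ := exists_prim (r := r) (e := e) (h := 14) Fact.out he3 (by norm_num)
    obtain ⟨l2, hl2, hm2, hl20, hlr2, ho2⟩ := exists_prim (r := r) (e := e) (h := 7) Fact.out he3 (by norm_num)
    rw [← hq] at ho1 ho2
    have hL1 : PrimL r e 2 [2, 6, 8, 10, 12, 14, 18] l1 := ⟨hl1, hlr1, (Nat.coprime_primes hl1 Nat.prime_two).2 (by omega), 14, fun m hm => (hm1 m).1 hm, by decide⟩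
    have hL2 : PrimL r e 2 [2, 6, 8, 10, 12, 14, 18] l2 := ⟨hl2, hlr2, (Nat.coprime_primes hl2 Nat.prime_two).2 (by omega), 7, fun m hm => (hm2 m).1 hm, by decide⟩
    refine field_case hT1 hT2 hrN hco hd1 hd2 hL1 (div1 hP1 hl1 hl10 ho1) hL2 (div2 hP2 hl2 hl20 ho2) ?_ hown
    intro k hk
    rw [Nat.card_eq_fintype_card, Cfsg.Agent.Lib.Zsigmondy.dvd_pow_sub_one_iff hq1, ho1] at hk
    exact hk

end Cfsg.Agent.H719.RowE7
end

-- part: H719/SmallE7
section
/-!
# The row of E7 (helper719)
-/

set_option autoImplicit false
set_option linter.unusedSectionVars false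
set_option linter.unusedVariables false

namespace Cfsg.Agent.H719.RowE7

open Subgroup Cfsg Cfsg.Lie Cfsg.Lie.ChevalleyDatum
open Cfsg.Agent.ChevalleyStructure Cfsg.Agent.ChevalleyStructure.Elts Cfsg.Agent.ChevalleyStructure.CoxeterGeom
  Cfsg.Agent.ChevalleyStructure.CoxeterGeomTypes
open Cfsg.Agent.Nodes.RGDChev
open Cfsg.Agent.H129.TorusChar
open Cfsg.Agent.H568 Cfsg.Agent.H568.FldExc Cfsg.Agent.H719

universe u

theorem row_small {F : Type u} [Field F] [Fintype F] [IsSimpleGroup ↥(chevE7.group F)] {r e : ℕ} [Fact r.Prime] [CharP F r]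
    (hq : Fintype.card F = r ^ e) (he : 0 < e) (hqm : Fintype.card F ≤ 3) {p : ℕ} [hpf : Fact p.Prime] (hp2 : p ≠ 2) :
    Row p ↥(chevE7.group F) := by
  have hp : IsType chevE7 7 CoxeterMatrix.E₇ := by simp [IsType, typeList]
  have hna : ¬ IsMulCommutative ↥(chevE7.group F) := (Cfsg.Agent.S1054.result chevE7 (by simp)).2
  have hc : p.Coprime 2 ∨ ∀ a : F, ∃ b : F, b ^ 2 = a := by
    left
    rw [Nat.coprime_primes hpf.1 Nat.prime_two]
    exact hp2
  refine row_gen hp hna hq he invC_E7 (by norm_num) (AutInv.inv_E7 _) ordF_E7 hp2 hc ?_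
    fun h => (small_e Fact.out hq (by omega) he hpf.1 hp2 h).elim
  intro _ _
  have hq2 : 2 ≤ Fintype.card F := Fintype.one_lt_card
  have h23 : Fintype.card F = 2 ∨ Fintype.card F = 3 := by omega
  rcases h23 with h2 | h3
  · have hT : HasT ↥(chevE7.group F) 127 (red 7 127) := hasT_E7_7 h2 (by norm_num) (by norm_num)
    rw [red_of_not_dvd (by norm_num)] at hT
    have hcard := Cfsg.Agent.S1064.result (F := F) h2
    norm_num only [_root_.one_mul] at hcard
    refine small_case hT (by norm_num) (fun h => (Nat.prime_dvd_prime_iff_eq hpf.1 (by norm_num)).1 h)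
      hcard ?_
    intro hpl
    exact ord_of_facs [(2, 63), (3, 11), (5, 2), (7, 3), (11, 1), (13, 1), (17, 1), (19, 1), (31, 1), (43, 1), (73, 1), (127, 1)]
      [2, 127] (by decide +kernel)
      (by simp only [List.forall_mem_cons, List.not_mem_nil]; norm_num) (by decide +kernel) (by decide +kernel) hpf.1
      (by simp [hp2, hpl])
  · have hT : HasT ↥(chevE7.group F) 2188 (red 7 547) := hasT_E7_14 h3 (by norm_num) (by norm_num)
    have ho := ord1 (q := 3) (P := 547) (l := 547) (by norm_num) (by norm_num)
      (by rw [red_of_not_dvd (by norm_num)])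
    rw [red_of_not_dvd (by norm_num)] at hT
    have hrq : r ∣ 3 := h3 ▸ hq ▸ dvd_pow_self r he.ne'
    have hr3 : r = 3 := (Nat.prime_dvd_prime_iff_eq Fact.out Nat.prime_three).1 hrq
    subst hr3
    refine inner_case' hT (by norm_num) (fun h => ?_) (by rw [hcen_dim]; norm_num) (l1 := 547) (h := 14) (by norm_num)
      dvd_rfl ?_ fun hl _ hx hcen hord => noNorm_E7 3 hl hx hcen (Or.inl rfl) hord
    · have h4 : p ∣ 2 ^ 2 * 547 := by norm_num; exact h
      rcases hpf.1.dvd_mul.1 h4 with h5 | h5
      · exact absurd ((Nat.prime_dvd_prime_iff_eq hpf.1 Nat.prime_two).1 (hpf.1.dvd_of_dvd_pow h5)) hp2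
      · exact h5
    · intro k hk
      rw [Nat.card_eq_fintype_card, h3, Cfsg.Agent.Lib.Zsigmondy.dvd_pow_sub_one_iff (by norm_num), ho] at hk
      exact hk

/-- **The row of `E7`.** -/
theorem row {F : Type u} [Field F] [Fintype F] [IsSimpleGroup ↥(chevE7.group F)] {p : ℕ} [hpf : Fact p.Prime]
    (hp2 : p ≠ 2) : Row p ↥(chevE7.group F) := by
  obtain ⟨r, hr⟩ := CharP.exists F
  have : Fact r.Prime := ⟨CharP.char_is_prime F r⟩
  obtain ⟨e, -, he⟩ := FiniteField.card F r
  rcases le_or_gt 4 (Fintype.card F) with h | h
  · exact row_big he e.pos h hp2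
  · exact row_small he e.pos (by omega) hp2

end Cfsg.Agent.H719.RowE7
end

-- part: H719/BigE8
section
/-!
# The row of E8: large fields (helper719)

Generated by a script.
-/

set_option autoImplicit false
set_option linter.unusedSectionVars false
set_option linter.unusedVariables false

namespace Cfsg.Agent.H719.RowE8

open Subgroup Cfsg Cfsg.Lie Cfsg.Lie.ChevalleyDatum
open Cfsg.Agent.ChevalleyStructure Cfsg.Agent.ChevalleyStructure.Elts Cfsg.Agent.ChevalleyStructure.CoxeterGeom
  Cfsg.Agent.ChevalleyStructure.CoxeterGeomTypes
open Cfsg.Agent.Nodes.RGDChev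
open Cfsg.Agent.H129.TorusChar
open Cfsg.Agent.H568 Cfsg.Agent.H568.FldExc Cfsg.Agent.H719

universe u

/-- primes dividing the order of the torus element -/
theorem ord1 {q P l : ℕ} (hP : (P : ℤ) = 1 + (q : ℤ) - (q : ℤ) ^ 3 - (q : ℤ) ^ 4 - (q : ℤ) ^ 5 + (q : ℤ) ^ 7 + (q : ℤ) ^ 8) (hl : l.Prime) (hlP : l ∣ red 2 P) :
    orderOf ((q : ℕ) : ZMod l) = 30 := by
  have : Fact l.Prime := ⟨hl⟩
  have hlP1 : l ∣ P := hlP.trans (red_dvd _ _)
  refine Num.ord_30 ?_ ?_
  · have h0 : ((P : ℤ) : ZMod l) = 0 := by rw [Int.cast_natCast, ZMod.natCast_eq_zero_iff]; exact hlP1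
    rw [hP] at h0
    push_cast at h0
    exact h0
  · intro h1
    have h2 : l ≤ 30 := Nat.le_of_dvd (by norm_num) h1
    have h3 : l = 2 ∨ l = 3 ∨ l = 5 := by
      clear hP hlP hlP1
      interval_cases l <;> first | (clear * - h1; omega) | (exfalso; revert hl; norm_num)
    clear this
    rcases h3 with rfl | rfl | rfl
    · refine not_dvd_of_zmod hP ?_ hlP1
      push_cast
      generalize (q : ZMod 2) = x
      revert x
      decide +kernel
    · refine not_dvd_of_zmod hP ?_ hlP1
      push_cast
      generalize (q : ZMod 3) = x
      revert x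
      decide +kernel
    · refine not_dvd_of_zmod hP ?_ hlP1
      push_cast
      generalize (q : ZMod 5) = x
      revert x
      decide +kernel

theorem div1 {q P l : ℕ} (hP : (P : ℤ) = 1 + (q : ℤ) - (q : ℤ) ^ 3 - (q : ℤ) ^ 4 - (q : ℤ) ^ 5 + (q : ℤ) ^ 7 + (q : ℤ) ^ 8) (hl : l.Prime) (hl10 : 10 ≤ l)
    (h : orderOf ((q : ℕ) : ZMod l) = 30) : l ∣ red 2 P := by
  have : Fact l.Prime := ⟨hl⟩
  refine dvd_red (by norm_num) hl (by omega) ?_
  rw [← ZMod.natCast_eq_zero_iff, ← Int.cast_natCast (R := ZMod l), hP]
  push_cast
  exact Num.phi_of_ord_30 h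

theorem div2 {q P l : ℕ} (hP : (P : ℤ) = 1 - (q : ℤ) ^ 4 + (q : ℤ) ^ 8) (hl : l.Prime) (hl10 : 10 ≤ l)
    (h : orderOf ((q : ℕ) : ZMod l) = 24) : l ∣ red 2 P := by
  have : Fact l.Prime := ⟨hl⟩
  refine dvd_red (by norm_num) hl (by omega) ?_
  rw [← ZMod.natCast_eq_zero_iff, ← Int.cast_natCast (R := ZMod l), hP]
  push_cast
  exact Num.phi_of_ord_24 h

theorem co {q N1 N2 p : ℕ} (hN1 : (N1 : ℤ) = 1 + (q : ℤ) - (q : ℤ) ^ 3 - (q : ℤ) ^ 4 - (q : ℤ) ^ 5 + (q : ℤ) ^ 7 + (q : ℤ) ^ 8) (hN2 : (N2 : ℤ) = 1 - (q : ℤ) ^ 4 + (q : ℤ) ^ 8)
    (hp : p.Prime) (hp2 : p ≠ 2) (h1 : p ∣ N1) (h2 : p ∣ N2) : False := by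
  have h3 : (p : ℤ) ∣ 1 := by
    have h4 : (-(q : ℤ) + (q : ℤ) ^ 5 + (q : ℤ) ^ 7) * (N1 : ℤ) + (1 + (q : ℤ) + (q : ℤ) ^ 2 - (q : ℤ) ^ 5 - (q : ℤ) ^ 6 - (q : ℤ) ^ 7) * (N2 : ℤ) = 1 := by rw [hN1, hN2]; ring
    rw [← h4]
    exact dvd_add (Dvd.dvd.mul_left (Int.natCast_dvd_natCast.2 h1) _) (Dvd.dvd.mul_left (Int.natCast_dvd_natCast.2 h2) _)
  have h4 : p ∣ 1 := by exact_mod_cast h3
  have h5 : p ≤ 1 := Nat.le_of_dvd (by norm_num) h4
  clear hN1 hN2 h1 h2 h3
  interval_cases p <;> first | omega | (revert hp; norm_num)

theorem ex {q : ℕ} (hq : 3 ≤ q) : ∃ P1 P2 N1 N2 : ℕ, (P1 : ℤ) = 1 + (q : ℤ) - (q : ℤ) ^ 3 - (q : ℤ) ^ 4 - (q : ℤ) ^ 5 + (q : ℤ) ^ 7 + (q : ℤ) ^ 8 ∧ (P2 : ℤ) = 1 - (q : ℤ) ^ 4 + (q : ℤ) ^ 8 ∧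
    (N1 : ℤ) = 1 + (q : ℤ) - (q : ℤ) ^ 3 - (q : ℤ) ^ 4 - (q : ℤ) ^ 5 + (q : ℤ) ^ 7 + (q : ℤ) ^ 8 ∧ (N2 : ℤ) = 1 - (q : ℤ) ^ 4 + (q : ℤ) ^ 8 ∧ 248 < red 2 P1 ∧ 248 < red 2 P2 := by
  obtain ⟨t, rfl⟩ := Nat.exists_eq_add_of_le' hq
  have eP1 : 1 + ((t + 3 : ℕ) : ℤ) - ((t + 3 : ℕ) : ℤ) ^ 3 - ((t + 3 : ℕ) : ℤ) ^ 4 - ((t + 3 : ℕ) : ℤ) ^ 5 + ((t + 3 : ℕ) : ℤ) ^ 7 + ((t + 3 : ℕ) : ℤ) ^ 8 = ((8401 + 22060 * t + 25182 * t ^ 2 + 16340 * t ^ 3 + 6599 * t ^ 4 + 1700 * t ^ 5 + 273 * t ^ 6 + 25 * t ^ 7 + t ^ 8 : ℕ) : ℤ) := by push_cast; ring
  have eP2 : 1 - ((t + 3 : ℕ) : ℤ) ^ 4 + ((t + 3 : ℕ) : ℤ) ^ 8 = ((6481 + 17388 * t + 20358 * t ^ 2 + 13596 * t ^ 3 + 5669 * t ^ 4 + 1512 * t ^ 5 + 252 * t ^ 6 + 24 * t ^ 7 + t ^ 8 : ℕ) : ℤ) := by push_cast; ring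
  have eN1 : 1 + ((t + 3 : ℕ) : ℤ) - ((t + 3 : ℕ) : ℤ) ^ 3 - ((t + 3 : ℕ) : ℤ) ^ 4 - ((t + 3 : ℕ) : ℤ) ^ 5 + ((t + 3 : ℕ) : ℤ) ^ 7 + ((t + 3 : ℕ) : ℤ) ^ 8 = ((8401 + 22060 * t + 25182 * t ^ 2 + 16340 * t ^ 3 + 6599 * t ^ 4 + 1700 * t ^ 5 + 273 * t ^ 6 + 25 * t ^ 7 + t ^ 8 : ℕ) : ℤ) := by push_cast; ring
  have eN2 : 1 - ((t + 3 : ℕ) : ℤ) ^ 4 + ((t + 3 : ℕ) : ℤ) ^ 8 = ((6481 + 17388 * t + 20358 * t ^ 2 + 13596 * t ^ 3 + 5669 * t ^ 4 + 1512 * t ^ 5 + 252 * t ^ 6 + 24 * t ^ 7 + t ^ 8 : ℕ) : ℤ) := by push_cast; ring
  refine ⟨_, _, _, _, eP1.symm, eP2.symm, eN1.symm, eN2.symm, ?_, ?_⟩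
  · have h := le_mul_red (b := 2) (by norm_num) (8401 + 22060 * t + 25182 * t ^ 2 + 16340 * t ^ 3 + 6599 * t ^ 4 + 1700 * t ^ 5 + 273 * t ^ 6 + 25 * t ^ 7 + t ^ 8)
    have h2 : 0 ≤ 22060 * t + 25182 * t ^ 2 + 16340 * t ^ 3 + 6599 * t ^ 4 + 1700 * t ^ 5 + 273 * t ^ 6 + 25 * t ^ 7 + t ^ 8 := Nat.zero_le _
    generalize red 2 _ = s at h ⊢
    omega
  · have h := le_mul_red (b := 2) (by norm_num) (6481 + 17388 * t + 20358 * t ^ 2 + 13596 * t ^ 3 + 5669 * t ^ 4 + 1512 * t ^ 5 + 252 * t ^ 6 + 24 * t ^ 7 + t ^ 8)
    have h2 : 0 ≤ 17388 * t + 20358 * t ^ 2 + 13596 * t ^ 3 + 5669 * t ^ 4 + 1512 * t ^ 5 + 252 * t ^ 6 + 24 * t ^ 7 + t ^ 8 := Nat.zero_le _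
    generalize red 2 _ = s at h ⊢
    omega

theorem hcen_dim : chevE8.rank + chevE8.nroots = 248 := rfl

/-- **The row for large fields.** -/
theorem row_big {F : Type u} [Field F] [Fintype F] [IsSimpleGroup ↥(chevE8.group F)] {r e : ℕ} [Fact r.Prime] [CharP F r]
    (hq : Fintype.card F = r ^ e) (he : 0 < e) (hqm : 3 ≤ Fintype.card F) {p : ℕ} [hpf : Fact p.Prime] (hp2 : p ≠ 2) :
    Row p ↥(chevE8.group F) := by
  have hp : IsType chevE8 8 CoxeterMatrix.E₈ := by simp [IsType, typeList]
  have hna : ¬ IsMulCommutative ↥(chevE8.group F) := (Cfsg.Agent.S1054.result chevE8 (by simp)).2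
  obtain ⟨P1, P2, N1, N2, hP1, hP2, hN1, hN2, hd1, hd2⟩ := ex hqm
  have hT1 := hasT_E8_30 (F := F) rfl hN1 hP1
  have hT2 := hasT_E8_24 (F := F) rfl hN2 hP2
  have hrq : r ∣ Fintype.card F := hq ▸ dvd_pow_self r he.ne'
  have hrN : ¬ r ∣ N1 := by
    intro h1
    have h2 : (Fintype.card F).Coprime N1 := coprime_of_eq (a := 1 - (Fintype.card F : ℤ) ^ 2 - (Fintype.card F : ℤ) ^ 3 - (Fintype.card F : ℤ) ^ 4 + (Fintype.card F : ℤ) ^ 6 + (Fintype.card F : ℤ) ^ 7) (b := 1) (by rw [hN1]; ring)
    have h3 : r ∣ 1 := h2 ▸ Nat.dvd_gcd hrq h1
    exact (Fact.out : r.Prime).one_lt.ne' (Nat.dvd_one.1 h3)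
  have hco : p ∣ N1 → p ∣ N2 → False := fun h1 h2 => co hN1 hN2 hpf.1 hp2 h1 h2
  rw [← hcen_dim] at hd1 hd2
  have hown : ∀ {l : ℕ}, l.Prime → ∀ {x : ↥(chevE8.group F)}, orderOf x = l →
      (∀ y : ↥(chevE8.group F), orderOf y = r → x * y ≠ y * x) → (∀ k, l ∣ Nat.card F ^ k - 1 → 30 ∣ k) → NoNorm r x :=
    fun hl _ hx hcen hord => noNorm_E8 r hl hx hcen (Or.inr rfl) hord
  have hq1 : 1 ≤ Fintype.card F := by omega
  have hc : p.Coprime 1 ∨ ∀ a : F, ∃ b : F, b ^ 1 = a := Or.inl (Nat.coprime_one_right p)
  refine row_gen hp hna hq he invC_E8 (by norm_num) (AutInv.inv_E8 _) ordF_E8 hp2 hc ?_ ?_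
  · intro _ _
    obtain ⟨l1, hl1, hlP⟩ := Nat.exists_prime_and_dvd (n := red 2 P1) (by rw [hcen_dim] at hd1; omega)
    have hord : ∀ k, l1 ∣ Nat.card F ^ k - 1 → 30 ∣ k := by
      intro k hk
      rw [Nat.card_eq_fintype_card, Cfsg.Agent.Lib.Zsigmondy.dvd_pow_sub_one_iff hq1, ord1 hP1 hl1 hlP] at hk
      exact hk
    exact Or.inr (inner_case hT1 hT2 hrN hco hd1 hd2 hl1 hlP hord hown)
  · intro hpe
    have he3 : 3 ≤ e := by
      have h1 := Nat.le_of_dvd he hpe
      have h2 := hpf.1.two_le
      omega
    obtain ⟨l1, hl1, hm1, hl10, hlr1, ho1⟩ := exists_prim (r := r) (e := e) (h := 30) Fact.out he3 (by norm_num)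
    obtain ⟨l2, hl2, hm2, hl20, hlr2, ho2⟩ := exists_prim (r := r) (e := e) (h := 24) Fact.out he3 (by norm_num)
    rw [← hq] at ho1 ho2
    have hL1 : PrimL r e 1 [2, 8, 12, 14, 18, 20, 24, 30] l1 := ⟨hl1, hlr1, Nat.coprime_one_right _, 30, fun m hm => (hm1 m).1 hm, by decide⟩
    have hL2 : PrimL r e 1 [2, 8, 12, 14, 18, 20, 24, 30] l2 := ⟨hl2, hlr2, Nat.coprime_one_right _, 24, fun m hm => (hm2 m).1 hm, by decide⟩
    refine field_case hT1 hT2 hrN hco hd1 hd2 hL1 (div1 hP1 hl1 hl10 ho1) hL2 (div2 hP2 hl2 hl20 ho2) ?_ hown
    intro k hk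
    rw [Nat.card_eq_fintype_card, Cfsg.Agent.Lib.Zsigmondy.dvd_pow_sub_one_iff hq1, ho1] at hk
    exact hk

end Cfsg.Agent.H719.RowE8
end

-- part: H719/SmallE8
section
/-!
# The row of E8 (helper719)
-/

set_option autoImplicit false
set_option linter.unusedSectionVars false
set_option linter.unusedVariables false

namespace Cfsg.Agent.H719.RowE8

open Subgroup Cfsg Cfsg.Lie Cfsg.Lie.ChevalleyDatum
open Cfsg.Agent.ChevalleyStructure Cfsg.Agent.ChevalleyStructure.Elts Cfsg.Agent.ChevalleyStructure.CoxeterGeom
  Cfsg.Agent.ChevalleyStructure.CoxeterGeomTypes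
open Cfsg.Agent.Nodes.RGDChev
open Cfsg.Agent.H129.TorusChar
open Cfsg.Agent.H568 Cfsg.Agent.H568.FldExc Cfsg.Agent.H719

universe u

theorem row_small {F : Type u} [Field F] [Fintype F] [IsSimpleGroup ↥(chevE8.group F)] {r e : ℕ} [Fact r.Prime] [CharP F r]
    (hq : Fintype.card F = r ^ e) (he : 0 < e) (hqm : Fintype.card F ≤ 2) {p : ℕ} [hpf : Fact p.Prime] (hp2 : p ≠ 2) :
    Row p ↥(chevE8.group F) := by
  have hp : IsType chevE8 8 CoxeterMatrix.E₈ := by simp [IsType, typeList]
  have hna : ¬ IsMulCommutative ↥(chevE8.group F) := (Cfsg.Agent.S1054.result chevE8 (by simp)).2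
  have hc : p.Coprime 1 ∨ ∀ a : F, ∃ b : F, b ^ 1 = a := Or.inl (Nat.coprime_one_right p)
  refine row_gen hp hna hq he invC_E8 (by norm_num) (AutInv.inv_E8 _) ordF_E8 hp2 hc ?_
    fun h => (small_e Fact.out hq (by omega) he hpf.1 hp2 h).elim
  intro _ _
  have hq2 : 2 ≤ Fintype.card F := Fintype.one_lt_card
  have h2 : Fintype.card F = 2 := by omega
  have hT : HasT ↥(chevE8.group F) 331 (red 2 331) := hasT_E8_30 h2 (by norm_num) (by norm_num)
  have ho := ord1 (q := 2) (P := 331) (l := 331) (by norm_num) (by norm_num)
    (by rw [red_of_not_dvd (by norm_num)])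
  rw [red_of_not_dvd (by norm_num)] at hT
  have hrq : r ∣ 2 := h2 ▸ hq ▸ dvd_pow_self r he.ne'
  have hr2 : r = 2 := (Nat.prime_dvd_prime_iff_eq Fact.out Nat.prime_two).1 hrq
  subst hr2
  refine inner_case' hT (by norm_num) (fun h => h) (by rw [hcen_dim]; norm_num) (l1 := 331) (h := 30) (by norm_num)
    dvd_rfl ?_ fun hl _ hx hcen hord => noNorm_E8 2 hl hx hcen (Or.inr rfl) hord
  intro k hk
  rw [Nat.card_eq_fintype_card, h2, Cfsg.Agent.Lib.Zsigmondy.dvd_pow_sub_one_iff (by norm_num), ho] at hk
  exact hk

/-- **The row of `E8`.** -/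
theorem row {F : Type u} [Field F] [Fintype F] [IsSimpleGroup ↥(chevE8.group F)] {p : ℕ} [hpf : Fact p.Prime]
    (hp2 : p ≠ 2) : Row p ↥(chevE8.group F) := by
  obtain ⟨r, hr⟩ := CharP.exists F
  have : Fact r.Prime := ⟨CharP.char_is_prime F r⟩
  obtain ⟨e, -, he⟩ := FiniteField.card F r
  rcases le_or_gt 3 (Fintype.card F) with h | h
  · exact row_big he e.pos h hp2
  · exact row_small he e.pos (by omega) hp2

end Cfsg.Agent.H719.RowE8
end

-- part: H719/RowsExc
section
/-!
# The rows of S4329 for the groups G2, F4, E6, E7, E8 (helper719)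
-/

set_option autoImplicit false
set_option linter.unusedSectionVars false

namespace Cfsg.Agent.H719

open Cfsg Cfsg.Lie
open Cfsg.Agent.H568

variable (K : Type*) [Group K] [Finite K] [hK : IsSimpleGroup K]

theorem row_G2 (h : Lie.IsoChevG2 K) (p : ℕ) [Fact p.Prime] (hp : p ≠ 2) : Row p K := by
  obtain ⟨F, _, _, h3, ⟨e⟩⟩ := h
  have : IsSimpleGroup ↥(chevG2.group F) := (MulEquiv.isSimpleGroup_congr e).1 hK
  exact (RowG2.row h3 hp).congr e.symm

theorem row_F4 (h : Lie.IsoF4 K) (p : ℕ) [Fact p.Prime] (hp : p ≠ 2) : Row p K := by
  obtain ⟨F, _, _, ⟨e⟩⟩ := h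
  have : IsSimpleGroup ↥(chevF4.group F) := (MulEquiv.isSimpleGroup_congr e).1 hK
  exact (RowF4.row hp).congr e.symm

theorem row_E6 (h : Lie.IsoChevE6 K) (p : ℕ) [Fact p.Prime] (hp : p ≠ 2) : Row p K := by
  obtain ⟨F, _, _, ⟨e⟩⟩ := h
  have : IsSimpleGroup ↥(chevE6.group F) := (MulEquiv.isSimpleGroup_congr e).1 hK
  by_cases h3 : p = 3 ∧ 3 ∣ Fintype.card F - 1
  · obtain ⟨rfl, h3⟩ := h3
    exact (Cfsg.Agent.H568.ESixThree.e6_three h3).congr e.symm
  · exact (RowE6.row' hp fun h1 h2 => h3 ⟨h1, h2⟩).congr e.symm

theorem row_E7 (h : Lie.IsoE7 K) (p : ℕ) [Fact p.Prime] (hp : p ≠ 2) : Row p K := by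
  obtain ⟨F, _, _, ⟨e⟩⟩ := h
  have : IsSimpleGroup ↥(chevE7.group F) := (MulEquiv.isSimpleGroup_congr e).1 hK
  exact (RowE7.row hp).congr e.symm

theorem row_E8 (h : Lie.IsoE8 K) (p : ℕ) [Fact p.Prime] (hp : p ≠ 2) : Row p K := by
  obtain ⟨F, _, _, ⟨e⟩⟩ := h
  have : IsSimpleGroup ↥(chevE8.group F) := (MulEquiv.isSimpleGroup_congr e).1 hK
  exact (RowE8.row hp).congr e.symm

end Cfsg.Agent.H719
end

-- part: H999/SpRow
section
/-!
# Rows of S4329 for groups with `BpSpor.Row.Dat` (helper999)

`row_of_dat`: only the primes whose square divides the order need an argument, and for them it is enough that for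
every element `s` of order `p` there is a prime `l` such that no element of order `l` commutes with `s`, and
`l ∤ p ^ k - 1` for `p ^ k` dividing the order.
-/

set_option autoImplicit false

namespace Cfsg.Agent.H999.SpRow

open Subgroup Cfsg Cfsg.Agent.H568

universe u

/-- the condition on the primes `l`, `p` -/
def Cop (N p l : ℕ) : Prop := ∀ k : ℕ, k ≠ 0 → p ^ k ∣ N → ¬ l ∣ p ^ k - 1

theorem cop_of {N p l m : ℕ} (h1 : ¬ p ^ (m + 1) ∣ N) (h2 : ∀ k ∈ List.range (m + 1), k ≠ 0 → ¬ l ∣ p ^ k - 1) :
    Cop N p l := by
  intro k hk hkN
  have h3 : k < m + 1 := by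
    by_contra hge
    exact h1 ((pow_dvd_pow p (not_lt.1 hge)).trans hkN)
  exact h2 k (List.mem_range.2 h3) hk

theorem not_dvd_of_no_comm {K : Type*} [Group K] [Finite K] {s : K} {l : ℕ} (hl : l.Prime)
    (h : ∀ x : K, orderOf x = l → x * s ≠ s * x) : ¬ l ∣ Nat.card ↥(centralizer ({s} : Set K)) := by
  intro hd
  have := Fact.mk hl
  obtain ⟨x, hx⟩ := exists_prime_orderOf_dvd_card' l hd
  refine h x ?_ (mem_centralizer_singleton_iff.1 x.2)
  rw [Subgroup.orderOf_coe, hx]

theorem row_of_dat {K : Type u} [Group K] {N : ℕ} (D : BpSpor.Dat K N) (h4 : 4 ∣ N) (hN : N ≠ 0) {p : ℕ}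
    [hp : Fact p.Prime] (hp2 : p ≠ 2)
    (h : p ^ 2 ∣ N → ∀ s : K, orderOf s = p → ∃ l : ℕ, l.Prime ∧ l ∣ N ∧ l ≠ p ∧ Cop N p l ∧
      ∀ x : K, orderOf x = l → x * s ≠ s * x) : Row p K := by
  have hs := D.simple
  have hfin : Finite K := Nat.finite_of_card_ne_zero (by rw [D.card]; exact hN)
  have hZ : center K = ⊥ := BpSpor.center_eq_bot_of_card hs (by rw [D.card]; exact h4)
  have hna : ¬ IsMulCommutative K := by
    intro hc
    have h1 : center K = ⊤ := by
      rw [eq_top_iff]
      intro x _
      rw [mem_center_iff]
      intro y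
      exact hc.is_comm.comm y x
    rw [hZ] at h1
    have h2 : Nat.card K = 1 := by
      rw [← Subgroup.card_top, ← h1, Subgroup.card_bot]
    rw [D.card] at h2
    rw [h2] at h4
    exact absurd h4 (by decide)
  by_cases h2 : p ^ 2 ∣ N
  · refine H966.SporCrit.row_of_primes hZ (fun a ha => D.inn p hp.1 hp2 a ha) fun s hs' => ?_
    obtain ⟨l, hl, h5, h6, h7, h8⟩ := h h2 s hs'
    exact ⟨l, hl, by rw [D.card]; exact h5, h6, by rw [D.card]; exact h7, not_dvd_of_no_comm hl h8⟩
  · intro a ha
    obtain ⟨s, hs'⟩ := D.inn p hp.1 hp2 a ha
    have hpK : p ∣ Nat.card K := by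
      have h5 : orderOf s = p := by
        rw [← ha, hs']
        symm
        refine orderOf_injective (MulAut.conj : K →* MulAut K) ?_ s
        rw [← MonoidHom.ker_eq_bot_iff, ← hZ]
        ext x
        rw [MonoidHom.mem_ker, mem_center_iff]
        constructor
        · intro h y
          have h1 : MulAut.conj x y = y := by rw [h]; rfl
          rw [MulAut.conj_apply, mul_inv_eq_iff_eq_mul] at h1
          exact h1.symm
        · intro h
          ext y
          rw [MulAut.conj_apply, ← h y, mul_inv_cancel_right]
          rfl
      rw [← h5]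
      exact _root_.orderOf_dvd_natCard s
    obtain ⟨P⟩ : Nonempty (Sylow p K) := inferInstance
    have hP : Nat.card (P : Subgroup K) = p := by
      obtain ⟨k, hk⟩ := IsPGroup.iff_card.1 P.isPGroup'
      have h5 : p ∣ Nat.card (P : Subgroup K) := P.dvd_card_of_dvd_card hpK
      have h6 : p ^ k ∣ N := by
        rw [← hk, ← D.card]; exact Subgroup.card_subgroup_dvd_card _
      have h7 : k < 2 := by
        by_contra hge
        exact h2 ((pow_dvd_pow p (not_lt.1 hge)).trans h6)
      interval_cases k
      · rw [pow_zero] at hk
        rw [hk, Nat.dvd_one] at h5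
        exact absurd h5 hp.1.ne_one
      · rw [hk, pow_one]
    have hcyc : IsCyclic ↥(P : Subgroup K) := isCyclic_of_prime_card hP
    obtain ⟨x, hx⟩ := exists_noNorm_of_cyclic hna hpK P hcyc
    exact ⟨x, hx.not_dvd, avoid_inner hZ ha hs' hx⟩

end Cfsg.Agent.H999.SpRow
end

private theorem dce_04cfa81eb455 : _root_.True := by
  try have : _root_.True := by simp only [_root_.Cfsg.Agent.H129.WData.hd.eq_1]
  try have : _root_.True := by simp only [_root_.Cfsg.Agent.H129.WData.hd.eq_2]
  try have : _root_.True := by simp only [_root_.Cfsg.Agent.H719.TG2_3.chain.eq_1]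
  exact _root_.True.intro
end

-- part: H999/RuRotData
section
set_option linter.all false

/-! The rotation of the blocks of 29 points of the Rudvalis graph as a network (helper999) -/

set_option autoImplicit false

namespace Cfsg.Agent.H999.RuRotData

/-- `29 a + b ↦ 29 a + (b + 1 mod 29)`: product of two reflections of the blocks -/
def nR : List (ℕ × ℕ) := [(28, 0x800000040000002000000100000008000000400000020000001000000080000004000000200000010000000800000040000002000000100000008000000400000020000001000000080000004000000200000010000000800000040000002000000100000008000000400000020000001000000080000004000000200000010000000800000040000002000000100000008000000400000020000001000000080000004000000200000010000000800000040000002000000100000008000000400000020000001000000080000004000000200000010000000800000040000002000000100000008000000400000020000001000000080000004000000200000010000000800000040000002000000100000008000000400000020000001000000080000004000000200000010000000800000040000002000000100000008000000400000020000001000000080000004000000200000010000000800000040000002000000100000008000000400000020000001000000080000004000000200000010000000800000040000002000000100000008000000400000020000001000000080000004000000200000010000000800000040000002000000100000008000000400000020000001000000080000004000000200000010000000800000040000002000000100000008000000400000020000001),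
 (26, 0x1000000080000004000000200000010000000800000040000002000000100000008000000400000020000001000000080000004000000200000010000000800000040000002000000100000008000000400000020000001000000080000004000000200000010000000800000040000002000000100000008000000400000020000001000000080000004000000200000010000000800000040000002000000100000008000000400000020000001000000080000004000000200000010000000800000040000002000000100000008000000400000020000001000000080000004000000200000010000000800000040000002000000100000008000000400000020000001000000080000004000000200000010000000800000040000002000000100000008000000400000020000001000000080000004000000200000010000000800000040000002000000100000008000000400000020000001000000080000004000000200000010000000800000040000002000000100000008000000400000020000001000000080000004000000200000010000000800000040000002000000100000008000000400000020000001000000080000004000000200000010000000800000040000002000000100000008000000400000020000001000000080000004000000200000010000000800000040000002),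
 (24, 0x2000000100000008000000400000020000001000000080000004000000200000010000000800000040000002000000100000008000000400000020000001000000080000004000000200000010000000800000040000002000000100000008000000400000020000001000000080000004000000200000010000000800000040000002000000100000008000000400000020000001000000080000004000000200000010000000800000040000002000000100000008000000400000020000001000000080000004000000200000010000000800000040000002000000100000008000000400000020000001000000080000004000000200000010000000800000040000002000000100000008000000400000020000001000000080000004000000200000010000000800000040000002000000100000008000000400000020000001000000080000004000000200000010000000800000040000002000000100000008000000400000020000001000000080000004000000200000010000000800000040000002000000100000008000000400000020000001000000080000004000000200000010000000800000040000002000000100000008000000400000020000001000000080000004000000200000010000000800000040000002000000100000008000000400000020000001000000080000004),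
 (22, 0x4000000200000010000000800000040000002000000100000008000000400000020000001000000080000004000000200000010000000800000040000002000000100000008000000400000020000001000000080000004000000200000010000000800000040000002000000100000008000000400000020000001000000080000004000000200000010000000800000040000002000000100000008000000400000020000001000000080000004000000200000010000000800000040000002000000100000008000000400000020000001000000080000004000000200000010000000800000040000002000000100000008000000400000020000001000000080000004000000200000010000000800000040000002000000100000008000000400000020000001000000080000004000000200000010000000800000040000002000000100000008000000400000020000001000000080000004000000200000010000000800000040000002000000100000008000000400000020000001000000080000004000000200000010000000800000040000002000000100000008000000400000020000001000000080000004000000200000010000000800000040000002000000100000008000000400000020000001000000080000004000000200000010000000800000040000002000000100000008),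
 (20, 0x8000000400000020000001000000080000004000000200000010000000800000040000002000000100000008000000400000020000001000000080000004000000200000010000000800000040000002000000100000008000000400000020000001000000080000004000000200000010000000800000040000002000000100000008000000400000020000001000000080000004000000200000010000000800000040000002000000100000008000000400000020000001000000080000004000000200000010000000800000040000002000000100000008000000400000020000001000000080000004000000200000010000000800000040000002000000100000008000000400000020000001000000080000004000000200000010000000800000040000002000000100000008000000400000020000001000000080000004000000200000010000000800000040000002000000100000008000000400000020000001000000080000004000000200000010000000800000040000002000000100000008000000400000020000001000000080000004000000200000010000000800000040000002000000100000008000000400000020000001000000080000004000000200000010000000800000040000002000000100000008000000400000020000001000000080000004000000200000010),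
 (18, 0x10000000800000040000002000000100000008000000400000020000001000000080000004000000200000010000000800000040000002000000100000008000000400000020000001000000080000004000000200000010000000800000040000002000000100000008000000400000020000001000000080000004000000200000010000000800000040000002000000100000008000000400000020000001000000080000004000000200000010000000800000040000002000000100000008000000400000020000001000000080000004000000200000010000000800000040000002000000100000008000000400000020000001000000080000004000000200000010000000800000040000002000000100000008000000400000020000001000000080000004000000200000010000000800000040000002000000100000008000000400000020000001000000080000004000000200000010000000800000040000002000000100000008000000400000020000001000000080000004000000200000010000000800000040000002000000100000008000000400000020000001000000080000004000000200000010000000800000040000002000000100000008000000400000020000001000000080000004000000200000010000000800000040000002000000100000008000000400000020),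
 (16, 0x20000001000000080000004000000200000010000000800000040000002000000100000008000000400000020000001000000080000004000000200000010000000800000040000002000000100000008000000400000020000001000000080000004000000200000010000000800000040000002000000100000008000000400000020000001000000080000004000000200000010000000800000040000002000000100000008000000400000020000001000000080000004000000200000010000000800000040000002000000100000008000000400000020000001000000080000004000000200000010000000800000040000002000000100000008000000400000020000001000000080000004000000200000010000000800000040000002000000100000008000000400000020000001000000080000004000000200000010000000800000040000002000000100000008000000400000020000001000000080000004000000200000010000000800000040000002000000100000008000000400000020000001000000080000004000000200000010000000800000040000002000000100000008000000400000020000001000000080000004000000200000010000000800000040000002000000100000008000000400000020000001000000080000004000000200000010000000800000040),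
 (14, 0x40000002000000100000008000000400000020000001000000080000004000000200000010000000800000040000002000000100000008000000400000020000001000000080000004000000200000010000000800000040000002000000100000008000000400000020000001000000080000004000000200000010000000800000040000002000000100000008000000400000020000001000000080000004000000200000010000000800000040000002000000100000008000000400000020000001000000080000004000000200000010000000800000040000002000000100000008000000400000020000001000000080000004000000200000010000000800000040000002000000100000008000000400000020000001000000080000004000000200000010000000800000040000002000000100000008000000400000020000001000000080000004000000200000010000000800000040000002000000100000008000000400000020000001000000080000004000000200000010000000800000040000002000000100000008000000400000020000001000000080000004000000200000010000000800000040000002000000100000008000000400000020000001000000080000004000000200000010000000800000040000002000000100000008000000400000020000001000000080),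
 (12, 0x80000004000000200000010000000800000040000002000000100000008000000400000020000001000000080000004000000200000010000000800000040000002000000100000008000000400000020000001000000080000004000000200000010000000800000040000002000000100000008000000400000020000001000000080000004000000200000010000000800000040000002000000100000008000000400000020000001000000080000004000000200000010000000800000040000002000000100000008000000400000020000001000000080000004000000200000010000000800000040000002000000100000008000000400000020000001000000080000004000000200000010000000800000040000002000000100000008000000400000020000001000000080000004000000200000010000000800000040000002000000100000008000000400000020000001000000080000004000000200000010000000800000040000002000000100000008000000400000020000001000000080000004000000200000010000000800000040000002000000100000008000000400000020000001000000080000004000000200000010000000800000040000002000000100000008000000400000020000001000000080000004000000200000010000000800000040000002000000100),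
 (10, 0x100000008000000400000020000001000000080000004000000200000010000000800000040000002000000100000008000000400000020000001000000080000004000000200000010000000800000040000002000000100000008000000400000020000001000000080000004000000200000010000000800000040000002000000100000008000000400000020000001000000080000004000000200000010000000800000040000002000000100000008000000400000020000001000000080000004000000200000010000000800000040000002000000100000008000000400000020000001000000080000004000000200000010000000800000040000002000000100000008000000400000020000001000000080000004000000200000010000000800000040000002000000100000008000000400000020000001000000080000004000000200000010000000800000040000002000000100000008000000400000020000001000000080000004000000200000010000000800000040000002000000100000008000000400000020000001000000080000004000000200000010000000800000040000002000000100000008000000400000020000001000000080000004000000200000010000000800000040000002000000100000008000000400000020000001000000080000004000000200),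
 (8, 0x200000010000000800000040000002000000100000008000000400000020000001000000080000004000000200000010000000800000040000002000000100000008000000400000020000001000000080000004000000200000010000000800000040000002000000100000008000000400000020000001000000080000004000000200000010000000800000040000002000000100000008000000400000020000001000000080000004000000200000010000000800000040000002000000100000008000000400000020000001000000080000004000000200000010000000800000040000002000000100000008000000400000020000001000000080000004000000200000010000000800000040000002000000100000008000000400000020000001000000080000004000000200000010000000800000040000002000000100000008000000400000020000001000000080000004000000200000010000000800000040000002000000100000008000000400000020000001000000080000004000000200000010000000800000040000002000000100000008000000400000020000001000000080000004000000200000010000000800000040000002000000100000008000000400000020000001000000080000004000000200000010000000800000040000002000000100000008000000400),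
 (6, 0x400000020000001000000080000004000000200000010000000800000040000002000000100000008000000400000020000001000000080000004000000200000010000000800000040000002000000100000008000000400000020000001000000080000004000000200000010000000800000040000002000000100000008000000400000020000001000000080000004000000200000010000000800000040000002000000100000008000000400000020000001000000080000004000000200000010000000800000040000002000000100000008000000400000020000001000000080000004000000200000010000000800000040000002000000100000008000000400000020000001000000080000004000000200000010000000800000040000002000000100000008000000400000020000001000000080000004000000200000010000000800000040000002000000100000008000000400000020000001000000080000004000000200000010000000800000040000002000000100000008000000400000020000001000000080000004000000200000010000000800000040000002000000100000008000000400000020000001000000080000004000000200000010000000800000040000002000000100000008000000400000020000001000000080000004000000200000010000000800),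
 (4, 0x800000040000002000000100000008000000400000020000001000000080000004000000200000010000000800000040000002000000100000008000000400000020000001000000080000004000000200000010000000800000040000002000000100000008000000400000020000001000000080000004000000200000010000000800000040000002000000100000008000000400000020000001000000080000004000000200000010000000800000040000002000000100000008000000400000020000001000000080000004000000200000010000000800000040000002000000100000008000000400000020000001000000080000004000000200000010000000800000040000002000000100000008000000400000020000001000000080000004000000200000010000000800000040000002000000100000008000000400000020000001000000080000004000000200000010000000800000040000002000000100000008000000400000020000001000000080000004000000200000010000000800000040000002000000100000008000000400000020000001000000080000004000000200000010000000800000040000002000000100000008000000400000020000001000000080000004000000200000010000000800000040000002000000100000008000000400000020000001000),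
 (2, 0x1000000080000004000000200000010000000800000040000002000000100000008000000400000020000001000000080000004000000200000010000000800000040000002000000100000008000000400000020000001000000080000004000000200000010000000800000040000002000000100000008000000400000020000001000000080000004000000200000010000000800000040000002000000100000008000000400000020000001000000080000004000000200000010000000800000040000002000000100000008000000400000020000001000000080000004000000200000010000000800000040000002000000100000008000000400000020000001000000080000004000000200000010000000800000040000002000000100000008000000400000020000001000000080000004000000200000010000000800000040000002000000100000008000000400000020000001000000080000004000000200000010000000800000040000002000000100000008000000400000020000001000000080000004000000200000010000000800000040000002000000100000008000000400000020000001000000080000004000000200000010000000800000040000002000000100000008000000400000020000001000000080000004000000200000010000000800000040000002000),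
 (27, 0x1000000080000004000000200000010000000800000040000002000000100000008000000400000020000001000000080000004000000200000010000000800000040000002000000100000008000000400000020000001000000080000004000000200000010000000800000040000002000000100000008000000400000020000001000000080000004000000200000010000000800000040000002000000100000008000000400000020000001000000080000004000000200000010000000800000040000002000000100000008000000400000020000001000000080000004000000200000010000000800000040000002000000100000008000000400000020000001000000080000004000000200000010000000800000040000002000000100000008000000400000020000001000000080000004000000200000010000000800000040000002000000100000008000000400000020000001000000080000004000000200000010000000800000040000002000000100000008000000400000020000001000000080000004000000200000010000000800000040000002000000100000008000000400000020000001000000080000004000000200000010000000800000040000002000000100000008000000400000020000001000000080000004000000200000010000000800000040000002),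
 (25, 0x2000000100000008000000400000020000001000000080000004000000200000010000000800000040000002000000100000008000000400000020000001000000080000004000000200000010000000800000040000002000000100000008000000400000020000001000000080000004000000200000010000000800000040000002000000100000008000000400000020000001000000080000004000000200000010000000800000040000002000000100000008000000400000020000001000000080000004000000200000010000000800000040000002000000100000008000000400000020000001000000080000004000000200000010000000800000040000002000000100000008000000400000020000001000000080000004000000200000010000000800000040000002000000100000008000000400000020000001000000080000004000000200000010000000800000040000002000000100000008000000400000020000001000000080000004000000200000010000000800000040000002000000100000008000000400000020000001000000080000004000000200000010000000800000040000002000000100000008000000400000020000001000000080000004000000200000010000000800000040000002000000100000008000000400000020000001000000080000004),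
 (23, 0x4000000200000010000000800000040000002000000100000008000000400000020000001000000080000004000000200000010000000800000040000002000000100000008000000400000020000001000000080000004000000200000010000000800000040000002000000100000008000000400000020000001000000080000004000000200000010000000800000040000002000000100000008000000400000020000001000000080000004000000200000010000000800000040000002000000100000008000000400000020000001000000080000004000000200000010000000800000040000002000000100000008000000400000020000001000000080000004000000200000010000000800000040000002000000100000008000000400000020000001000000080000004000000200000010000000800000040000002000000100000008000000400000020000001000000080000004000000200000010000000800000040000002000000100000008000000400000020000001000000080000004000000200000010000000800000040000002000000100000008000000400000020000001000000080000004000000200000010000000800000040000002000000100000008000000400000020000001000000080000004000000200000010000000800000040000002000000100000008),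
 (21, 0x8000000400000020000001000000080000004000000200000010000000800000040000002000000100000008000000400000020000001000000080000004000000200000010000000800000040000002000000100000008000000400000020000001000000080000004000000200000010000000800000040000002000000100000008000000400000020000001000000080000004000000200000010000000800000040000002000000100000008000000400000020000001000000080000004000000200000010000000800000040000002000000100000008000000400000020000001000000080000004000000200000010000000800000040000002000000100000008000000400000020000001000000080000004000000200000010000000800000040000002000000100000008000000400000020000001000000080000004000000200000010000000800000040000002000000100000008000000400000020000001000000080000004000000200000010000000800000040000002000000100000008000000400000020000001000000080000004000000200000010000000800000040000002000000100000008000000400000020000001000000080000004000000200000010000000800000040000002000000100000008000000400000020000001000000080000004000000200000010),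
 (19, 0x10000000800000040000002000000100000008000000400000020000001000000080000004000000200000010000000800000040000002000000100000008000000400000020000001000000080000004000000200000010000000800000040000002000000100000008000000400000020000001000000080000004000000200000010000000800000040000002000000100000008000000400000020000001000000080000004000000200000010000000800000040000002000000100000008000000400000020000001000000080000004000000200000010000000800000040000002000000100000008000000400000020000001000000080000004000000200000010000000800000040000002000000100000008000000400000020000001000000080000004000000200000010000000800000040000002000000100000008000000400000020000001000000080000004000000200000010000000800000040000002000000100000008000000400000020000001000000080000004000000200000010000000800000040000002000000100000008000000400000020000001000000080000004000000200000010000000800000040000002000000100000008000000400000020000001000000080000004000000200000010000000800000040000002000000100000008000000400000020),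
 (17, 0x20000001000000080000004000000200000010000000800000040000002000000100000008000000400000020000001000000080000004000000200000010000000800000040000002000000100000008000000400000020000001000000080000004000000200000010000000800000040000002000000100000008000000400000020000001000000080000004000000200000010000000800000040000002000000100000008000000400000020000001000000080000004000000200000010000000800000040000002000000100000008000000400000020000001000000080000004000000200000010000000800000040000002000000100000008000000400000020000001000000080000004000000200000010000000800000040000002000000100000008000000400000020000001000000080000004000000200000010000000800000040000002000000100000008000000400000020000001000000080000004000000200000010000000800000040000002000000100000008000000400000020000001000000080000004000000200000010000000800000040000002000000100000008000000400000020000001000000080000004000000200000010000000800000040000002000000100000008000000400000020000001000000080000004000000200000010000000800000040),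
 (15, 0x40000002000000100000008000000400000020000001000000080000004000000200000010000000800000040000002000000100000008000000400000020000001000000080000004000000200000010000000800000040000002000000100000008000000400000020000001000000080000004000000200000010000000800000040000002000000100000008000000400000020000001000000080000004000000200000010000000800000040000002000000100000008000000400000020000001000000080000004000000200000010000000800000040000002000000100000008000000400000020000001000000080000004000000200000010000000800000040000002000000100000008000000400000020000001000000080000004000000200000010000000800000040000002000000100000008000000400000020000001000000080000004000000200000010000000800000040000002000000100000008000000400000020000001000000080000004000000200000010000000800000040000002000000100000008000000400000020000001000000080000004000000200000010000000800000040000002000000100000008000000400000020000001000000080000004000000200000010000000800000040000002000000100000008000000400000020000001000000080),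
 (13, 0x80000004000000200000010000000800000040000002000000100000008000000400000020000001000000080000004000000200000010000000800000040000002000000100000008000000400000020000001000000080000004000000200000010000000800000040000002000000100000008000000400000020000001000000080000004000000200000010000000800000040000002000000100000008000000400000020000001000000080000004000000200000010000000800000040000002000000100000008000000400000020000001000000080000004000000200000010000000800000040000002000000100000008000000400000020000001000000080000004000000200000010000000800000040000002000000100000008000000400000020000001000000080000004000000200000010000000800000040000002000000100000008000000400000020000001000000080000004000000200000010000000800000040000002000000100000008000000400000020000001000000080000004000000200000010000000800000040000002000000100000008000000400000020000001000000080000004000000200000010000000800000040000002000000100000008000000400000020000001000000080000004000000200000010000000800000040000002000000100),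
 (11, 0x100000008000000400000020000001000000080000004000000200000010000000800000040000002000000100000008000000400000020000001000000080000004000000200000010000000800000040000002000000100000008000000400000020000001000000080000004000000200000010000000800000040000002000000100000008000000400000020000001000000080000004000000200000010000000800000040000002000000100000008000000400000020000001000000080000004000000200000010000000800000040000002000000100000008000000400000020000001000000080000004000000200000010000000800000040000002000000100000008000000400000020000001000000080000004000000200000010000000800000040000002000000100000008000000400000020000001000000080000004000000200000010000000800000040000002000000100000008000000400000020000001000000080000004000000200000010000000800000040000002000000100000008000000400000020000001000000080000004000000200000010000000800000040000002000000100000008000000400000020000001000000080000004000000200000010000000800000040000002000000100000008000000400000020000001000000080000004000000200),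
 (9, 0x200000010000000800000040000002000000100000008000000400000020000001000000080000004000000200000010000000800000040000002000000100000008000000400000020000001000000080000004000000200000010000000800000040000002000000100000008000000400000020000001000000080000004000000200000010000000800000040000002000000100000008000000400000020000001000000080000004000000200000010000000800000040000002000000100000008000000400000020000001000000080000004000000200000010000000800000040000002000000100000008000000400000020000001000000080000004000000200000010000000800000040000002000000100000008000000400000020000001000000080000004000000200000010000000800000040000002000000100000008000000400000020000001000000080000004000000200000010000000800000040000002000000100000008000000400000020000001000000080000004000000200000010000000800000040000002000000100000008000000400000020000001000000080000004000000200000010000000800000040000002000000100000008000000400000020000001000000080000004000000200000010000000800000040000002000000100000008000000400),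
 (7, 0x400000020000001000000080000004000000200000010000000800000040000002000000100000008000000400000020000001000000080000004000000200000010000000800000040000002000000100000008000000400000020000001000000080000004000000200000010000000800000040000002000000100000008000000400000020000001000000080000004000000200000010000000800000040000002000000100000008000000400000020000001000000080000004000000200000010000000800000040000002000000100000008000000400000020000001000000080000004000000200000010000000800000040000002000000100000008000000400000020000001000000080000004000000200000010000000800000040000002000000100000008000000400000020000001000000080000004000000200000010000000800000040000002000000100000008000000400000020000001000000080000004000000200000010000000800000040000002000000100000008000000400000020000001000000080000004000000200000010000000800000040000002000000100000008000000400000020000001000000080000004000000200000010000000800000040000002000000100000008000000400000020000001000000080000004000000200000010000000800),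
 (5, 0x800000040000002000000100000008000000400000020000001000000080000004000000200000010000000800000040000002000000100000008000000400000020000001000000080000004000000200000010000000800000040000002000000100000008000000400000020000001000000080000004000000200000010000000800000040000002000000100000008000000400000020000001000000080000004000000200000010000000800000040000002000000100000008000000400000020000001000000080000004000000200000010000000800000040000002000000100000008000000400000020000001000000080000004000000200000010000000800000040000002000000100000008000000400000020000001000000080000004000000200000010000000800000040000002000000100000008000000400000020000001000000080000004000000200000010000000800000040000002000000100000008000000400000020000001000000080000004000000200000010000000800000040000002000000100000008000000400000020000001000000080000004000000200000010000000800000040000002000000100000008000000400000020000001000000080000004000000200000010000000800000040000002000000100000008000000400000020000001000),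
 (3, 0x1000000080000004000000200000010000000800000040000002000000100000008000000400000020000001000000080000004000000200000010000000800000040000002000000100000008000000400000020000001000000080000004000000200000010000000800000040000002000000100000008000000400000020000001000000080000004000000200000010000000800000040000002000000100000008000000400000020000001000000080000004000000200000010000000800000040000002000000100000008000000400000020000001000000080000004000000200000010000000800000040000002000000100000008000000400000020000001000000080000004000000200000010000000800000040000002000000100000008000000400000020000001000000080000004000000200000010000000800000040000002000000100000008000000400000020000001000000080000004000000200000010000000800000040000002000000100000008000000400000020000001000000080000004000000200000010000000800000040000002000000100000008000000400000020000001000000080000004000000200000010000000800000040000002000000100000008000000400000020000001000000080000004000000200000010000000800000040000002000),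
 (1, 0x2000000100000008000000400000020000001000000080000004000000200000010000000800000040000002000000100000008000000400000020000001000000080000004000000200000010000000800000040000002000000100000008000000400000020000001000000080000004000000200000010000000800000040000002000000100000008000000400000020000001000000080000004000000200000010000000800000040000002000000100000008000000400000020000001000000080000004000000200000010000000800000040000002000000100000008000000400000020000001000000080000004000000200000010000000800000040000002000000100000008000000400000020000001000000080000004000000200000010000000800000040000002000000100000008000000400000020000001000000080000004000000200000010000000800000040000002000000100000008000000400000020000001000000080000004000000200000010000000800000040000002000000100000008000000400000020000001000000080000004000000200000010000000800000040000002000000100000008000000400000020000001000000080000004000000200000010000000800000040000002000000100000008000000400000020000001000000080000004000)]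

end Cfsg.Agent.H999.RuRotData
end
end
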